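import Mathlib.LinearAlgebra.Matrix.Determinant.Basic
import Mathlib.LinearAlgebra.Multilinear.Basic
import Mathlib.RingTheory.Ideal.Span
import Mathlib.RingTheory.Ideal.Operations

/-!
# The maximal minors of a right invertible matrix generate the unit ideal
-/

namespace Groth.Agent.Lib.Smoothing.Minors

variable {S : Type*} [CommRing S] {σ ι : Type*} [Fintype σ] [DecidableEq σ] [Fintype ι]

/-- The determinant of a product lies in the ideal of maximal minors of the left factor. -/
theorem det_mul_mem_span (J : Matrix σ ι S) (L : Matrix ι σ S) :
    (J * L).det ∈ Ideal.span (Set.range fun cols : σ → ι => (J.submatrix id cols).det) := by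
  classical
  rw [← Matrix.det_transpose]
  have hrow : (fun k => (J * L).transpose k) = fun k => ∑ i, L i k • fun j => J j i := by
    funext k j
    simp [Matrix.mul_apply, mul_comm]
  show Matrix.detRowAlternating.toMultilinearMap (fun k => (J * L).transpose k) ∈ _
  rw [hrow, MultilinearMap.map_sum]
  refine Submodule.sum_mem _ fun cols _ => ?_
  rw [MultilinearMap.map_smul_univ, smul_eq_mul]
  refine Ideal.mul_mem_left _ _ (Ideal.subset_span ⟨cols, ?_⟩)
  show (J.submatrix id cols).det = _
  rw [← Matrix.det_transpose]
  rfl

/-- The maximal minors of a right invertible matrix generate the unit ideal. -/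
theorem span_minors_eq_top (J : Matrix σ ι S) (L : Matrix ι σ S) (h : J * L = 1) :
    Ideal.span (Set.range fun cols : σ → ι => (J.submatrix id cols).det) = ⊤ := by
  rw [Ideal.eq_top_iff_one, ← Matrix.det_one (n := σ) (R := S), ← h]
  exact det_mul_mem_span J L

end Groth.Agent.Lib.Smoothing.Minors
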