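import Mathlib.RingTheory.Localization.Away.Basic
import Mathlib.Algebra.MvPolynomial.PDeriv
import Mathlib.RingTheory.Ideal.Quotient.Operations

/-!
# A presentation of `A_a` from a presentation of `A`
-/

universe u

open MvPolynomial

namespace Groth.Agent.Lib.Smoothing.AwayQuot

variable {R : Type u} [CommRing R] {A : Type*} [CommRing A] [Algebra R A] {ι σ : Type*}
  (φ : MvPolynomial ι R →ₐ[R] A) (f : σ → MvPolynomial ι R) (g : MvPolynomial ι R)

/-- The relations of `A_a`: those of `A`, and `y g - 1`. -/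
noncomputable def relAway : σ ⊕ Unit → MvPolynomial (ι ⊕ Unit) R :=
  Sum.elim (fun j => rename Sum.inl (f j)) (fun _ => X (Sum.inr ()) * rename Sum.inl g - 1)

@[simp] theorem relAway_inl (j : σ) : relAway f g (.inl j) = rename Sum.inl (f j) := rfl
@[simp] theorem relAway_inr (u : Unit) :
    relAway f g (.inr u) = X (Sum.inr ()) * rename Sum.inl g - 1 := rfl

variable (Aa : Type*) [CommRing Aa] [Algebra A Aa] [Algebra R Aa] [IsScalarTower R A Aa]
  [IsLocalization.Away (φ g) Aa]

/-- The map `R[x, y] → A_a`. -/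
noncomputable def awayHom : MvPolynomial (ι ⊕ Unit) R →ₐ[R] Aa :=
  aeval (Sum.elim (fun i => algebraMap A Aa (φ (X i)))
    (fun _ => IsLocalization.Away.invSelf (S := Aa) (φ g)))

theorem awayHom_rename (p : MvPolynomial ι R) :
    awayHom φ g Aa (rename Sum.inl p) = algebraMap A Aa (φ p) := by
  suffices (awayHom φ g Aa).comp (rename Sum.inl) = (IsScalarTower.toAlgHom R A Aa).comp φ from
    DFunLike.congr_fun this p
  apply algHom_ext
  intro i
  simp [awayHom]

theorem awayHom_surjective (hφ : Function.Surjective φ) : Function.Surjective (awayHom φ g Aa) := by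
  intro z
  obtain ⟨⟨x, _, n, rfl⟩, hn⟩ := IsLocalization.surj (Submonoid.powers (φ g)) z
  obtain ⟨p, rfl⟩ := hφ x
  refine ⟨rename Sum.inl p * X (Sum.inr ()) ^ n, ?_⟩
  have h1 := IsLocalization.Away.mul_invSelf (S := Aa) (φ g)
  rw [map_mul, awayHom_rename, ← hn, map_pow, map_pow]
  simp only [awayHom, aeval_X, Sum.elim_inr]
  rw [mul_assoc, ← mul_pow, h1, one_pow, mul_one]

theorem ker_awayHom (hφ : Function.Surjective φ)
    (hker : RingHom.ker φ.toRingHom = Ideal.span (Set.range f)) :
    RingHom.ker (awayHom φ g Aa).toRingHom = Ideal.span (Set.range (relAway f g)) := by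
  set K := Ideal.span (Set.range (relAway f g)) with hK
  refine le_antisymm (fun p hp => ?_) (Ideal.span_le.2 ?_)
  · let μ := Ideal.Quotient.mkₐ R K
    let μ' : MvPolynomial ι R →ₐ[R] MvPolynomial (ι ⊕ Unit) R ⧸ K := μ.comp (rename Sum.inl)
    have hμ : RingHom.ker φ ≤ RingHom.ker μ' := by
      show RingHom.ker φ.toRingHom ≤ _
      rw [hker, Ideal.span_le]
      rintro _ ⟨j, rfl⟩
      exact Ideal.Quotient.eq_zero_iff_mem.2 (Ideal.subset_span ⟨.inl j, rfl⟩)
    let β : A →ₐ[R] MvPolynomial (ι ⊕ Unit) R ⧸ K :=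
      AlgHom.liftOfSurjective φ hφ μ' hμ
    have hβ : ∀ q, β (φ q) = μ' q := AlgHom.liftOfSurjective_apply φ hφ μ' hμ
    have hy : μ (X (Sum.inr ())) * β (φ g) = 1 := by
      rw [hβ, ← sub_eq_zero]
      show μ (X (Sum.inr ())) * μ (rename Sum.inl g) - 1 = 0
      rw [← map_mul, ← map_one μ, ← map_sub]
      exact Ideal.Quotient.eq_zero_iff_mem.2 (Ideal.subset_span ⟨.inr (), rfl⟩)
    have hu : IsUnit (β.toRingHom (φ g)) := .of_mul_eq_one_right _ hy
    let γ : Aa →+* MvPolynomial (ι ⊕ Unit) R ⧸ K := IsLocalization.Away.lift (φ g) hu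
    have hγ : ∀ a, γ (algebraMap A Aa a) = β a := IsLocalization.Away.lift_eq (φ g) hu
    have key : γ.comp (awayHom φ g Aa).toRingHom = (Ideal.Quotient.mk K) := by
      apply MvPolynomial.ringHom_ext
      · intro r
        show γ (awayHom φ g Aa (C r)) = _
        rw [← MvPolynomial.algebraMap_eq, AlgHom.commutes, IsScalarTower.algebraMap_apply R A Aa, hγ,
          AlgHom.commutes]
        rfl
      · rintro (i | ⟨⟩)
        · show γ (awayHom φ g Aa (X (Sum.inl i))) = _
          rw [show (X (Sum.inl i) : MvPolynomial (ι ⊕ Unit) R) = rename Sum.inl (X i) by simp,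
            awayHom_rename, hγ, hβ]
          simp [μ', μ]
        · show γ (awayHom φ g Aa (X (Sum.inr ()))) = _
          simp only [awayHom, aeval_X, Sum.elim_inr]
          have h1 : γ (IsLocalization.Away.invSelf (S := Aa) (φ g)) * β (φ g) = 1 := by
            rw [← hγ, ← map_mul, mul_comm, IsLocalization.Away.mul_invSelf, map_one]
          exact hu.mul_right_cancel (h1.trans hy.symm)
    rw [← Ideal.Quotient.eq_zero_iff_mem, ← key]
    simpa using congrArg γ (RingHom.mem_ker.1 hp)
  · rintro _ ⟨j | u, rfl⟩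
    · show awayHom φ g Aa (relAway f g (.inl j)) = 0
      rw [relAway_inl, awayHom_rename,
        show φ (f j) = 0 from hker.ge (Ideal.subset_span ⟨j, rfl⟩), map_zero]
    · show awayHom φ g Aa (relAway f g (.inr u)) = 0
      rw [relAway_inr, map_sub, map_mul, map_one, awayHom_rename]
      simp only [awayHom, aeval_X, Sum.elim_inr]
      rw [mul_comm, IsLocalization.Away.mul_invSelf, sub_self]

omit [Algebra R A] in
theorem pderiv_inl_rename (i : ι) (p : MvPolynomial ι R) :
    pderiv (Sum.inl i : ι ⊕ Unit) (rename Sum.inl p) = rename Sum.inl (pderiv i p) :=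
  pderiv_rename Sum.inl_injective i p

theorem pderiv_inr_rename (u : Unit) (p : MvPolynomial ι R) :
    pderiv (Sum.inr u : ι ⊕ Unit) (rename Sum.inl p) = 0 := by
  apply pderiv_eq_zero_of_notMem_vars
  intro h
  classical
  obtain ⟨i, -, hi⟩ := Finset.mem_image.1 (vars_rename Sum.inl p h)
  exact Sum.inl_ne_inr hi

end Groth.Agent.Lib.Smoothing.AwayQuot
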