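import Mathlib.RingTheory.Smooth.Basic
import Mathlib.RingTheory.Extension.Cotangent.Basic
import Mathlib.LinearAlgebra.Matrix.DotProduct
import Mathlib.LinearAlgebra.Matrix.ToLin

/-!
# Presentations whose leading relations have a right invertible Jacobian
-/

universe u

open MvPolynomial

namespace Groth.Agent.Lib.Smoothing.Leading

variable {R : Type u} [CommRing R] {S : Type u} [CommRing S] [Algebra R S] {ι : Type}
  {σ : Type} [Fintype σ] [DecidableEq σ] [Fintype ι]

/-- If the leading relations `rows` span the relation ideal modulo its square and their Jacobian has a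
right inverse, then the algebra is smooth and its differentials are stably free. -/
theorem smooth_stablyFree_of_leading (ψ : MvPolynomial ι R →ₐ[R] S) (hψ : Function.Surjective ψ)
    (hfg : (RingHom.ker ψ.toRingHom).FG) (rows : σ → MvPolynomial ι R)
    (hrows : ∀ j, ψ (rows j) = 0)
    (hgen : RingHom.ker ψ.toRingHom ≤
      Ideal.span (Set.range rows) ⊔ RingHom.ker ψ.toRingHom ^ 2)
    (L : Matrix ι σ S) (hL : (Matrix.of fun j i => ψ (pderiv i (rows j))) * L = 1) :
    Algebra.Smooth R S ∧ Nonempty ((Ω[S⁄R] × (σ → S)) ≃ₗ[S] (ι → S)) := by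
  have haev : ∀ p, aeval (R := R) (ψ ∘ X) p = ψ p := fun p =>
    (DFunLike.congr_fun (aeval_unique ψ) p).symm
  let G : Algebra.Generators R S ι := Algebra.Generators.ofSurjective (ψ ∘ X) fun s => by
    obtain ⟨p, hp⟩ := hψ s
    exact ⟨p, (haev p).trans hp⟩
  have hmap : ∀ p : G.Ring, algebraMap G.Ring S p = ψ p := fun p => by
    rw [Algebra.Generators.algebraMap_apply]; exact haev p
  have hker : ∀ p : G.Ring, p ∈ G.toExtension.ker ↔ ψ p = 0 := fun p => by
    show algebraMap G.Ring S p = 0 ↔ _
    rw [hmap]
  let c : σ → G.toExtension.Cotangent := fun j =>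
    Algebra.Extension.Cotangent.mk ⟨rows j, (hker _).2 (hrows j)⟩
  let ρ : (σ → S) →ₗ[S] G.toExtension.Cotangent := Fintype.linearCombination S c
  -- the leading relations span the cotangent module
  have hρ : Function.Surjective ρ := by
    intro z
    obtain ⟨⟨p, hp⟩, rfl⟩ := Algebra.Extension.Cotangent.mk_surjective z
    have h1 : (∀ q ∈ Ideal.span (Set.range rows), ∀ hq : q ∈ G.toExtension.ker,
        Algebra.Extension.Cotangent.mk ⟨q, hq⟩ ∈ LinearMap.range ρ) := by
      intro q hq
      refine Submodule.span_induction ?_ ?_ ?_ ?_ hq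
      · rintro _ ⟨j, rfl⟩ _
        exact ⟨Pi.single j 1, by simp [ρ, Fintype.linearCombination_apply, Pi.single_apply, c]⟩
      · intro hq
        exact ⟨0, by rw [map_zero]; exact (map_zero Algebra.Extension.Cotangent.mk).symm⟩
      · intro a b ha' hb' ha hb hab
        have hka : a ∈ G.toExtension.ker :=
          (Ideal.span_le.2 (by rintro _ ⟨j, rfl⟩; exact (hker _).2 (hrows j)) : _ ≤ G.toExtension.ker) ha'
        have hkb : b ∈ G.toExtension.ker :=
          (Ideal.span_le.2 (by rintro _ ⟨j, rfl⟩; exact (hker _).2 (hrows j)) : _ ≤ G.toExtension.ker) hb'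
        rw [show (⟨a + b, hab⟩ : G.toExtension.ker) = ⟨a, hka⟩ + ⟨b, hkb⟩ from rfl, map_add]
        exact add_mem (ha hka) (hb hkb)
      · intro r a ha' ha hra
        have hka : a ∈ G.toExtension.ker :=
          (Ideal.span_le.2 (by rintro _ ⟨j, rfl⟩; exact (hker _).2 (hrows j)) : _ ≤ G.toExtension.ker) ha'
        let r' : G.toExtension.Ring := r
        rw [show (⟨r • a, hra⟩ : G.toExtension.ker) = r' • ⟨a, hka⟩ from rfl,
          map_smul, ← algebraMap_smul S r']
        exact Submodule.smul_mem _ _ (ha hka)
    obtain ⟨a, ha, b, hb, rfl⟩ := Submodule.mem_sup.1 (hgen ((hker p).1 hp))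
    have hka : a ∈ G.toExtension.ker := by
      refine (hker a).2 ?_
      have : Ideal.span (Set.range rows) ≤ RingHom.ker ψ.toRingHom :=
        Ideal.span_le.2 (by rintro _ ⟨j, rfl⟩; exact hrows j)
      exact this ha
    have hb2 : b ∈ G.toExtension.ker ^ 2 := by
      have : RingHom.ker ψ.toRingHom ≤ G.toExtension.ker := fun x hx => (hker x).2 hx
      exact Ideal.pow_right_mono this 2 hb
    have hkb : b ∈ G.toExtension.ker := Ideal.pow_le_self two_ne_zero hb2
    rw [show (⟨a + b, hp⟩ : G.toExtension.ker) = ⟨a, hka⟩ + ⟨b, hkb⟩ from rfl, map_add,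
      show Algebra.Extension.Cotangent.mk (⟨b, hkb⟩ : G.toExtension.ker) = 0 from
        (Algebra.Extension.Cotangent.mk_eq_zero_iff _).2 hb2, add_zero]
    exact h1 a ha hka
  let B := G.cotangentSpaceBasis
  let lam : G.toExtension.CotangentSpace →ₗ[S] (σ → S) :=
    (Matrix.vecMulLinear L) ∘ₗ B.equivFun.toLinearMap
  have hd : ∀ j i, B.repr (G.toExtension.cotangentComplex (c j)) i = ψ (pderiv i (rows j)) := by
    intro j i
    rw [Algebra.Extension.cotangentComplex_mk]
    erw [Algebra.Generators.cotangentSpaceBasis_repr_one_tmul]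
    exact haev _
  have hlam : ∀ v, lam (G.toExtension.cotangentComplex (ρ v)) = v := by
    intro v
    have : B.equivFun (G.toExtension.cotangentComplex (ρ v)) =
        Matrix.vecMul v (Matrix.of fun j i => ψ (pderiv i (rows j))) := by
      funext i
      simp only [ρ, Fintype.linearCombination_apply, map_sum, map_smul, Matrix.vecMul, dotProduct,
        Finset.sum_apply, Pi.smul_apply, smul_eq_mul, Matrix.of_apply, Module.Basis.equivFun_apply]
      simp [hd]
    show Matrix.vecMul (B.equivFun (G.toExtension.cotangentComplex (ρ v))) L = v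
    rw [this, Matrix.vecMul_vecMul, hL, Matrix.vecMul_one]
  have : Algebra.FormallySmooth R G.toExtension.Ring :=
    inferInstanceAs (Algebra.FormallySmooth R (MvPolynomial ι R))
  refine ⟨{ formallySmooth := ?_, finitePresentation := ?_ }, ?_⟩
  · rw [G.toExtension.formallySmooth_iff_split_injection]
    refine ⟨ρ ∘ₗ lam, LinearMap.ext fun z => ?_⟩
    obtain ⟨v, rfl⟩ := hρ z
    simp [hlam]
  · exact Algebra.FinitePresentation.of_surjective hψ hfg
  · let E : G.toExtension.CotangentSpace →ₗ[S] Ω[S⁄R] × (σ → S) := G.toExtension.toKaehler.prod lam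
    have hE : Function.Bijective E := by
      constructor
      · rw [injective_iff_map_eq_zero]
        intro w hw
        obtain ⟨z, rfl⟩ := (G.toExtension.exact_cotangentComplex_toKaehler w).1 (congrArg Prod.fst hw)
        obtain ⟨v, rfl⟩ := hρ z
        have := congrArg Prod.snd hw
        simp only [E, LinearMap.prod_apply, Function.prod_apply, hlam, Prod.snd_zero] at this
        rw [this, map_zero, map_zero]
      · rintro ⟨ω, v⟩
        obtain ⟨w, rfl⟩ := G.toExtension.toKaehler_surjective ω
        refine ⟨w + G.toExtension.cotangentComplex (ρ (v - lam w)), Prod.ext ?_ ?_⟩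
        · show G.toExtension.toKaehler _ = _
          rw [map_add, G.toExtension.exact_cotangentComplex_toKaehler.apply_apply_eq_zero, add_zero]
        · show lam _ = _
          rw [map_add, hlam]
          abel
    exact ⟨(LinearEquiv.ofBijective E hE).symm.trans B.equivFun⟩

end Groth.Agent.Lib.Smoothing.Leading
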