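import Groth.Prelude.Def_Smoothing
import Groth.Agent.Lib.Smoothing.AwayQuot
import Groth.Agent.Lib.Smoothing.Leading
import Mathlib.RingTheory.Smooth.StandardSmooth
import Mathlib.RingTheory.Localization.Away.Lemmas
import Mathlib.RingTheory.Ideal.IdempotentFG
import Mathlib.LinearAlgebra.Matrix.SchurComplement
import Mathlib.LinearAlgebra.Matrix.Adjugate

/-!
# Elementary and strictly standard elements
-/

universe u

open MvPolynomial Groth.Agent.Lib.Smoothing.AwayQuot

namespace Groth.Agent.Lib.Smoothing.Standard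

variable {R A : Type u} [CommRing R] [CommRing A] [Algebra R A]

/-- The Jacobian of the leading relations of a marked presentation. -/
noncomputable def jac (P : _root_.Smoothing.MarkedPresentation R A) :
    Matrix (Fin P.c) (Fin P.n) A :=
  Matrix.of fun j i => P.hom (pderiv i (P.rel (Fin.castLE P.hcm j)))

theorem exists_mul_eq_smul_one (P : _root_.Smoothing.MarkedPresentation R A) {a : A}
    (ha : a ∈ Ideal.span (Set.range fun cols : Fin P.c → Fin P.n =>
      P.hom (_root_.Smoothing.jacobianMinor P.rel (Fin.castLE P.hcm) cols))) :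
    ∃ M : Matrix (Fin P.n) (Fin P.c) A, jac P * M = a • (1 : Matrix (Fin P.c) (Fin P.c) A) := by
  refine Submodule.span_induction ?_ ?_ ?_ ?_ ha
  · rintro _ ⟨cols, rfl⟩
    refine ⟨(1 : Matrix (Fin P.n) (Fin P.n) A).submatrix id cols *
      ((jac P).submatrix id cols).adjugate, ?_⟩
    have hsel : jac P * (1 : Matrix (Fin P.n) (Fin P.n) A).submatrix id cols =
        (jac P).submatrix id cols := by
      ext i j
      simp [Matrix.mul_apply, Matrix.one_apply]
    rw [← Matrix.mul_assoc, hsel, Matrix.mul_adjugate]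
    congr 1
    show _ = P.hom.toRingHom _
    rw [_root_.Smoothing.jacobianMinor, RingHom.map_det]
    rfl
  · exact ⟨0, by simp⟩
  · rintro x y _ _ ⟨M, hM⟩ ⟨N, hN⟩
    exact ⟨M + N, by rw [Matrix.mul_add, hM, hN, add_smul]⟩
  · rintro r x _ ⟨M, hM⟩
    exact ⟨r • M, by rw [Matrix.mul_smul, hM, smul_smul]; rfl⟩

/-- The leading relations of `A_a`. -/
noncomputable def lead (P : _root_.Smoothing.MarkedPresentation R A) (g : MvPolynomial (Fin P.n) R) :
    Fin P.c ⊕ Unit → MvPolynomial (Fin P.n ⊕ Unit) R :=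
  fun j => relAway P.rel g (Sum.map (Fin.castLE P.hcm) id j)

theorem span_lead_le (P : _root_.Smoothing.MarkedPresentation R A) (g : MvPolynomial (Fin P.n) R) :
    Ideal.span (Set.range (lead P g)) ≤ Ideal.span (Set.range (relAway P.rel g)) :=
  Ideal.span_mono (by rintro _ ⟨j, rfl⟩; exact ⟨_, rfl⟩)

theorem span_relAway_le (P : _root_.Smoothing.MarkedPresentation R A) {a : A}
    (hk : _root_.Smoothing.KillsTail P a) {g : MvPolynomial (Fin P.n) R} (hg : P.hom g = a) :
    Ideal.span (Set.range (relAway P.rel g)) ≤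
      Ideal.span (Set.range (lead P g)) ⊔ Ideal.span (Set.range (relAway P.rel g)) ^ 2 := by
  rw [Ideal.span_le]
  rintro _ ⟨j | u, rfl⟩
  · by_cases hj : (j : ℕ) < P.c
    · exact Ideal.mem_sup_left (Ideal.subset_span ⟨.inl ⟨j, hj⟩, rfl⟩)
    · have h1 := hk g hg j (not_lt.1 hj)
      have h2 : (rename Sum.inl (g * P.rel j) : MvPolynomial (Fin P.n ⊕ Unit) R) ∈
          Ideal.span (Set.range (lead P g)) ⊔ Ideal.span (Set.range (relAway P.rel g)) ^ 2 := by
        have h3 := Ideal.mem_map_of_mem (rename (R := R) (Sum.inl : Fin P.n → Fin P.n ⊕ Unit)).toRingHom h1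
        rw [Ideal.map_sup, Ideal.map_span, Ideal.map_pow, Ideal.map_span] at h3
        refine SetLike.le_def.1 (sup_le_sup ?_ (Ideal.pow_right_mono ?_ 2)) h3
        · refine Ideal.span_mono ?_
          rintro _ ⟨_, ⟨k, hk', rfl⟩, rfl⟩
          exact ⟨.inl ⟨k, hk'⟩, rfl⟩
        · refine Ideal.span_mono ?_
          rintro _ ⟨_, ⟨k, rfl⟩, rfl⟩
          exact ⟨.inl k, rfl⟩
      have h4 : relAway P.rel g (.inr ()) ∈
          Ideal.span (Set.range (lead P g)) ⊔ Ideal.span (Set.range (relAway P.rel g)) ^ 2 :=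
        Ideal.mem_sup_left (Ideal.subset_span ⟨.inr (), rfl⟩)
      have h5 : relAway P.rel g (.inl j) = X (Sum.inr ()) * rename Sum.inl (g * P.rel j) -
          rename Sum.inl (P.rel j) * relAway P.rel g (.inr ()) := by
        rw [relAway_inl, relAway_inr, map_mul]; ring
      show relAway P.rel g (.inl j) ∈ _
      rw [h5]
      exact Ideal.sub_mem _ (Ideal.mul_mem_left _ _ h2) (Ideal.mul_mem_left _ _ h4)
  · exact Ideal.mem_sup_left (Ideal.subset_span ⟨.inr (), rfl⟩)

/-- A strictly standard element gives a smooth localization with stably free differentials. -/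
theorem smooth_stablyFree (a : A) (ha : _root_.Smoothing.IsStrictlyStandard R A a) :
    Algebra.Smooth R (Localization.Away a) ∧
      ∃ p q : ℕ, Nonempty ((Ω[Localization.Away a⁄R] × (Fin p → Localization.Away a))
        ≃ₗ[Localization.Away a] (Fin q → Localization.Away a)) := by
  obtain ⟨P, hmem, hk⟩ := ha
  obtain ⟨g, rfl⟩ := P.surj a
  obtain ⟨M, hM⟩ := exists_mul_eq_smul_one P hmem
  let Aa := Localization.Away (P.hom g)
  let ψ := awayHom P.hom g Aa
  have hk' := ker_awayHom P.hom P.rel g Aa P.surj P.ker_eq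
  let inv : Aa := IsLocalization.Away.invSelf (P.hom g)
  have hinv : algebraMap A Aa (P.hom g) * inv = 1 := IsLocalization.Away.mul_invSelf _
  let L0 : Matrix (Fin P.n) (Fin P.c) Aa := inv • M.map (algebraMap A Aa)
  let w : Matrix Unit (Fin P.n) Aa :=
    Matrix.of fun _ i => ψ (pderiv (Sum.inl i) (relAway P.rel g (.inr ())))
  let L : Matrix (Fin P.n ⊕ Unit) (Fin P.c ⊕ Unit) Aa :=
    Matrix.fromBlocks L0 0 (-(inv • (w * L0))) (inv • (1 : Matrix Unit Unit Aa))
  have hJ : (Matrix.of fun j i => ψ (pderiv i (lead P g j))) =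
      Matrix.fromBlocks ((jac P).map (algebraMap A Aa)) 0 w
        (algebraMap A Aa (P.hom g) • (1 : Matrix Unit Unit Aa)) := by
    ext (j | j) (i | i)
    · simp [lead, jac, ψ, pderiv_inl_rename, awayHom_rename]
    · simp [lead, pderiv_inr_rename, ψ]
    · rfl
    · simp [lead, ψ, pderiv_inr_rename, pderiv_mul, awayHom_rename, Matrix.one_apply, Matrix.smul_apply, smul_eq_mul]; exact (Algebra.algebraMap_eq_smul_one _)
  have h1 : (jac P).map (algebraMap A Aa) * L0 = 1 := by
    rw [Matrix.mul_smul, ← Matrix.map_mul, hM]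
    ext i j
    simp only [Matrix.smul_apply, Matrix.map_apply, smul_eq_mul, map_mul, Matrix.one_apply]
    split_ifs <;> simp [← mul_assoc, mul_comm inv, hinv]
  obtain ⟨hsm, ⟨e⟩⟩ := Leading.smooth_stablyFree_of_leading ψ
    (awayHom_surjective P.hom g Aa P.surj) (by rw [hk']; exact Submodule.fg_span (Set.finite_range _))
    (lead P g) (fun j => hk'.ge (span_lead_le P g (Ideal.subset_span ⟨j, rfl⟩)))
    (by rw [hk']; exact span_relAway_le P hk rfl) L
    (by
      rw [hJ, Matrix.fromBlocks_multiply, h1]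
      simp only [Matrix.mul_zero, Matrix.zero_mul, add_zero, Matrix.smul_mul, Matrix.one_mul,
        Matrix.mul_smul, smul_neg, smul_smul]
      rw [mul_comm inv, hinv, one_smul, smul_zero, zero_add]
      rw [add_neg_cancel, zero_add, one_smul]
      exact Matrix.fromBlocks_one)
  let e₁ := LinearEquiv.funCongrLeft Aa Aa (Fintype.equivFin (Fin P.c ⊕ Unit)).symm
  let e₂ := LinearEquiv.funCongrLeft Aa Aa (Fintype.equivFin (Fin P.n ⊕ Unit)).symm
  exact ⟨hsm, _, _, ⟨(((LinearEquiv.refl Aa Ω[Aa⁄R]).prodCongr e₁.symm).trans e).trans e₂⟩⟩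

/-- An elementary standard element gives a standard smooth localization. -/
theorem isStandardSmooth (a : A) (ha : _root_.Smoothing.IsElementaryStandard R A a) :
    Algebra.IsStandardSmooth R (Localization.Away a) := by
  obtain ⟨P, ⟨a', rfl⟩, hk⟩ := ha
  obtain ⟨b, rfl⟩ := P.surj a'
  set D := _root_.Smoothing.jacobianMinor P.rel (Fin.castLE P.hcm) (Fin.castLE P.hcn) with hD
  rw [← map_mul] at hk ⊢
  let g := b * D
  let Aa := Localization.Away (P.hom g)
  let ψ := awayHom P.hom g Aa
  have hk' := ker_awayHom P.hom P.rel g Aa P.surj P.ker_eq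
  let cols : Fin P.c ⊕ Unit → Fin P.n ⊕ Unit := Sum.map (Fin.castLE P.hcn) id
  let Q1 := MvPolynomial (Fin P.n ⊕ Unit) R ⧸ Ideal.span (Set.range (lead P g))
  let μ : MvPolynomial (Fin P.n ⊕ Unit) R →ₐ[R] Q1 := Ideal.Quotient.mkₐ R _
  let N := Algebra.PreSubmersivePresentation.naive (v := lead P g) cols
    (Sum.map_injective.2 ⟨Fin.castLE_injective _, fun _ _ h => h⟩)
  have hjm : N.jacobiMatrix = Matrix.fromBlocks
      ((Matrix.of fun j k : Fin P.c => pderiv (Fin.castLE P.hcn k) (P.rel (Fin.castLE P.hcm j))).map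
        (rename (Sum.inl : _ → Fin P.n ⊕ Unit))).transpose
      (Matrix.of fun k _ => pderiv (cols (.inl k)) (lead P g (.inr ())))
      0 ((rename (Sum.inl : _ → Fin P.n ⊕ Unit) g) • 1) := by
    refine Matrix.ext fun i j => ?_
    rcases i with i | i <;> rcases j with j | j
    · show N.jacobiMatrix _ _ = _
      erw [Algebra.PreSubmersivePresentation.jacobiMatrix_naive]
      simp [lead, cols, pderiv_inl_rename]
    · show N.jacobiMatrix _ _ = _
      erw [Algebra.PreSubmersivePresentation.jacobiMatrix_naive]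
      rfl
    · show N.jacobiMatrix _ _ = _
      erw [Algebra.PreSubmersivePresentation.jacobiMatrix_naive]
      simp [lead, cols, pderiv_inr_rename]
    · show N.jacobiMatrix _ _ = _
      erw [Algebra.PreSubmersivePresentation.jacobiMatrix_naive]
      simp [lead, cols, pderiv_inr_rename, pderiv_mul, Matrix.one_apply]
  have hunit : IsUnit (μ (rename Sum.inl g)) := by
    refine .of_mul_eq_one_right (μ (X (Sum.inr ()))) ?_
    rw [← map_mul, ← sub_eq_zero, ← map_one μ, ← map_sub]
    exact Ideal.Quotient.eq_zero_iff_mem.2 (Ideal.subset_span ⟨.inr (), rfl⟩)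
  have hval : ∀ p : N.Ring, algebraMap N.Ring Q1 p = μ p := fun p => by
    rw [Algebra.Generators.algebraMap_apply]
    suffices aeval (R := R) N.val = μ from DFunLike.congr_fun this p
    apply algHom_ext
    intro i
    simp [N, μ]
  let N' : Algebra.SubmersivePresentation R Q1 (Fin P.n ⊕ Unit) (Fin P.c ⊕ Unit) := ⟨N, by
    rw [Algebra.PreSubmersivePresentation.jacobian_eq_jacobiMatrix_det, hjm,
      Matrix.det_fromBlocks_zero₂₁, hval, map_mul, Matrix.det_transpose]
    refine IsUnit.mul ?_ ?_
    · rw [show (rename (Sum.inl : Fin P.n → Fin P.n ⊕ Unit) g) = rename Sum.inl b * rename Sum.inl D from map_mul _ _ _, map_mul] at hunit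
      have := isUnit_of_mul_isUnit_right hunit
      rw [hD, _root_.Smoothing.jacobianMinor] at this
      rw [AlgHom.map_det, AlgHom.mapMatrix_apply] at this
      exact this
    · rw [Matrix.det_smul, Matrix.det_one, mul_one, map_pow]
      exact hunit.pow _⟩
  have : Algebra.IsStandardSmooth R Q1 := N'.isStandardSmooth
  let π : Q1 →ₐ[R] Aa := Ideal.Quotient.liftₐ _ ψ fun p hp => hk'.ge (span_lead_le P g hp)
  have hπ : Function.Surjective π := by
    intro z
    obtain ⟨p, hp⟩ := awayHom_surjective P.hom g Aa P.surj z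
    exact ⟨μ p, hp⟩
  set I := Ideal.span (Set.range (relAway P.rel g))
  let K : Ideal Q1 := I.map (Ideal.Quotient.mk _)
  have hidem : IsIdempotentElem K := by
    refine le_antisymm Ideal.mul_le_left ?_
    calc K ≤ (Ideal.span (Set.range (lead P g)) ⊔ I ^ 2).map (Ideal.Quotient.mk _) :=
          Ideal.map_mono (span_relAway_le P hk rfl)
      _ = K * K := by rw [Ideal.map_sup, Ideal.map_quotient_self, bot_sup_eq, Ideal.map_pow, pow_two]
  obtain ⟨e, he, hKe⟩ := (Ideal.isIdempotentElem_iff_of_fg K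
    (Ideal.FG.map (Submodule.fg_span (Set.finite_range _) : Ideal.FG I) _)).1 hidem
  have hker : RingHom.ker π.toRingHom = K := by
    refine le_antisymm (fun x hx => ?_) (Ideal.map_le_iff_le_comap.2 fun p hp => hk'.ge hp)
    obtain ⟨p, rfl⟩ := Ideal.Quotient.mk_surjective x
    exact Ideal.mem_map_of_mem _ (hk'.le hx)
  let _ : Algebra Q1 Aa := π.toRingHom.toAlgebra
  have : IsScalarTower R Q1 Aa := .of_algebraMap_eq' π.comp_algebraMap.symm
  have : IsLocalization.Away (1 - e) Aa :=
    IsLocalization.away_of_isIdempotentElem he.one_sub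
      (by rw [sub_sub_cancel]; exact hker.trans hKe) hπ
  have : Algebra.IsStandardSmooth Q1 Aa := Algebra.IsStandardSmooth.localization_away (1 - e)
  exact Algebra.IsStandardSmooth.trans R Q1 Aa

end Groth.Agent.Lib.Smoothing.Standard
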