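import Groth.Agent.Lib.Smoothing.SingularComp
import Groth.Agent.Lib.Smoothing.Standard
import Mathlib.RingTheory.TensorProduct.Maps
import Mathlib.RingTheory.Smooth.Basic

/-!
# Making powers of the variables of a polynomial base lie in the singular ideal
-/

universe u

open MvPolynomial TensorProduct

namespace Groth.Agent.Lib.Smoothing.Linearize

variable {k A : Type u} [CommRing k] [CommRing A] [Algebra k A] [Algebra.FinitePresentation k A]

theorem smooth_away_tensor (R' : Type u) [CommRing R'] [Algebra k R'] (a : A)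
    [Algebra.Smooth k (Localization.Away a)] :
    Algebra.Smooth R' (Localization.Away ((1 : R') ⊗ₜ[k] a)) := by
  let A' := R' ⊗[k] A
  let a' : A' := (1 : R') ⊗ₜ[k] a
  have : Algebra.FinitePresentation A' (Localization.Away a') := IsLocalization.Away.finitePresentation a'
  refine ⟨?_, Algebra.FinitePresentation.trans R' A' _⟩
  refine .of_comp_surjective fun Q _ _ I hI f => ?_
  let _ : Algebra k Q := ((algebraMap R' Q).comp (algebraMap k R')).toAlgebra
  have : IsScalarTower k R' Q := IsScalarTower.of_algebraMap_eq' rfl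
  have hu : ∀ y : Submonoid.powers a, IsUnit (((IsScalarTower.toAlgHom k A' (Localization.Away a')).comp
      (Algebra.TensorProduct.includeRight : A →ₐ[k] A')) y) := by
    rintro ⟨_, m, rfl⟩
    rw [map_pow]
    exact (IsLocalization.Away.algebraMap_isUnit a').pow m
  let j : Localization.Away a →ₐ[k] Localization.Away a' :=
    IsLocalization.liftAlgHom (S := Localization.Away a) hu
  have hj : ∀ x, j (algebraMap A _ x) = algebraMap A' _ ((1 : R') ⊗ₜ[k] x) := fun x =>
    IsLocalization.lift_eq hu x
  let l := Algebra.FormallySmooth.lift I ⟨2, hI⟩ ((f.restrictScalars k).comp j)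
  let ψ : A' →ₐ[R'] Q := Algebra.TensorProduct.lift (Algebra.ofId R' Q)
    (l.comp (IsScalarTower.toAlgHom k A (Localization.Away a))) fun _ _ => Commute.all _ _
  have hψ : ∀ x, ψ ((1 : R') ⊗ₜ[k] x) = l (algebraMap A _ x) := fun x =>
    (Algebra.TensorProduct.lift_tmul _ _ _ _ _).trans (by rw [map_one, one_mul]; rfl)
  have hu' : ∀ y : Submonoid.powers a', IsUnit (ψ y) := by
    rintro ⟨_, m, rfl⟩
    rw [map_pow, hψ]
    exact ((IsLocalization.Away.algebraMap_isUnit a).map l).pow m
  refine ⟨IsLocalization.liftAlgHom (S := Localization.Away a') hu', ?_⟩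
  apply IsLocalization.algHom_ext (Submonoid.powers a')
  refine Algebra.TensorProduct.ext (by ext) (AlgHom.ext fun x => ?_)
  show Ideal.Quotient.mk I (IsLocalization.lift hu' (algebraMap A' _ ((1 : R') ⊗ₜ[k] x))) =
    f (algebraMap A' _ ((1 : R') ⊗ₜ[k] x))
  rw [IsLocalization.lift_eq hu']
  show Ideal.Quotient.mk I (ψ ((1 : R') ⊗ₜ[k] x)) = _
  rw [hψ, ← hj]
  exact Algebra.FormallySmooth.mk_lift I ⟨2, hI⟩ _ _

theorem isSmoothAt_of_smooth_away {R D : Type u} [CommRing R] [CommRing D] [Algebra R D]
    [Algebra.FinitePresentation R D] {h : D} [Algebra.Smooth R (Localization.Away h)] (Q : Ideal D)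
    [Q.IsPrime] (hQ : h ∉ Q) : Algebra.IsSmoothAt R Q :=
  Algebra.basicOpen_subset_smoothLocus_iff_smooth.2 ‹_›
    (show (⟨Q, ‹_›⟩ : PrimeSpectrum D) ∈ PrimeSpectrum.basicOpen h from hQ)

theorem exists_linearized [IsNoetherianRing k] {d r : ℕ} (a : Fin r → A)
    (ha : Ideal.span (Set.range a) = _root_.Smoothing.singularIdeal k A) (N : ℕ) :
    ∃ (B : Type u) (_ : CommRing B) (_ : Algebra k B) (_ : Algebra (MvPolynomial (Fin d) k) B)
      (_ : IsScalarTower k (MvPolynomial (Fin d) k) B) (α : A →ₐ[k] B),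
      Algebra.FinitePresentation (MvPolynomial (Fin d) k) B ∧
      (∀ i, algebraMap (MvPolynomial (Fin d) k) B (X i) ∈
        _root_.Smoothing.singularIdeal (MvPolynomial (Fin d) k) B) ∧
      (∀ b ∈ _root_.Smoothing.singularIdeal k A, α b ∈
        _root_.Smoothing.singularIdeal (MvPolynomial (Fin d) k) B) ∧
      ∀ (Λ : Type u) [CommRing Λ] [Algebra k Λ] [Algebra (MvPolynomial (Fin d) k) Λ]
        [IsScalarTower k (MvPolynomial (Fin d) k) Λ] (φ : A →ₐ[k] Λ),
        (∀ i, algebraMap (MvPolynomial (Fin d) k) Λ (X i) ^ N ∈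
          Ideal.span (Set.range fun j => φ (a j))) →
        ∃ h : B →ₐ[MvPolynomial (Fin d) k] Λ, ∀ x, h (α x) = φ x := by
  classical
  obtain ⟨A', _, _, _, _, hA'fp, incl, hA'sm, hA'lift⟩ :
      ∃ (A' : Type u) (_ : CommRing A') (_ : Algebra k A') (_ : Algebra (MvPolynomial (Fin d) k) A')
        (_ : IsScalarTower k (MvPolynomial (Fin d) k) A'),
        Algebra.FinitePresentation (MvPolynomial (Fin d) k) A' ∧ ∃ incl : A →ₐ[k] A',
          (∀ x : A, Algebra.Smooth k (Localization.Away x) →
            Algebra.Smooth (MvPolynomial (Fin d) k) (Localization.Away (incl x))) ∧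
          ∀ (Λ : Type u) [CommRing Λ] [Algebra k Λ] [Algebra (MvPolynomial (Fin d) k) Λ]
            [IsScalarTower k (MvPolynomial (Fin d) k) Λ] (φ : A →ₐ[k] Λ),
            ∃ φ' : A' →ₐ[MvPolynomial (Fin d) k] Λ, ∀ x, φ' (incl x) = φ x :=
    ⟨MvPolynomial (Fin d) k ⊗[k] A, inferInstance, inferInstance, inferInstance, inferInstance,
      inferInstance, Algebra.TensorProduct.includeRight,
      fun x hx => smooth_away_tensor (MvPolynomial (Fin d) k) x,
      fun Λ _ _ _ _ φ => ⟨Algebra.TensorProduct.lift (Algebra.ofId (MvPolynomial (Fin d) k) Λ) φ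
        fun _ _ => Commute.all _ _, fun x =>
        (Algebra.TensorProduct.lift_tmul _ _ _ _ _).trans (by rw [map_one, one_mul])⟩⟩
  let e : Fin (d * r) ≃ Fin d × Fin r := finProdFinEquiv.symm
  let rel : Fin d → MvPolynomial (Fin (d * r)) A' := fun i =>
    C (algebraMap (MvPolynomial (Fin d) k) A' (X i ^ N)) - ∑ j, C (incl (a j)) * X (e.symm (i, j))
  let B := MvPolynomial (Fin (d * r)) A' ⧸ Ideal.span (Set.range rel)
  have : Algebra.FinitePresentation A' B :=
    Algebra.FinitePresentation.quotient (Submodule.fg_span (Set.finite_range rel))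
  have : Algebra.FinitePresentation (MvPolynomial (Fin d) k) B := Algebra.FinitePresentation.trans (MvPolynomial (Fin d) k) A' B
  let α : A →ₐ[k] B := (IsScalarTower.toAlgHom k A' B).comp incl
  -- smooth where some generator of the singular ideal is invertible
  have key : ∀ (Q : Ideal B) [Q.IsPrime] (j : Fin r), α (a j) ∉ Q → Algebra.IsSmoothAt (MvPolynomial (Fin d) k) Q := by
    intro Q _ j hj
    have hd : d ≤ d * r := Nat.le_mul_of_pos_right d j.pos
    let P : _root_.Smoothing.MarkedPresentation A' B :=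
      { n := d * r
        m := d
        c := d
        hcn := hd
        hcm := le_rfl
        rel := rel
        hom := Ideal.Quotient.mkₐ A' _
        surj := Ideal.Quotient.mk_surjective
        ker_eq := Ideal.mk_ker }
    let cols : Fin d → Fin (d * r) := fun l => e.symm (l, j)
    have hminor : _root_.Smoothing.jacobianMinor rel (Fin.castLE le_rfl) cols =
        C ((-incl (a j)) ^ d) := by
      rw [_root_.Smoothing.jacobianMinor, show (Matrix.of fun i l : Fin d =>
        pderiv (cols l) (rel (Fin.castLE le_rfl i))) =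
          (C (-incl (a j)) : MvPolynomial (Fin (d * r)) A') • (1 : Matrix (Fin d) (Fin d) _) from ?_]
      · rw [Matrix.det_smul, Matrix.det_one, Fintype.card_fin, mul_one, ← map_pow]
      refine Matrix.ext fun i l => ?_
      simp only [Matrix.of_apply, Matrix.smul_apply, smul_eq_mul, rel, map_sub, pderiv_C, zero_sub,
        map_sum, Derivation.leibniz, mul_zero, add_zero, Fin.castLE_refl, id]
      by_cases hil : i = l
      · subst hil
        rw [Finset.sum_eq_single j]
        · simp [cols]
        · intro j' _ hj'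
          rw [pderiv_X_of_ne fun h => hj' (congrArg Prod.snd (e.symm.injective h)), mul_zero]
        · simp
      · rw [Finset.sum_eq_zero fun j' _ => ?_, neg_zero, Matrix.one_apply_ne hil, mul_zero]
        rw [pderiv_X_of_ne fun h => hil (congrArg Prod.fst (e.symm.injective h)), mul_zero]
    have hstd : _root_.Smoothing.IsStrictlyStandard A' B (algebraMap A' B ((-incl (a j)) ^ d)) :=
      ⟨P, Ideal.subset_span ⟨cols, by
        show P.hom (_root_.Smoothing.jacobianMinor rel (Fin.castLE le_rfl) cols) = _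
        rw [hminor]; rfl⟩, fun _ _ i hi => absurd i.2 (not_lt.2 hi)⟩
    have := (Standard.smooth_stablyFree _ hstd).1
    have hQ : algebraMap A' B ((-incl (a j)) ^ d) ∉ Q := fun h => by
      rw [map_pow, map_neg] at h
      exact hj (neg_mem_iff.1 (Ideal.IsPrime.mem_of_pow_mem inferInstance _ h))
    refine SingularComp.isSmoothAt_comp (D := A') Q ?_ (isSmoothAt_of_smooth_away Q hQ)
    have := SingularComp.smooth_away_of_mem (R := k) (d := a j) (ha ▸ Ideal.subset_span ⟨j, rfl⟩)
    have := hA'sm (a j) this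
    exact isSmoothAt_of_smooth_away (h := incl (a j)) _ hj
  refine ⟨B, inferInstance, inferInstance, inferInstance, inferInstance, α, inferInstance,
    fun i => ?_, fun b hb => ?_, ?_⟩
  · rw [SingularComp.mem_singularIdeal_iff]
    intro Q _ hQ
    have hex : ∃ j, α (a j) ∉ Q := by
      by_contra hc
      simp only [not_exists, not_not] at hc
      have h0 : Ideal.Quotient.mk (Ideal.span (Set.range rel)) (rel i) = 0 :=
        Ideal.Quotient.eq_zero_iff_mem.2 (Ideal.subset_span ⟨i, rfl⟩)
      simp only [rel, map_sub, map_sum, map_mul, sub_eq_zero] at h0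
      refine hQ (Ideal.IsPrime.mem_of_pow_mem inferInstance N ?_)
      rw [← map_pow, IsScalarTower.algebraMap_apply (MvPolynomial (Fin d) k) A' B]
      show Ideal.Quotient.mk _ (C (algebraMap (MvPolynomial (Fin d) k) A' (X i ^ N))) ∈ Q
      rw [h0]
      exact Q.sum_mem fun j _ => Q.mul_mem_right _ (hc j)
    obtain ⟨j, hj⟩ := hex
    exact key Q j hj
  · rw [SingularComp.mem_singularIdeal_iff]
    intro Q _ hQ
    have hex : ∃ j, α (a j) ∉ Q := by
      by_contra hc
      simp only [not_exists, not_not] at hc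
      refine hQ ?_
      rw [← ha] at hb
      exact (Ideal.span_le (I := Q.comap α)).2 (by rintro _ ⟨j, rfl⟩; exact hc j) hb
    obtain ⟨j, hj⟩ := hex
    exact key Q j hj
  intro Λ _ _ _ _ φ hμ
  choose μ hμ using fun i => (Submodule.mem_span_range_iff_exists_fun Λ).1 (hμ i)
  obtain ⟨φ', hφ'⟩ := hA'lift Λ φ
  let ev : MvPolynomial (Fin (d * r)) A' →+* Λ :=
    eval₂Hom φ'.toRingHom fun l => μ (e l).1 (e l).2
  have hev : ∀ p ∈ Ideal.span (Set.range rel), ev p = 0 := by
    intro p hp
    refine (Ideal.span_le (I := RingHom.ker ev)).2 ?_ hp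
    rintro _ ⟨i, rfl⟩
    simp only [SetLike.mem_coe, RingHom.mem_ker, rel, map_sub, map_sum, map_mul, ev, eval₂Hom_C,
      eval₂Hom_X', Equiv.apply_symm_apply]
    show φ' (algebraMap (MvPolynomial (Fin d) k) A' (X i ^ N)) - ∑ j, φ' (incl (a j)) * μ i j = 0
    rw [AlgHom.commutes, map_pow, ← hμ i, sub_eq_zero]
    refine Finset.sum_congr rfl fun j _ => ?_
    rw [hφ', smul_eq_mul, mul_comm]
  refine ⟨{ Ideal.Quotient.lift _ ev hev with
    commutes' := fun z => ?_ }, fun x => ?_⟩
  · show Ideal.Quotient.lift _ ev hev (algebraMap (MvPolynomial (Fin d) k) B z) = _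
    rw [IsScalarTower.algebraMap_apply (MvPolynomial (Fin d) k) A' B]
    show ev (C (algebraMap (MvPolynomial (Fin d) k) A' z)) = _
    rw [show ev (C (algebraMap (MvPolynomial (Fin d) k) A' z)) = φ' (algebraMap (MvPolynomial (Fin d) k) A' z) from eval₂Hom_C _ _ _]
    exact φ'.commutes z
  · show ev (C (incl x)) = φ x
    rw [show ev (C (incl x)) = φ' (incl x) from eval₂Hom_C _ _ _]
    exact hφ' x

end Groth.Agent.Lib.Smoothing.Linearize
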