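import Groth.Agent.Lib.Smoothing.SquareZero
import Mathlib.RingTheory.Flat.Stability
import Mathlib.RingTheory.Ideal.Quotient.Operations

/-!
# Ind-smoothness lifts along nilpotent ideals
-/

universe u

open TensorProduct

namespace Groth.Agent.Lib.Smoothing.Nilpotent

/-- Ind-smoothness only depends on the map of rings up to isomorphism. -/
theorem indSmooth_congr {R R' Λ Λ' : Type u} [CommRing R] [CommRing R'] [CommRing Λ] [CommRing Λ']
    [Algebra R Λ] [Algebra R' Λ'] (e : R ≃+* R') (E : Λ ≃+* Λ')
    (hc : ∀ r, E (algebraMap R Λ r) = algebraMap R' Λ' (e r))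
    (h : _root_.Smoothing.IndSmooth R Λ) : _root_.Smoothing.IndSmooth R' Λ' := by
  intro A _ _ hA f
  letI : Algebra R R' := e.toRingHom.toAlgebra
  letI : Algebra R A := Algebra.compHom A (algebraMap R R')
  haveI : IsScalarTower R R' A := IsScalarTower.of_algebraMap_eq' rfl
  let eR : R ≃ₐ[R] R' := AlgEquiv.ofRingEquiv (f := e) fun _ => rfl
  have : Algebra.FinitePresentation R R' := Algebra.FinitePresentation.equiv eR
  have : Algebra.FinitePresentation R A := Algebra.FinitePresentation.trans R R' A
  let f' : A →ₐ[R] Λ :=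
    { E.symm.toRingHom.comp f.toRingHom with
      commutes' := fun r => by
        show E.symm (f (algebraMap R' A (e r))) = algebraMap R Λ r
        rw [f.commutes, ← hc, RingEquiv.symm_apply_apply] }
  obtain ⟨B, _, _, hB, g, k, hgk⟩ := h A inferInstance f'
  letI : Algebra R' R := e.symm.toRingHom.toAlgebra
  letI : Algebra R' B := Algebra.compHom B (algebraMap R' R)
  haveI : IsScalarTower R' R B := IsScalarTower.of_algebraMap_eq' rfl
  let eR' : R' ≃ₐ[R'] R := AlgEquiv.ofRingEquiv (f := e.symm) fun _ => rfl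
  have : Algebra.Smooth R' R' := ⟨inferInstance, inferInstance⟩
  have : Algebra.Smooth R' R := Algebra.Smooth.of_equiv eR'
  refine ⟨B, inferInstance, inferInstance, Algebra.Smooth.comp R' R B,
    { g.toRingHom with commutes' := fun r => ?_ },
    { E.toRingHom.comp k.toRingHom with commutes' := fun r => ?_ }, AlgHom.ext fun a => ?_⟩
  · show g (algebraMap R' A r) = algebraMap R B (e.symm r)
    rw [← g.commutes]
    show g (algebraMap R' A r) = g (algebraMap R' A (e (e.symm r)))
    rw [RingEquiv.apply_symm_apply]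
  · show E (k (algebraMap R B (e.symm r))) = _
    rw [k.commutes, hc, RingEquiv.apply_symm_apply]
  · show E (k (g a)) = f a
    rw [← AlgHom.comp_apply k g, hgk]
    show E (E.symm (f a)) = _
    rw [RingEquiv.apply_symm_apply]

theorem indSmooth_of_nilpotent_aux (m : ℕ) : ∀ {R Λ : Type u} [CommRing R] [CommRing Λ]
    [Algebra R Λ] [Module.Flat R Λ] (I : Ideal R), I ^ m = ⊥ →
    _root_.Smoothing.IndSmooth (R ⧸ I) (Λ ⧸ I.map (algebraMap R Λ)) →
    _root_.Smoothing.IndSmooth R Λ := by
  induction m using Nat.strong_induction_on with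
  | _ m ih =>
    intro R Λ _ _ _ _ I hI h
    by_cases hm : m ≤ 1
    · have hI0 : I = ⊥ := by
        rcases Nat.le_one_iff_eq_zero_or_eq_one.1 hm with rfl | rfl
        · rw [pow_zero, Ideal.one_eq_top] at hI
          exact le_bot_iff.1 (hI ▸ le_top)
        · rwa [pow_one] at hI
      subst hI0
      refine indSmooth_congr (RingEquiv.quotientBot R)
        ((Ideal.quotEquivOfEq (by rw [Ideal.map_bot])).trans (RingEquiv.quotientBot Λ)) ?_ h
      intro r
      obtain ⟨r, rfl⟩ := Ideal.Quotient.mk_surjective r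
      rfl
    · let J := I ^ 2
      have hJ : J ^ (m - 1) = ⊥ := by
        rw [← pow_mul, eq_bot_iff, ← hI]
        exact Ideal.pow_le_pow_right (by omega)
      refine ih (m - 1) (by omega) J hJ ?_
      let R₂ := R ⧸ J
      let Λ₂ := Λ ⧸ J.map (algebraMap R Λ)
      have : Module.Flat R₂ Λ₂ := Module.Flat.of_linearEquiv
        (Algebra.TensorProduct.quotIdealMapEquivQuotTensor Λ J).toLinearEquiv
      let I₂ : Ideal R₂ := I.map (Ideal.Quotient.mk J)
      have hJI : J ≤ I := Ideal.pow_le_self two_ne_zero
      refine SquareZero.indSmooth_of_sq_zero I₂ ?_ ?_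
      · rw [← Ideal.map_pow, Ideal.map_eq_bot_iff_le_ker, Ideal.mk_ker]
      · have hmap : I₂.map (algebraMap R₂ Λ₂) =
            (I.map (algebraMap R Λ)).map (Ideal.Quotient.mk (J.map (algebraMap R Λ))) := by
          show (I.map (Ideal.Quotient.mk J)).map _ = _
          rw [Ideal.map_map, Ideal.map_map]
          rfl
        refine indSmooth_congr (DoubleQuot.quotQuotEquivQuotOfLE hJI).symm
          ((DoubleQuot.quotQuotEquivQuotOfLE (Ideal.map_mono hJI)).symm.trans
            (Ideal.quotEquivOfEq hmap.symm)) ?_ h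
        intro r
        obtain ⟨r, rfl⟩ := Ideal.Quotient.mk_surjective r
        rfl

end Groth.Agent.Lib.Smoothing.Nilpotent
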