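import Groth.Agent.Lib.Smoothing.Approx
import Groth.Agent.Lib.Excellent.GRingStability
import Groth.Agent.Lib.Henselian.Etale

/-!
# Artin approximation for Noetherian local G-rings
-/

universe u

open IsLocalRing MvPolynomial
open scoped TensorProduct

namespace Groth.Agent.Lib.Smoothing.ArtinApprox

theorem isRegularHom_completion {L : Type u} [CommRing L] [IsLocalRing L] (hG : _root_.CAlg.IsGRing L) :
    _root_.CAlg.IsRegularHom L (AdicCompletion (maximalIdeal L) L) := by
  have := hG.1
  exact Groth.Agent.Lib.Excellent.GRingStability.isRegularHom_cpl_of_ringEquiv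
    (Localization.AtPrime (maximalIdeal L)) L
    (IsLocalization.atUnits L (maximalIdeal L).primeCompl
      (S := Localization.AtPrime (maximalIdeal L))
      (fun x hx => of_not_not fun h => hx ((mem_maximalIdeal x).2 h))).symm.toRingEquiv
    (hG.2 (maximalIdeal L))

theorem exists_etale_solution {R : Type u} [CommRing R] [IsNoetherianRing R] (p : Ideal R) [p.IsPrime]
    (L : Type u) [CommRing L] [IsLocalRing L] [Algebra R L] [IsLocalization.AtPrime L p]
    (hG : _root_.CAlg.IsGRing L) {n m : ℕ}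
    (F : Fin m → MvPolynomial (Fin n) R) (a : Fin n → AdicCompletion (maximalIdeal L) L)
    (ha : ∀ j, aeval a (F j) = 0) (N : ℕ) :
    ∃ (R' : Type u) (_ : CommRing R') (_ : Algebra R R'), Algebra.Etale R R' ∧
      ∃ (ψ : R' →ₐ[R] AdicCompletion (maximalIdeal L) L) (p' : Ideal R'), p'.IsPrime ∧
        p'.comap (algebraMap R R') = p ∧
        (∀ x : R', ∃ r s : R, s ∉ p ∧ algebraMap R R' s * x - algebraMap R R' r ∈ p') ∧
        (∀ x ∈ p', ψ x ∈ (maximalIdeal L).map (algebraMap L (AdicCompletion (maximalIdeal L) L))) ∧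
        ∃ b : Fin n → R', (∀ j, aeval b (F j) = 0) ∧
          ∀ i, a i - ψ (b i) ∈
            (maximalIdeal L ^ N).map (algebraMap L (AdicCompletion (maximalIdeal L) L)) := by
  have := hG.1
  have : IsScalarTower R L (AdicCompletion (maximalIdeal L) L) := IsScalarTower.of_algebraMap_eq fun r => rfl
  exact Approx.exists_etale_approx p L (Approx.indSmooth_of_localization p.primeCompl
    (Popescu.Main.indSmooth (isRegularHom_completion hG))) F a ha N

theorem exists_etale_solution_local {R : Type u} [CommRing R] [IsLocalRing R] (hG : _root_.CAlg.IsGRing R)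
    {n m : ℕ} (F : Fin m → MvPolynomial (Fin n) R)
    (a : Fin n → AdicCompletion (maximalIdeal R) R) (ha : ∀ j, aeval a (F j) = 0) (N : ℕ) :
    ∃ (R' : Type u) (_ : CommRing R') (_ : Algebra R R'), Algebra.Etale R R' ∧
      ∃ (ψ : R' →ₐ[R] AdicCompletion (maximalIdeal R) R) (m' : Ideal R'), m'.IsMaximal ∧
        m'.comap (algebraMap R R') = maximalIdeal R ∧
        (∀ x : R', ∃ r : R, x - algebraMap R R' r ∈ m') ∧
        (∀ x ∈ m', ψ x ∈ (maximalIdeal R).map (algebraMap R (AdicCompletion (maximalIdeal R) R))) ∧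
        ∃ b : Fin n → R', (∀ j, aeval b (F j) = 0) ∧
          ∀ i, a i - ψ (b i) ∈
            (maximalIdeal R ^ N).map (algebraMap R (AdicCompletion (maximalIdeal R) R)) := by
  have := hG.1
  have : IsLocalization.AtPrime R (maximalIdeal R) :=
    IsLocalization.self fun x hx => of_not_not fun h => hx ((mem_maximalIdeal x).2 h)
  obtain ⟨R', _, _, het, ψ, p', hp', hc, hres, hmem, b, hb, hab⟩ :=
    exists_etale_solution (maximalIdeal R) R hG F a ha N
  have hres' : ∀ x : R', ∃ r : R, x - algebraMap R R' r ∈ p' := by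
    intro x
    obtain ⟨r, s, hs, h⟩ := hres x
    obtain ⟨u, hu⟩ := (of_not_not fun h => hs ((mem_maximalIdeal s).2 h) : IsUnit s).exists_right_inv
    refine ⟨u * r, ?_⟩
    have h2 : algebraMap R R' u * (algebraMap R R' s * x - algebraMap R R' r) =
        x - algebraMap R R' (u * r) := by
      rw [mul_sub, ← mul_assoc, ← map_mul, mul_comm u s, hu, map_one, one_mul, ← map_mul]
    exact h2 ▸ p'.mul_mem_left _ h
  refine ⟨R', inferInstance, inferInstance, het, ψ, p', ?_, hc, hres', hmem, b, hb, hab⟩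
  refine Ideal.isMaximal_iff.2 ⟨(Ideal.ne_top_iff_one p').1 hp'.ne_top, fun J x hJ hxp hxJ => ?_⟩
  obtain ⟨r, hr⟩ := hres' x
  have hrJ : algebraMap R R' r ∈ J := by
    have := J.sub_mem hxJ (hJ hr)
    rwa [sub_sub_cancel] at this
  have hru : IsUnit r := of_not_not fun h => hxp (by
    have h1 : r ∈ p'.comap (algebraMap R R') := hc.symm ▸ (mem_maximalIdeal r).2 h
    have := p'.add_mem hr h1
    rwa [sub_add_cancel] at this)
  exact J.eq_top_iff_one.1 (Ideal.eq_top_of_isUnit_mem _ hrJ (hru.map _))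

/-- Artin approximation. -/
theorem exists_solution {R : Type u} [CommRing R] [HenselianLocalRing R] (hG : _root_.CAlg.IsGRing R)
    {n m : ℕ} (F : Fin m → MvPolynomial (Fin n) R)
    (a : Fin n → AdicCompletion (maximalIdeal R) R) (ha : ∀ j, aeval a (F j) = 0) (N : ℕ) :
    ∃ b : Fin n → R, (∀ j, eval b (F j) = 0) ∧
      ∀ i, a i - algebraMap R (AdicCompletion (maximalIdeal R) R) (b i) ∈
        (maximalIdeal R ^ N).map (algebraMap R (AdicCompletion (maximalIdeal R) R)) := by
  have := hG.1
  obtain ⟨R', _, _, het, ψ, m', hm', hc, hres, hmem, b, hb, hab⟩ :=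
    exists_etale_solution_local hG F a ha N
  let Λ := AdicCompletion (maximalIdeal R) R
  let K := R ⧸ maximalIdeal R
  -- the rational point
  let f : R →+* R' ⧸ m' := (Ideal.Quotient.mk m').comp (algebraMap R R')
  have hf : Function.Surjective f := fun z => by
    obtain ⟨z, rfl⟩ := Ideal.Quotient.mk_surjective z
    obtain ⟨r, hr⟩ := hres z
    exact ⟨r, (Ideal.Quotient.mk_eq_mk_iff_sub_mem _ _).2 (by
      rw [← Ideal.neg_mem_iff, neg_sub]; exact hr)⟩
  have hfk : RingHom.ker f = maximalIdeal R := by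
    ext r
    show Ideal.Quotient.mk m' (algebraMap R R' r) = 0 ↔ _
    rw [Ideal.Quotient.eq_zero_iff_mem]
    exact SetLike.ext_iff.1 hc r
  let e : (R ⧸ maximalIdeal R) ≃+* R' ⧸ m' :=
    (Ideal.quotEquivOfEq hfk.symm).trans (RingHom.quotientKerEquivOfSurjective hf)
  let g₀ : R' →ₐ[R] R ⧸ maximalIdeal R :=
    { e.symm.toRingHom.comp (Ideal.Quotient.mk m') with
      commutes' := fun r => by
        show e.symm (Ideal.Quotient.mk m' (algebraMap R R' r)) = Ideal.Quotient.mk _ r
        rw [RingEquiv.symm_apply_eq]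
        rfl }
  obtain ⟨σ, hσ⟩ := Groth.Agent.Lib.Henselian.Etale.exists_algHom_lift_self (maximalIdeal R) g₀
  refine ⟨fun i => σ (b i), fun j => ?_, fun i => ?_⟩
  · have h1 := congrArg σ (hb j)
    rw [map_zero, comp_aeval_apply] at h1
    rw [← h1, MvPolynomial.aeval_eq_eval]
  -- the two maps to the completion agree
  suffices hψ : ∀ x, ψ x = algebraMap R Λ (σ x) by
    have h1 := hab i
    rwa [hψ] at h1
  intro x
  suffices ψ = (Algebra.ofId R Λ).comp σ from DFunLike.congr_fun this x
  refine Groth.Agent.Lib.Henselian.Etale.algHom_ext_of_le_jacobson (J := maximalIdeal Λ)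
    (IsLocalRing.maximalIdeal_le_jacobson _) ψ ((Algebra.ofId R Λ).comp σ) fun y => ?_
  obtain ⟨r, hr⟩ := hres y
  have h1 : ψ y - algebraMap R Λ r ∈ maximalIdeal Λ := by
    rw [AdicCompletion.maximalIdeal_eq_map]
    have h := hmem _ hr
    rwa [map_sub, AlgHom.commutes] at h
  have h2 : σ y - r ∈ maximalIdeal R := by
    refine (Ideal.Quotient.mk_eq_mk_iff_sub_mem _ _).1 ?_
    rw [show Ideal.Quotient.mk (maximalIdeal R) (σ y) = g₀ y from DFunLike.congr_fun hσ y]
    show e.symm (Ideal.Quotient.mk m' y) = _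
    rw [(Ideal.Quotient.mk_eq_mk_iff_sub_mem _ _).2 hr]
    exact g₀.commutes r
  show ψ y - algebraMap R Λ (σ y) ∈ maximalIdeal Λ
  have h3 : algebraMap R Λ (σ y - r) ∈ maximalIdeal Λ :=
    AdicCompletion.maximalIdeal_eq_map.ge (Ideal.mem_map_of_mem _ h2)
  have h4 := Ideal.sub_mem _ h1 h3
  rwa [map_sub, sub_sub_sub_cancel_right] at h4

end Groth.Agent.Lib.Smoothing.ArtinApprox
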