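import Groth.Agent.Lib.Smoothing.LiftIdem
import Mathlib.RingTheory.Smooth.Basic
import Mathlib.RingTheory.Etale.Kaehler
import Mathlib.RingTheory.Extension.Cotangent.Basic
import Mathlib.RingTheory.Kaehler.Polynomial
import Mathlib.LinearAlgebra.Matrix.Adjugate
import Mathlib.RingTheory.Finiteness.Nakayama
import Mathlib.RingTheory.Localization.Away.Basic

/-!
# Lifting smooth algebras along surjections
-/

universe u

open TensorProduct MvPolynomial

namespace Groth.Agent.Lib.Smoothing.LiftSmooth

/-- Derivations extend along formally étale maps. -/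
theorem exists_derivation_extend {R P P' : Type u} [CommRing R] [CommRing P] [CommRing P']
    [Algebra R P] [Algebra P P'] [Algebra R P'] [IsScalarTower R P P'] [Algebra.FormallyEtale P P']
    (D : Derivation R P P) :
    ∃ D' : Derivation R P' P', ∀ p, D' (algebraMap P P' p) = algebraMap P P' (D p) := by
  let e := KaehlerDifferential.tensorKaehlerEquivOfFormallyEtale R P P'
  let l : Ω[P'⁄R] →ₗ[P'] P' :=
    (LinearMap.liftBaseChange P' ((Algebra.linearMap P P').comp D.liftKaehlerDifferential)).comp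
      e.symm.toLinearMap
  refine ⟨l.compDer (KaehlerDifferential.D R P'), fun p => ?_⟩
  show l (KaehlerDifferential.D R P' (algebraMap P P' p)) = _
  simp only [l, LinearMap.comp_apply, LinearEquiv.coe_coe, e,
    KaehlerDifferential.tensorKaehlerEquivOfFormallyEtale_symm_D_algebraMap,
    LinearMap.liftBaseChange_tmul, one_smul, Derivation.liftKaehlerDifferential_comp_D,
    Algebra.linearMap_apply]

variable {R A₀ : Type u} [CommRing R] (I : Ideal R) [CommRing A₀] [Algebra (R ⧸ I) A₀]

set_option maxHeartbeats 1600000 in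
/-- A smooth algebra over `R/I` is the reduction of a smooth algebra over `R`. -/
theorem exists_lift [Algebra.Smooth (R ⧸ I) A₀] :
    ∃ (A : Type u) (_ : CommRing A) (_ : Algebra R A), Algebra.Smooth R A ∧
      Nonempty ((A ⧸ I.map (algebraMap R A)) ≃ₐ[R ⧸ I] A₀) := by
  classical
  letI : Algebra R A₀ := Algebra.compHom A₀ (Ideal.Quotient.mk I)
  haveI : IsScalarTower R (R ⧸ I) A₀ := IsScalarTower.of_algebraMap_eq' rfl
  obtain ⟨n, φ₀, hφ₀, hfg₀⟩ :=
    (Algebra.Smooth.finitePresentation (R := R ⧸ I) (A := A₀)).out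
  obtain ⟨k, gb, hgb⟩ := Submodule.fg_iff_exists_fin_generating_family.1 hfg₀
  let P := MvPolynomial (Fin n) R
  let red : P →+* MvPolynomial (Fin n) (R ⧸ I) := MvPolynomial.map (Ideal.Quotient.mk I)
  have hred : Function.Surjective red := map_surjective _ Ideal.Quotient.mk_surjective
  choose g hg using fun i => hred (gb i)
  letI : Algebra P A₀ := (φ₀.toRingHom.comp red).toAlgebra
  have hPA : ∀ p : P, algebraMap P A₀ p = φ₀ (red p) := fun _ => rfl
  haveI : IsScalarTower R P A₀ := IsScalarTower.of_algebraMap_eq fun r => by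
    rw [hPA, MvPolynomial.algebraMap_eq]
    show _ = φ₀ (map _ (C r))
    rw [map_C, ← MvPolynomial.algebraMap_eq, AlgHom.commutes]
    rfl
  have hPsurj : Function.Surjective (algebraMap P A₀) := hφ₀.comp hred
  have hgb0 : ∀ i, φ₀ (gb i) = 0 := fun i => hgb.le (Ideal.subset_span ⟨i, rfl⟩)
  have hg0 : ∀ i, algebraMap P A₀ (g i) = 0 := fun i => by rw [hPA, hg]; exact hgb0 i
  -- the split conormal sequence of the presentation over `R/I`
  have haev : ∀ p, aeval (R := R ⧸ I) (φ₀ ∘ X) p = φ₀ p := fun p =>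
    (DFunLike.congr_fun (aeval_unique φ₀) p).symm
  let G : Algebra.Generators (R ⧸ I) A₀ (Fin n) := Algebra.Generators.ofSurjective (φ₀ ∘ X) fun x => by
    obtain ⟨p, hp⟩ := hφ₀ x
    exact ⟨p, (haev p).trans hp⟩
  have hmap : ∀ p : G.Ring, algebraMap G.Ring A₀ p = φ₀ p := fun p => by
    rw [Algebra.Generators.algebraMap_apply]; exact haev p
  have hkerG : ∀ p : G.Ring, p ∈ G.toExtension.ker ↔ φ₀ p = 0 := fun p => by
    show algebraMap G.Ring A₀ p = 0 ↔ _
    rw [hmap]
  have : Algebra.FormallySmooth (R ⧸ I) G.toExtension.Ring :=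
    inferInstanceAs (Algebra.FormallySmooth (R ⧸ I) (MvPolynomial (Fin n) (R ⧸ I)))
  obtain ⟨r, hr⟩ := G.toExtension.formallySmooth_iff_split_injection.1 inferInstance
  have hr' : ∀ z, r (G.toExtension.cotangentComplex z) = z := fun z => LinearMap.congr_fun hr z
  let F : Fin k → G.toExtension.Cotangent := fun i =>
    Algebra.Extension.Cotangent.mk ⟨gb i, (hkerG _).2 (hgb0 i)⟩
  have hspanF : ∀ z, ∃ c : Fin k → A₀, ∑ j, c j • F j = z := by
    intro z
    obtain ⟨⟨p, hp⟩, rfl⟩ := Algebra.Extension.Cotangent.mk_surjective z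
    let p₀ : MvPolynomial (Fin n) (R ⧸ I) := p
    have hp' : p₀ ∈ Ideal.span (Set.range gb) := hgb.ge ((hkerG p).1 hp : φ₀ p = 0)
    obtain ⟨c, hc⟩ := (Submodule.mem_span_range_iff_exists_fun (MvPolynomial (Fin n) (R ⧸ I))).1 hp'
    let c' : Fin k → G.toExtension.Ring := c
    refine ⟨fun j => φ₀ (c j), ?_⟩
    have h' : (⟨p, hp⟩ : G.toExtension.ker) = ∑ j, c' j • ⟨gb j, (hkerG _).2 (hgb0 j)⟩ := by
      ext
      rw [AddSubmonoidClass.coe_finsetSum]
      exact hc.symm
    rw [h', map_sum]
    refine Finset.sum_congr rfl fun j _ => ?_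
    rw [map_smul, ← algebraMap_smul A₀ (c' j), show algebraMap G.toExtension.Ring A₀ (c' j) = φ₀ (c j) from hmap _]
  choose L hL using fun l => hspanF (r (G.cotangentSpaceBasis l))
  let D₀ : Matrix (Fin k) (Fin n) A₀ := Matrix.of fun i l => φ₀ (pderiv l (gb i))
  let L₀ : Matrix (Fin n) (Fin k) A₀ := Matrix.of fun l j => L l j
  let M₀ := D₀ * L₀
  have hcoord : ∀ i l, G.cotangentSpaceBasis.repr (G.toExtension.cotangentComplex (F i)) l = D₀ i l := by
    intro i l
    rw [Algebra.Extension.cotangentComplex_mk]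
    erw [Algebra.Generators.cotangentSpaceBasis_repr_one_tmul]
    exact haev _
  have hfix : ∀ i, ∑ j, M₀ i j • F j = F i := by
    intro i
    conv_rhs => rw [← hr' (F i), ← G.cotangentSpaceBasis.sum_repr (G.toExtension.cotangentComplex (F i))]
    simp only [map_sum, map_smul, hcoord]
    simp only [M₀, Matrix.mul_apply, Finset.sum_smul, ← hL, Finset.smul_sum, smul_smul]
    rw [Finset.sum_comm]
    rfl
  have hMD : M₀ * D₀ = D₀ := by
    ext i l
    have h' := congrArg (fun z => G.cotangentSpaceBasis.repr (G.toExtension.cotangentComplex z) l) (hfix i)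
    simp only [map_sum, map_smul, Finset.sum_apply', Finsupp.smul_apply, smul_eq_mul, hcoord] at h'
    simpa [Matrix.mul_apply] using h'
  have hM₀ : IsIdempotentElem M₀ := by
    show M₀ * (D₀ * L₀) = D₀ * L₀
    rw [← Matrix.mul_assoc, hMD]
  let Lt : Matrix (Fin n) (Fin k) P := Matrix.of fun l j => Classical.choose (hPsurj (L l j))
  have hLt : Lt.map (algebraMap P A₀) = L₀ := Matrix.ext fun l j => Classical.choose_spec (hPsurj (L l j))
  let Dg : Matrix (Fin k) (Fin n) P := Matrix.of fun i l => pderiv l (g i)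
  have hDg : Dg.map (algebraMap P A₀) = D₀ := Matrix.ext fun i l => by
    show φ₀ (map (Ideal.Quotient.mk I) (pderiv l (g i))) = φ₀ (pderiv l (gb i))
    rw [← pderiv_map, show map (Ideal.Quotient.mk I) (g i) = gb i from hg i]
  let M := Dg * Lt
  have hM : M.map (algebraMap P A₀) = M₀ := by rw [Matrix.map_mul, hDg, hLt]
  obtain ⟨P', _, _, ψ, E, hP', hE, hEψ⟩ := LiftIdem.exists_etale_idem (A₀ := A₀) M (hM ▸ hM₀)
  rw [hM] at hEψ
  letI : Algebra R P' := Algebra.compHom P' (algebraMap R P)
  haveI : IsScalarTower R P P' := IsScalarTower.of_algebraMap_eq' rfl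
  have : Algebra.FormallySmooth R P' := Algebra.FormallySmooth.comp R P P'
  have : Algebra.FinitePresentation R P' := Algebra.FinitePresentation.trans R P P'
  let ι := algebraMap P P'
  have hψι : ∀ p, ψ (ι p) = algebraMap P A₀ p := ψ.commutes
  have hψsurj : Function.Surjective ψ := fun x => by
    obtain ⟨p, rfl⟩ := hPsurj x
    exact ⟨ι p, hψι p⟩
  let h : Fin k → P' := fun i => ∑ j, E i j * ι (g j)
  have hEh : ∀ i, h i = ∑ j, E i j * h j := fun i => by
    simp only [h, Finset.mul_sum, ← mul_assoc]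
    rw [Finset.sum_comm]
    simp only [← Finset.sum_mul]
    refine Finset.sum_congr rfl fun l _ => ?_
    rw [← Matrix.mul_apply, hE.eq]
  have hψh : ∀ i, ψ (h i) = 0 := fun i => by simp [h, map_sum, hψι, hg0]
  let H : Ideal P' := Ideal.span (Set.range h)
  let J₁ : Ideal P' := RingHom.ker ψ.toRingHom
  have hHJ : H ≤ J₁ := Ideal.span_le.2 (by rintro _ ⟨i, rfl⟩; exact hψh i)
  let IP : Ideal P' := I.map (algebraMap R P')
  have hIJ : IP ≤ J₁ := Ideal.map_le_iff_le_comap.2 fun x hx => by
    show ψ (algebraMap R P' x) = 0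
    rw [IsScalarTower.algebraMap_apply R P P', hψι, ← IsScalarTower.algebraMap_apply,
      IsScalarTower.algebraMap_apply R (R ⧸ I) A₀, Ideal.Quotient.algebraMap_eq,
      Ideal.Quotient.eq_zero_iff_mem.2 hx, map_zero]
  -- the kernel of `P → A₀`
  have hkerred : ∀ p, red p = 0 → p ∈ I.map (C : R →+* P) := fun p hp => by
    have := MvPolynomial.ker_map (σ := Fin n) (Ideal.Quotient.mk I)
    rw [Ideal.mk_ker] at this
    rw [← this]
    exact hp
  have hICIP : ∀ p ∈ I.map (C : R →+* P), ι p ∈ IP := fun p hp => by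
    have h' := Ideal.mem_map_of_mem ι hp
    rw [Ideal.map_map] at h'
    exact h'
  have hkerP : ∀ p, algebraMap P A₀ p = 0 → p ∈ Ideal.span (Set.range g) ⊔ I.map (C : R →+* P) := by
    intro p hp
    have h1 : red p ∈ Ideal.span (Set.range gb) := hgb.ge hp
    have h2 : Ideal.span (Set.range gb) = (Ideal.span (Set.range g)).map red := by
      rw [Ideal.map_span, ← Set.range_comp]
      exact congrArg _ (congrArg Set.range (funext fun i => (hg i).symm))
    rw [h2, Ideal.mem_map_iff_of_surjective red hred] at h1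
    obtain ⟨p', hp', hpp'⟩ := h1
    rw [← add_sub_cancel p' p]
    exact Ideal.add_mem _ (Ideal.mem_sup_left hp')
      (Ideal.mem_sup_right (hkerred _ (by rw [map_sub, hpp', sub_self])))
  let T : Ideal P' := H ⊔ IP
  have hTJ : T ≤ J₁ := sup_le hHJ hIJ
  have hgJ : ∀ i, ι (g i) ∈ J₁ := fun i => (hψι _).trans (hg0 i)
  have hgT : ∀ i, ι (g i) ∈ T ⊔ J₁ * J₁ := by
    intro i
    have h3 : g i - ∑ j, M i j * g j ∈ Ideal.span (Set.range g) * Ideal.span (Set.range g) ⊔
        I.map (C : R →+* P) := by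
      have h4 : red (g i - ∑ j, M i j * g j) ∈
          (Ideal.span (Set.range g) * Ideal.span (Set.range g)).map red := by
        have h5 : Ideal.span (Set.range gb) = (Ideal.span (Set.range g)).map red := by
          rw [Ideal.map_span, ← Set.range_comp]
          exact congrArg _ (congrArg Set.range (funext fun i => (hg i).symm))
        rw [Ideal.map_mul, ← h5, map_sub, map_sum, hg]
        simp only [map_mul, hg]
        let c' : Fin k → G.toExtension.Ring := fun j => red (M i j)
        have heq : Algebra.Extension.Cotangent.mk ((⟨gb i, (hkerG _).2 (hgb0 i)⟩ : G.toExtension.ker) -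
            ∑ j, c' j • ⟨gb j, (hkerG _).2 (hgb0 j)⟩) = 0 := by
          rw [map_sub, sub_eq_zero, map_sum]
          refine (hfix i).symm.trans (Finset.sum_congr rfl fun j _ => ?_)
          rw [map_smul, ← algebraMap_smul A₀ (c' j), show algebraMap G.toExtension.Ring A₀ (c' j) =
            M₀ i j from (hmap _).trans (congrFun (congrFun hM i) j)]
        rw [Algebra.Extension.Cotangent.mk_eq_zero_iff] at heq
        have hle : G.toExtension.ker ≤ (Ideal.span (Set.range gb) : Ideal G.toExtension.Ring) :=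
          fun x hx => hgb.ge ((hkerG x).1 hx : φ₀ x = 0)
        have := Ideal.pow_right_mono hle 2 heq
        simp only [Submodule.coe_sub, AddSubmonoidClass.coe_finsetSum, Submodule.coe_smul,
          smul_eq_mul] at this
        rw [pow_two] at this
        exact this
      rw [Ideal.mem_map_iff_of_surjective red hred] at h4
      obtain ⟨p', hp', hpp'⟩ := h4
      rw [← add_sub_cancel p' (g i - _)]
      exact Ideal.add_mem _ (Ideal.mem_sup_left hp')
        (Ideal.mem_sup_right (hkerred _ (by rw [map_sub, hpp', sub_self])))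
    have h4 : ι (g i - ∑ j, M i j * g j) ∈ T ⊔ J₁ * J₁ := by
      refine SetLike.le_def.1 ?_ (Ideal.mem_map_of_mem ι h3)
      rw [Ideal.map_sup, Ideal.map_mul, sup_le_iff]
      constructor
      · refine le_sup_of_le_right (Ideal.mul_mono ?_ ?_) <;>
        · rw [Ideal.map_span, Ideal.span_le]
          rintro _ ⟨_, ⟨j, rfl⟩, rfl⟩
          exact hgJ j
      · refine le_sup_of_le_left (le_sup_of_le_right (Ideal.map_le_iff_le_comap.2 fun x hx => ?_))
        exact hICIP x hx
    have h5 : ι (g i) = ι (g i - ∑ j, M i j * g j) + (h i + ∑ j, (ι (M i j) - E i j) * ι (g j)) := by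
      simp only [h, sub_mul, Finset.sum_sub_distrib, map_sub, map_sum, map_mul]
      ring
    rw [h5]
    refine add_mem h4 (add_mem (Ideal.mem_sup_left (Ideal.mem_sup_left (Ideal.subset_span ⟨i, rfl⟩)))
      (Submodule.sum_mem _ fun j _ => Ideal.mem_sup_right (Ideal.mul_mem_mul ?_ (hgJ j))))
    show ψ (ι (M i j) - E i j) = 0
    rw [map_sub, hψι, show ψ (E i j) = M₀ i j from congrFun (congrFun hEψ i) j,
      show algebraMap P A₀ (M i j) = M₀ i j from congrFun (congrFun hM i) j, sub_self]
  -- `J₁ = J₁² + T` as `P'` is unramified over `P`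
  have hJsq : J₁ ≤ T ⊔ J₁ * J₁ := by
    let Q₂ := P' ⧸ (T ⊔ J₁ * J₁)
    have hker₂ : RingHom.ker (Algebra.ofId P A₀) ≤ RingHom.ker (Algebra.ofId P Q₂) := by
      intro p hp
      show algebraMap P Q₂ p = 0
      rw [IsScalarTower.algebraMap_apply P P' Q₂, Ideal.Quotient.algebraMap_eq,
        Ideal.Quotient.eq_zero_iff_mem]
      refine SetLike.le_def.1 ?_ (Ideal.mem_map_of_mem ι (hkerP p hp))
      rw [Ideal.map_sup, Ideal.map_span, sup_le_iff, Ideal.span_le]
      refine ⟨?_, ?_⟩
      · rintro _ ⟨_, ⟨j, rfl⟩, rfl⟩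
        exact hgT j
      · exact Ideal.map_le_iff_le_comap.2 fun x hx => Ideal.mem_sup_left (Ideal.mem_sup_right (hICIP x hx))
    let σ : A₀ →ₐ[P] Q₂ := AlgHom.liftOfSurjective (Algebra.ofId P A₀) hPsurj (Algebra.ofId P Q₂) hker₂
    have hσ : ∀ p, σ (algebraMap P A₀ p) = algebraMap P Q₂ p := σ.commutes
    have hsame : Ideal.Quotient.mkₐ P (T ⊔ J₁ * J₁) = σ.comp ψ := by
      refine Algebra.FormallyUnramified.ext (R := P)
        (J₁.map (Ideal.Quotient.mk (T ⊔ J₁ * J₁))) ⟨2, ?_⟩ fun x => ?_
      · rw [pow_two, ← Ideal.map_mul, Ideal.zero_eq_bot, Ideal.map_eq_bot_iff_le_ker, Ideal.mk_ker]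
        exact le_sup_right
      · obtain ⟨p, hp⟩ := hPsurj (ψ x)
        show Ideal.Quotient.mk _ (Ideal.Quotient.mk _ x) = Ideal.Quotient.mk _ (σ (ψ x))
        rw [← hp, hσ, Ideal.Quotient.mk_eq_mk_iff_sub_mem]
        rw [IsScalarTower.algebraMap_apply P P' Q₂, Ideal.Quotient.algebraMap_eq, ← map_sub]
        refine Ideal.mem_map_of_mem _ ?_
        show ψ (x - ι p) = 0
        rw [map_sub, hψι, hp, sub_self]
    intro x hx
    rw [← Ideal.Quotient.eq_zero_iff_mem, ← Ideal.Quotient.mkₐ_eq_mk P, hsame]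
    show σ (ψ x) = 0
    rw [show ψ x = 0 from hx, map_zero]
  -- `J₁` is finitely generated modulo `IP`
  obtain ⟨S, hS⟩ := (inferInstance : Algebra.FiniteType P P').out
  let Y : Finset P' := Finset.univ.image (fun i => ι (g i)) ∪
    S.image fun y => y - ι (Classical.choose (hPsurj (ψ y)))
  have hYJ : Ideal.span (Y : Set P') ≤ J₁ := by
    rw [Ideal.span_le]
    intro z hz
    simp only [Y, Finset.coe_union, Finset.coe_image, Finset.coe_univ, Set.image_univ,
      Set.mem_union, Set.mem_range, Set.mem_image] at hz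
    rcases hz with ⟨i, rfl⟩ | ⟨y, -, rfl⟩
    · exact hgJ i
    · show ψ (y - ι _) = 0
      rw [map_sub, hψι, Classical.choose_spec (hPsurj (ψ y)), sub_self]
  have hJgen : J₁ ≤ Ideal.span (Y : Set P') ⊔ IP := by
    have hred' : ∀ x, ∃ p, x - ι p ∈ Ideal.span (Y : Set P') ⊔ IP := by
      intro x
      have hx : x ∈ Algebra.adjoin P (S : Set P') := hS ▸ trivial
      induction hx using Algebra.adjoin_induction with
      | mem y hy => exact ⟨_, Ideal.mem_sup_left (Ideal.subset_span (Finset.mem_union_right _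
          (Finset.mem_image_of_mem _ hy)))⟩
      | algebraMap p => exact ⟨p, by rw [sub_self]; exact zero_mem _⟩
      | add a b _ _ ha hb =>
        obtain ⟨p, hp⟩ := ha; obtain ⟨q, hq⟩ := hb
        exact ⟨p + q, by rw [map_add, add_sub_add_comm]; exact add_mem hp hq⟩
      | mul a b _ _ ha hb =>
        obtain ⟨p, hp⟩ := ha; obtain ⟨q, hq⟩ := hb
        exact ⟨p * q, by
          rw [map_mul, show a * b - ι p * ι q = (a - ι p) * b + ι p * (b - ι q) by ring]
          exact add_mem (Ideal.mul_mem_right _ _ hp) (Ideal.mul_mem_left _ _ hq)⟩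
    intro x hx
    obtain ⟨p, hp⟩ := hred' x
    have hp0 : algebraMap P A₀ p = 0 := by
      have h' : ψ (x - ι p) = 0 := sup_le hYJ hIJ hp
      rwa [map_sub, show ψ x = 0 from hx, zero_sub, neg_eq_zero, hψι] at h'
    rw [← sub_add_cancel x (ι p)]
    refine add_mem hp (SetLike.le_def.1 ?_ (Ideal.mem_map_of_mem ι (hkerP p hp0)))
    rw [Ideal.map_sup, Ideal.map_span, sup_le_iff, Ideal.span_le]
    refine ⟨?_, ?_⟩
    · rintro _ ⟨_, ⟨j, rfl⟩, rfl⟩
      exact Ideal.mem_sup_left (Ideal.subset_span (Finset.mem_union_left _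
        (Finset.mem_image_of_mem _ (Finset.mem_univ j))))
    · exact Ideal.map_le_iff_le_comap.2 fun x hx => Ideal.mem_sup_right (hICIP x hx)
  -- Nakayama
  obtain ⟨b, hb₁, hb⟩ : ∃ b, b - 1 ∈ J₁ ∧ ∀ x ∈ J₁, b * x ∈ T := by
    let N : Submodule P' (P' ⧸ T) := Submodule.map T.mkQ J₁
    have hNfg : N.FG := by
      have : N = Submodule.map T.mkQ (Ideal.span (Y : Set P')) := by
        refine le_antisymm ?_ (Submodule.map_mono hYJ)
        refine (Submodule.map_mono hJgen).trans ?_
        rw [Submodule.map_sup]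
        refine sup_le le_rfl ?_
        rintro _ ⟨x, hx, rfl⟩
        rw [show T.mkQ x = 0 from (Submodule.Quotient.mk_eq_zero _).2 (Ideal.mem_sup_right hx)]
        exact zero_mem _
      rw [this]
      exact Submodule.FG.map _ ⟨Y, rfl⟩
    obtain ⟨b, hb, hb'⟩ := Submodule.exists_sub_one_mem_and_smul_eq_zero_of_fg_of_le_smul J₁ N hNfg (by
      refine (Submodule.map_mono hJsq).trans ?_
      rw [Submodule.map_sup]
      refine sup_le ?_ ?_
      · rintro _ ⟨x, hx, rfl⟩
        rw [show T.mkQ x = 0 from (Submodule.Quotient.mk_eq_zero _).2 hx]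
        exact zero_mem _
      · rw [← smul_eq_mul, Submodule.map_smul''])
    refine ⟨b, hb, fun x hx => (Submodule.Quotient.mk_eq_zero T).1 ?_⟩
    exact hb' _ ⟨x, hx, rfl⟩
  have hψb : ψ b = 1 := by
    have : ψ (b - 1) = 0 := hb₁
    rwa [map_sub, map_one, sub_eq_zero] at this
  -- the derivations
  choose Dl hDl using fun l : Fin n => exists_derivation_extend (P' := P') (pderiv l : Derivation R P P)
  let Δ : Fin k → Derivation R P' P' := fun j => ∑ l, ι (Lt l j) • Dl l
  have hΔ : ∀ j x, Δ j x = ∑ l, ι (Lt l j) * Dl l x := fun j x => by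
    rw [← Derivation.coeFnAddMonoidHom_apply, map_sum, Finset.sum_apply]
    rfl
  let U : Matrix (Fin k) (Fin k) P' := Matrix.of fun i j => Δ j (h i)
  have hDh : ∀ l i, ψ (Dl l (h i)) = (M₀ * D₀) i l := by
    intro l i
    simp only [h, map_sum, Derivation.leibniz, smul_eq_mul, map_add, map_mul, hψι, hg0, zero_mul,
      add_zero, Matrix.mul_apply]
    refine Finset.sum_congr rfl fun j _ => ?_
    rw [show ψ (E i j) = M₀ i j from congrFun (congrFun hEψ i) j]
    refine congrArg (_ * ·) ?_
    show ψ (Dl l (algebraMap P P' (g j))) = _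
    rw [hDl, hψι]
    exact congrFun (congrFun hDg j) l
  have hUψ : U.map ψ = M₀ := by
    ext i j
    show ψ (Δ j (h i)) = _
    simp only [hΔ, map_sum, map_mul, hDh, hψι, hMD]
    show _ = (D₀ * L₀) i j
    rw [Matrix.mul_apply, ← hLt]
    exact Finset.sum_congr rfl fun l _ => mul_comm _ _
  let W : Matrix (Fin k) (Fin k) P' := E * U * E + (1 - E)
  have hWψ : ψ W.det = 1 := by
    rw [AlgHom.map_det]
    have : ψ.mapMatrix W = 1 := by
      rw [show W = E * U * E + (1 - E) from rfl, map_add, map_sub, map_mul, map_mul, map_one]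
      show E.map ψ * U.map ψ * E.map ψ + (1 - E.map ψ) = 1
      rw [hEψ, hUψ, hM₀.eq, hM₀.eq, add_sub_cancel]
    rw [this, Matrix.det_one]
  let a : P' := W.det * b
  have hψa : ψ a = 1 := by rw [map_mul, hWψ, hψb, one_mul]
  let δ : Fin k → Derivation R P' P' := fun j => ∑ m, (b * (E * W.adjugate) m j) • Δ m
  have hδ : ∀ i j, δ j (h i) - a * E i j ∈ H := by
    intro i j
    have h1 : δ j (h i) = b * (U * (E * W.adjugate)) i j := by
      rw [← Derivation.coeFnAddMonoidHom_apply, map_sum, Finset.sum_apply, Matrix.mul_apply,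
        Finset.mul_sum]
      refine Finset.sum_congr rfl fun m _ => ?_
      show b * (E * W.adjugate) m j * Δ m (h i) = b * (U i m * (E * W.adjugate) m j)
      show b * (E * W.adjugate) m j * Δ m (h i) = b * (Δ m (h i) * (E * W.adjugate) m j)
      ring
    let μ : P' →+* P' ⧸ H := Ideal.Quotient.mk H
    have hUEU : μ.mapMatrix U = μ.mapMatrix (E * U) := by
      ext i' m
      show μ (U i' m) = μ ((E * U) i' m)
      have h2 : U i' m = (E * U) i' m + ∑ l, h l * Δ m (E i' l) := by
        show Δ m (h i') = _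
        rw [hEh i', map_sum, Matrix.mul_apply, ← Finset.sum_add_distrib]
        exact Finset.sum_congr rfl fun l _ => by rw [Derivation.leibniz, smul_eq_mul, smul_eq_mul]; rfl
      rw [h2, map_add, show μ (∑ l, h l * Δ m (E i' l)) = 0 from Ideal.Quotient.eq_zero_iff_mem.2
        (Submodule.sum_mem _ fun l _ => Ideal.mul_mem_right _ _ (Ideal.subset_span ⟨l, rfl⟩)), add_zero]
    have hEW : E * U * (E * W.adjugate) = W.det • E := by
      have h3 : E * W = E * U * E := by
        rw [show W = E * U * E + (1 - E) from rfl, Matrix.mul_add, Matrix.mul_sub, Matrix.mul_one, hE.eq,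
          sub_self, add_zero, ← Matrix.mul_assoc, ← Matrix.mul_assoc, hE.eq]
      rw [← Matrix.mul_assoc, ← h3, Matrix.mul_assoc, Matrix.mul_adjugate, Matrix.mul_smul, Matrix.mul_one]
    rw [← Ideal.Quotient.eq_zero_iff_mem, map_sub, sub_eq_zero, h1, map_mul]
    have h4 : μ.mapMatrix (U * (E * W.adjugate)) = μ.mapMatrix (W.det • E) := by
      rw [map_mul, hUEU, ← map_mul, hEW]
    have h5 : μ ((U * (E * W.adjugate)) i j) = μ ((W.det • E) i j) := congrFun (congrFun h4 i) j
    rw [h5, Matrix.smul_apply, smul_eq_mul, show a = W.det * b from rfl]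
    simp only [map_mul]
    ring
  -- the algebra
  let Q := P' ⧸ H
  have : Algebra.FinitePresentation R Q :=
    Algebra.FinitePresentation.quotient (Submodule.fg_span (Set.finite_range _))
  let aQ : Q := Ideal.Quotient.mk H a
  let A := Localization.Away aQ
  have : Algebra.FinitePresentation Q A := IsLocalization.Away.finitePresentation aQ
  have hFP : Algebra.FinitePresentation R A := Algebra.FinitePresentation.trans R Q A
  have hFS : Algebra.FormallySmooth R A := by
    refine Algebra.FormallySmooth.of_comp_surjective fun D _ _ K hK gA => ?_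
    let gP : P' →ₐ[R] D ⧸ K :=
      (gA.comp (IsScalarTower.toAlgHom R Q A)).comp (Ideal.Quotient.mkₐ R H)
    obtain ⟨θ, hθ⟩ := Algebra.FormallySmooth.comp_surjective R P' K hK gP
    have hθ' : ∀ x, Ideal.Quotient.mk K (θ x) = gP x := fun x => DFunLike.congr_fun hθ x
    have hnil : IsNilpotent K := ⟨2, hK⟩
    have hua : IsUnit (θ a) := by
      rw [← IsNilpotent.isUnit_quotient_mk_iff (I := K) hnil, hθ']
      exact (IsLocalization.Away.algebraMap_isUnit aQ).map gA
    obtain ⟨v, hv⟩ := hua.exists_left_inv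
    have hc : ∀ x ∈ H, θ x ∈ K := fun x hx => by
      rw [← Ideal.Quotient.eq_zero_iff_mem, hθ']
      show gA (algebraMap Q A (Ideal.Quotient.mk H x)) = 0
      rw [Ideal.Quotient.eq_zero_iff_mem.2 hx, map_zero, map_zero]
    have hKK : ∀ x ∈ K, ∀ y ∈ K, x * y = 0 := fun x hx y hy => by
      rw [← Ideal.mem_bot, ← hK, pow_two]
      exact Ideal.mul_mem_mul hx hy
    let c : Fin k → D := fun j => θ (h j)
    have hcK : ∀ j, c j ∈ K := fun j => hc _ (Ideal.subset_span ⟨j, rfl⟩)
    let s : P' → D := fun x => ∑ j, θ (δ j x) * c j * v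
    have hsK : ∀ x, s x ∈ K := fun x =>
      Submodule.sum_mem _ fun j _ => Ideal.mul_mem_right _ _ (Ideal.mul_mem_left _ _ (hcK j))
    have hsmul : ∀ x y, s (x * y) = θ x * s y + θ y * s x := fun x y => by
      simp only [s, Derivation.leibniz, smul_eq_mul, map_add, map_mul, Finset.mul_sum, ← Finset.sum_add_distrib]
      exact Finset.sum_congr rfl fun j _ => by ring
    let θ' : P' →ₐ[R] D :=
      { toFun := fun x => θ x - s x
        map_one' := by simp [s]
        map_zero' := by simp [s]
        map_add' := fun x y => by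
          simp only [s, map_add, add_mul, Finset.sum_add_distrib]
          ring
        map_mul' := fun x y => by
          show θ (x * y) - s (x * y) = (θ x - s x) * (θ y - s y)
          have h0 := hKK _ (hsK x) _ (hsK y)
          rw [map_mul, hsmul]
          linear_combination -h0
        commutes' := fun r => by simp [s] }
    have hθ'θ : ∀ x, Ideal.Quotient.mk K (θ' x) = gP x := fun x => by
      show Ideal.Quotient.mk K (θ x - s x) = _
      rw [map_sub, Ideal.Quotient.eq_zero_iff_mem.2 (hsK x), sub_zero, hθ']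
    have hθ'H : H ≤ RingHom.ker θ' := by
      rw [Ideal.span_le]
      rintro _ ⟨i, rfl⟩
      show θ (h i) - s (h i) = 0
      have h1 : ∀ j, θ (δ j (h i)) * c j * v = θ (E i j) * c j := fun j => by
        have h2 := hKK _ (hc _ (hδ i j)) _ (hcK j)
        rw [map_sub, map_mul, sub_mul, sub_eq_zero] at h2
        rw [h2]
        linear_combination (θ (E i j) * c j) * hv
      simp only [s, h1]
      rw [sub_eq_zero]
      conv_lhs => rw [hEh i, map_sum]
      exact Finset.sum_congr rfl fun j _ => map_mul _ _ _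
    let θQ : Q →ₐ[R] D := Ideal.Quotient.liftₐ H θ' hθ'H
    have hθQ : ∀ y : Submonoid.powers aQ, IsUnit (θQ y) := by
      rintro ⟨_, m, rfl⟩
      show IsUnit (θQ (aQ ^ m))
      rw [map_pow]
      refine IsUnit.pow _ ?_
      show IsUnit (θ' a)
      rw [← IsNilpotent.isUnit_quotient_mk_iff (I := K) hnil, hθ'θ]
      exact (IsLocalization.Away.algebraMap_isUnit aQ).map gA
    let Θ : A →ₐ[R] D := IsLocalization.liftAlgHom (M := Submonoid.powers aQ) (f := θQ) hθQ
    refine ⟨Θ, IsLocalization.algHom_ext (Submonoid.powers aQ) (Ideal.Quotient.algHom_ext _ ?_)⟩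
    refine AlgHom.ext fun x => ?_
    show Ideal.Quotient.mk K (Θ (algebraMap Q A (Ideal.Quotient.mk H x))) = gP x
    rw [show Θ (algebraMap Q A (Ideal.Quotient.mk H x)) = θ' x from IsLocalization.lift_eq hθQ _]
    exact hθ'θ x
  refine ⟨A, inferInstance, inferInstance, ⟨hFS, hFP⟩, ?_⟩
  -- the reduction
  let ψR : P' →ₐ[R] A₀ := ψ.restrictScalars R
  let ψQ : Q →ₐ[R] A₀ := Ideal.Quotient.liftₐ H ψR fun x hx => hHJ hx
  have hψQ : ∀ y : Submonoid.powers aQ, IsUnit (ψQ y) := by
    rintro ⟨_, m, rfl⟩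
    show IsUnit (ψQ (aQ ^ m))
    rw [map_pow, show ψQ aQ = 1 from hψa, one_pow]
    exact isUnit_one
  let ψA : A →ₐ[R] A₀ := IsLocalization.liftAlgHom (M := Submonoid.powers aQ) (f := ψQ) hψQ
  have hψA : ∀ x, ψA (algebraMap Q A (Ideal.Quotient.mk H x)) = ψ x := fun x =>
    IsLocalization.lift_eq hψQ _
  have hIker : I.map (algebraMap R A) ≤ RingHom.ker ψA := by
    refine Ideal.map_le_iff_le_comap.2 fun x hx => ?_
    show ψA (algebraMap R A x) = 0
    rw [AlgHom.commutes, IsScalarTower.algebraMap_apply R (R ⧸ I) A₀, Ideal.Quotient.algebraMap_eq,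
      Ideal.Quotient.eq_zero_iff_mem.2 hx, map_zero]
  let Φ₀ : (A ⧸ I.map (algebraMap R A)) →+* A₀ := Ideal.Quotient.lift _ ψA.toRingHom hIker
  let Φ : (A ⧸ I.map (algebraMap R A)) →ₐ[R ⧸ I] A₀ :=
    { Φ₀ with
      commutes' := fun r => by
        obtain ⟨r, rfl⟩ := Ideal.Quotient.mk_surjective r
        show ψA (algebraMap R A r) = _
        exact ψA.commutes r }
  refine ⟨AlgEquiv.ofBijective Φ ⟨?_, fun x => ?_⟩⟩
  · rw [injective_iff_map_eq_zero]
    intro z hz
    obtain ⟨z, rfl⟩ := Ideal.Quotient.mk_surjective z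
    have hz' : ψA z = 0 := hz
    rw [Ideal.Quotient.eq_zero_iff_mem]
    obtain ⟨⟨q, s⟩, hqs⟩ := IsLocalization.surj (Submonoid.powers aQ) z
    obtain ⟨x, rfl⟩ := Ideal.Quotient.mk_surjective q
    have hx : x ∈ J₁ := by
      show ψ x = 0
      rw [← hψA, ← hqs, map_mul, hz', zero_mul]
    have h1 : algebraMap Q A (Ideal.Quotient.mk H (b * x)) ∈ I.map (algebraMap R A) := by
      have hbx := hb x hx
      have hle : T ≤ (I.map (algebraMap R A)).comap ((algebraMap Q A).comp (Ideal.Quotient.mk H)) := by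
        refine sup_le ?_ (Ideal.map_le_iff_le_comap.2 fun r hr => ?_)
        · intro y hy
          show algebraMap Q A (Ideal.Quotient.mk H y) ∈ I.map (algebraMap R A)
          rw [Ideal.Quotient.eq_zero_iff_mem.2 hy, map_zero]
          exact zero_mem _
        · show algebraMap Q A (Ideal.Quotient.mk H (algebraMap R P' r)) ∈ I.map (algebraMap R A)
          rw [show Ideal.Quotient.mk H (algebraMap R P' r) = algebraMap R Q r from rfl,
            ← IsScalarTower.algebraMap_apply]
          exact Ideal.mem_map_of_mem _ hr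
      exact hle hbx
    have hu : IsUnit (algebraMap Q A (Ideal.Quotient.mk H b) * algebraMap Q A s) := by
      refine IsUnit.mul ?_ (IsLocalization.map_units A s)
      have := IsLocalization.Away.algebraMap_isUnit (S := A) aQ
      have e : algebraMap Q A aQ = algebraMap Q A (Ideal.Quotient.mk H W.det) *
          algebraMap Q A (Ideal.Quotient.mk H b) :=
        (congrArg (algebraMap Q A) (map_mul (Ideal.Quotient.mk H) W.det b)).trans (map_mul _ _ _)
      rw [e] at this
      exact isUnit_of_mul_isUnit_right this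
    rw [← Ideal.unit_mul_mem_iff_mem _ hu]
    rw [map_mul, map_mul, ← hqs] at h1
    convert h1 using 1
    ring
  · obtain ⟨y, rfl⟩ := hψsurj x
    exact ⟨Ideal.Quotient.mk _ (algebraMap Q A (Ideal.Quotient.mk H y)), hψA y⟩

end Groth.Agent.Lib.Smoothing.LiftSmooth
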