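import Groth.Agent.Lib.Smoothing.Popescu.Main
import Groth.Agent.H30.Compl
import Mathlib.RingTheory.RingHom.LocallyStandardSmooth
import Mathlib.RingTheory.AdicCompletion.LocalRing
import Mathlib.RingTheory.Etale.Basic
import Mathlib.RingTheory.Smooth.Basic

/-!
# Etale approximation of formal solutions
-/

universe u

open IsLocalRing MvPolynomial
open scoped TensorProduct

namespace Groth.Agent.Lib.Smoothing.Approx

/-- Ind-smoothness over a localization gives ind-smoothness over the ring. -/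
theorem indSmooth_of_localization {R L Λ : Type u} [CommRing R] [IsNoetherianRing R] (S : Submonoid R)
    [CommRing L] [Algebra R L] [IsLocalization S L] [CommRing Λ] [Algebra L Λ] [Algebra R Λ]
    [IsScalarTower R L Λ] (h : _root_.Smoothing.IndSmooth L Λ) : _root_.Smoothing.IndSmooth R Λ := by
  intro A _ _ hA φ
  let f : L ⊗[R] A →ₐ[L] Λ := Algebra.TensorProduct.lift (Algebra.ofId L Λ) φ fun _ _ => Commute.all _ _
  obtain ⟨B', _, _, hB', g', h', hgh'⟩ := h (L ⊗[R] A) inferInstance f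
  let _ : Algebra R B' := ((algebraMap L B').comp (algebraMap R L)).toAlgebra
  have : IsScalarTower R L B' := IsScalarTower.of_algebraMap_eq' rfl
  have hu : ∀ s ∈ S, IsUnit (algebraMap R Λ s) := fun s hs => by
    rw [IsScalarTower.algebraMap_apply R L Λ]
    exact (IsLocalization.map_units L (⟨s, hs⟩ : S)).map _
  have : IsLocalization (Algebra.algebraMapSubmonoid Λ S) Λ :=
    IsLocalization.self (by rintro _ ⟨s, hs, rfl⟩; exact hu s hs)
  obtain ⟨C, _, _, hC, α, β, hαβ, s, hs, hsC⟩ := Popescu.Descend.exists_descended (ΛQ := Λ) S φ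
    ((g'.restrictScalars R).comp Algebra.TensorProduct.includeRight) h' (fun a => by
      show h' (g' (1 ⊗ₜ a)) = φ a
      rw [show h' (g' (1 ⊗ₜ a)) = f (1 ⊗ₜ a) from DFunLike.congr_fun hgh' _]
      simp [f])
  obtain ⟨E, _, _, hE, u, v, huv⟩ := DVR.exists_smooth_factor β (Ideal.eq_top_of_isUnit_mem _
    (Ideal.mem_map_of_mem β hsC) (by rw [AlgHom.commutes]; exact hu s hs))
  exact ⟨E, inferInstance, inferInstance, hE, u.comp α, v, by rw [← AlgHom.comp_assoc, huv, hαβ]⟩

/-- An étale neighbourhood carrying a solution close to a given formal solution. -/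
theorem exists_etale_approx_of_pos {R : Type u} [CommRing R] [IsNoetherianRing R] (p : Ideal R) [p.IsPrime]
    (L : Type u) [CommRing L] [IsLocalRing L] [IsNoetherianRing L] [Algebra R L]
    [IsLocalization.AtPrime L p]
    (hind : _root_.Smoothing.IndSmooth R (AdicCompletion (maximalIdeal L) L)) {n m : ℕ}
    (F : Fin m → MvPolynomial (Fin n) R) (a : Fin n → AdicCompletion (maximalIdeal L) L)
    (ha : ∀ j, aeval a (F j) = 0) (N : ℕ) (hN : 0 < N) :
    ∃ (R' : Type u) (_ : CommRing R') (_ : Algebra R R'), Algebra.Etale R R' ∧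
      ∃ (ψ : R' →ₐ[R] AdicCompletion (maximalIdeal L) L) (p' : Ideal R'), p'.IsPrime ∧
        p'.comap (algebraMap R R') = p ∧
        (∀ x : R', ∃ r s : R, s ∉ p ∧ algebraMap R R' s * x - algebraMap R R' r ∈ p') ∧
        (∀ x ∈ p', ψ x ∈ (maximalIdeal L).map (algebraMap L (AdicCompletion (maximalIdeal L) L))) ∧
        ∃ b : Fin n → R', (∀ j, aeval b (F j) = 0) ∧
          ∀ i, a i - ψ (b i) ∈
            (maximalIdeal L ^ N).map (algebraMap L (AdicCompletion (maximalIdeal L) L)) := by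
  classical
  let 𝔪 := maximalIdeal L
  let Λ := AdicCompletion 𝔪 L
  have : IsScalarTower R L Λ := IsScalarTower.of_algebraMap_eq fun r => rfl
  have hfg : 𝔪.FG := IsNoetherian.noetherian _
  have hker : ∀ (M : ℕ) (z : Λ), AdicCompletion.evalₐ 𝔪 M z = 0 →
      z ∈ (𝔪 ^ M).map (algebraMap L Λ) := fun M z hz => by
    rw [Ideal.map_pow, ← H30.Compl.ker_evalₐ 𝔪 hfg M]
    exact hz
  have hmΛ : maximalIdeal Λ = 𝔪.map (algebraMap L Λ) := AdicCompletion.maximalIdeal_eq_map
  -- factor the formal solution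
  let I : Ideal (MvPolynomial (Fin n) R) := Ideal.span (Set.range F)
  have : Algebra.FinitePresentation R (MvPolynomial (Fin n) R ⧸ I) :=
    Algebra.FinitePresentation.quotient (Submodule.fg_span (Set.finite_range F))
  let φ : (MvPolynomial (Fin n) R ⧸ I) →ₐ[R] Λ := Ideal.Quotient.liftₐ I (aeval a) fun z hz => by
    refine (Ideal.span_le (I := RingHom.ker (aeval (R := R) a))).2 ?_ hz
    rintro _ ⟨j, rfl⟩
    exact ha j
  obtain ⟨B, _, _, hB, gB, hBΛ, hgh⟩ := hind (MvPolynomial (Fin n) R ⧸ I) inferInstance φ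
  obtain ⟨S₀, hS₀, hstd⟩ := Algebra.Smooth.exists_span_eq_top_isStandardSmooth R B
  obtain ⟨t, htS, ht⟩ : ∃ t ∈ S₀, hBΛ t ∉ maximalIdeal Λ := by
    by_contra! hcon
    have h1 : (⊤ : Ideal B) ≤ (maximalIdeal Λ).comap hBΛ := hS₀ ▸ Ideal.span_le.2 hcon
    exact (maximalIdeal.isMaximal Λ).ne_top
      ((Ideal.eq_top_iff_one _).2 (map_one hBΛ ▸ h1 Submodule.mem_top))
  have htu : ∀ y : Submonoid.powers t, IsUnit (hBΛ y) := by
    rintro ⟨_, k, rfl⟩
    rw [map_pow]
    exact (of_not_not fun h => ht ((mem_maximalIdeal _).2 h)).pow k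
  obtain ⟨Bt, _, _, _, _, _, hBtstd⟩ : ∃ (Bt : Type u) (_ : CommRing Bt) (_ : Algebra B Bt) (_ : Algebra R Bt)
      (_ : IsScalarTower R B Bt) (_ : IsLocalization.Away t Bt), Algebra.IsStandardSmooth R Bt :=
    ⟨Localization.Away t, inferInstance, inferInstance, inferInstance, inferInstance, inferInstance,
      hstd t htS⟩
  let hBt : Bt →ₐ[R] Λ := IsLocalization.liftAlgHom (S := Bt) htu
  have hhBt : ∀ z, hBt (algebraMap B Bt z) = hBΛ z := fun z => IsLocalization.lift_eq htu z
  obtain ⟨d, g, hgC, hget⟩ := RingHom.IsStandardSmooth.exists_etale_mvPolynomial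
    (RingHom.isStandardSmooth_algebraMap.2 hBtstd)
  -- approximate the coordinates by fractions
  choose l hl using fun i => Ideal.Quotient.mk_surjective (AdicCompletion.evalₐ 𝔪 N (hBt (g (X i))))
  obtain ⟨⟨s, hs⟩, hsl⟩ := IsLocalization.exist_integer_multiples_of_finite p.primeCompl l
  choose r hr using hsl
  obtain ⟨Rs, _, _, _⟩ : ∃ (Rs : Type u) (_ : CommRing Rs) (_ : Algebra R Rs), IsLocalization.Away s Rs :=
    ⟨Localization.Away s, inferInstance, inferInstance, inferInstance⟩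
  have hsu : IsUnit (algebraMap R L s) := IsLocalization.map_units L (⟨s, hs⟩ : p.primeCompl)
  let jL : Rs →ₐ[R] L := IsLocalization.liftAlgHom (M := Submonoid.powers s) (f := Algebra.ofId R L) (by
    rintro ⟨_, k, rfl⟩
    rw [map_pow]
    exact hsu.pow k)
  let v : Fin d → Rs := fun i => algebraMap R Rs (r i) * IsLocalization.Away.invSelf s
  have hv : ∀ i, jL (v i) = l i := fun i => by
    refine hsu.mul_left_cancel ?_
    rw [← jL.commutes, ← map_mul]
    simp only [v]
    rw [mul_left_comm, IsLocalization.Away.mul_invSelf, mul_one, jL.commutes, hr, Algebra.smul_def]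
    simp only [AlgHom.commutes]
  let P' := MvPolynomial (Fin d) R
  let _ : Algebra P' Rs := (aeval (R := R) v).toRingHom.toAlgebra
  have : IsScalarTower R P' Rs := IsScalarTower.of_algebraMap_eq fun c => ((aeval (R := R) v).commutes c).symm
  let _ : Algebra P' Bt := g.toAlgebra
  have : IsScalarTower R P' Bt := IsScalarTower.of_algebraMap_eq fun c => (RingHom.congr_fun hgC c).symm
  have : Algebra.Etale P' Bt := RingHom.etale_algebraMap.1 hget
  let R' := Rs ⊗[P'] Bt
  have : Algebra.Etale R Rs := Algebra.Etale.of_isLocalizationAway s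
  have : Algebra.Etale R R' := Algebra.Etale.comp R Rs R'
  -- the map modulo `𝔪 ^ N`
  let T := L ⧸ 𝔪 ^ N
  let jT : Rs →ₐ[R] T := (Ideal.Quotient.mkₐ R (𝔪 ^ N)).comp jL
  let bT : Bt →ₐ[R] T := ((AdicCompletion.evalₐ 𝔪 N).restrictScalars R).comp hBt
  have hagree : ∀ z : P', bT (algebraMap P' Bt z) = jT (algebraMap P' Rs z) := by
    intro z
    suffices bT.comp (IsScalarTower.toAlgHom R P' Bt) = jT.comp (IsScalarTower.toAlgHom R P' Rs) from
      DFunLike.congr_fun this z
    refine MvPolynomial.algHom_ext fun i => ?_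
    show AdicCompletion.evalₐ 𝔪 N (hBt (g (X i))) = Ideal.Quotient.mk _ (jL (aeval v (X i)))
    rw [aeval_X, hv, hl]
  let _ : Algebra Rs T := jT.toRingHom.toAlgebra
  let _ : Algebra P' T := (jT.toRingHom.comp (algebraMap P' Rs)).toAlgebra
  have : IsScalarTower P' Rs T := IsScalarTower.of_algebraMap_eq fun _ => rfl
  let bT' : Bt →ₐ[P'] T := { bT.toRingHom with commutes' := hagree }
  let f₀ : R' →ₐ[Rs] T := Algebra.TensorProduct.lift (Algebra.ofId Rs T) bT' fun _ _ => Commute.all _ _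
  let f₀R : R' →ₐ[R] T :=
    { f₀.toRingHom with
      commutes' := fun c => by
        show f₀ (algebraMap R R' c) = algebraMap R T c
        rw [IsScalarTower.algebraMap_apply R Rs R', f₀.commutes]
        exact jT.commutes c }
  -- lift along the powers of `𝔪`
  have hstep : ∀ (M : ℕ) (f : R' →ₐ[R] L ⧸ 𝔪 ^ (N + M)), ∃ f' : R' →ₐ[R] L ⧸ 𝔪 ^ (N + (M + 1)),
      (Ideal.Quotient.factorₐ R (Ideal.pow_le_pow_right (by omega : N + M ≤ N + (M + 1)))).comp f' = f := by
    intro M f
    have hpos : 0 < N + M := by omega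
    let π := Ideal.Quotient.factorₐ R (Ideal.pow_le_pow_right (I := 𝔪) (by omega : N + M ≤ N + (M + 1)))
    have hπ : Function.Surjective π :=
      Ideal.Quotient.factor_surjective (Ideal.pow_le_pow_right (I := 𝔪) (by omega : N + M ≤ N + (M + 1)))
    have hnil : IsNilpotent (RingHom.ker π.toRingHom) := by
      refine ⟨2, ?_⟩
      rw [show RingHom.ker π.toRingHom = (𝔪 ^ (N + M)).map (Ideal.Quotient.mk _) from
        Ideal.Quotient.factor_ker (Ideal.pow_le_pow_right (I := 𝔪) (by omega : N + M ≤ N + (M + 1))), ← Ideal.map_pow, Ideal.zero_eq_bot, Ideal.map_eq_bot_iff_le_ker, Ideal.mk_ker,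
        ← pow_mul]
      exact Ideal.pow_le_pow_right (by omega)
    exact ⟨Algebra.FormallySmooth.liftOfSurjective f π hπ hnil,
      Algebra.FormallySmooth.comp_liftOfSurjective f π hπ hnil⟩
  choose next hnext using hstep
  let seq : ∀ M, R' →ₐ[R] L ⧸ 𝔪 ^ (N + M) := fun M => Nat.rec (motive := fun M => R' →ₐ[R] L ⧸ 𝔪 ^ (N + M))
    f₀R next M
  have hseq : ∀ (k M : ℕ) (hle : N + k ≤ N + M) (x : R'),
      Ideal.Quotient.factorₐ R (Ideal.pow_le_pow_right hle) (seq M x) = seq k x := by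
    intro k M hle x
    obtain ⟨e, rfl⟩ : ∃ e, M = k + e := ⟨M - k, by omega⟩
    induction e with
    | zero => obtain ⟨y, hy⟩ := Ideal.Quotient.mk_surjective (seq k x); simp only [Nat.add_zero]; rw [← hy]; rfl
    | succ e ih =>
      rw [← ih (by omega)]
      have h1 := DFunLike.congr_fun (hnext (k + e) (seq (k + e))) x
      rw [← h1]
      show _ = Ideal.Quotient.factorₐ R (Ideal.pow_le_pow_right (I := 𝔪) (by omega : N + k ≤ N + (k + e)))
        (Ideal.Quotient.factorₐ R (Ideal.pow_le_pow_right (I := 𝔪) (by omega : N + (k + e) ≤ N + (k + (e + 1))))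
          (seq (k + (e + 1)) x))
      obtain ⟨y, hy⟩ := Ideal.Quotient.mk_surjective (seq (k + (e + 1)) x)
      rw [← hy]
      rfl
  let fam : ∀ M, R' →ₐ[R] L ⧸ 𝔪 ^ M := fun M =>
    (Ideal.Quotient.factorₐ R (Ideal.pow_le_pow_right (Nat.le_add_left M N))).comp (seq M)
  let ψ : R' →ₐ[R] Λ := AdicCompletion.liftAlgHom 𝔪 fam fun {i j} hle => AlgHom.ext fun x => by
    show Ideal.Quotient.factorₐ R (Ideal.pow_le_pow_right hle)
        (Ideal.Quotient.factorₐ R (Ideal.pow_le_pow_right (Nat.le_add_left j N)) (seq j x)) =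
      Ideal.Quotient.factorₐ R (Ideal.pow_le_pow_right (Nat.le_add_left i N)) (seq i x)
    rw [← hseq i j (by omega) x]
    obtain ⟨y, hy⟩ := Ideal.Quotient.mk_surjective (seq j x)
    rw [← hy]
    rfl
  have hψ : ∀ x, AdicCompletion.evalₐ 𝔪 N (ψ x) = f₀ x := fun x => by
    rw [AdicCompletion.evalₐ_liftAlgHom]
    exact (hseq 0 N (by omega) x :)
  let p' : Ideal R' := (maximalIdeal Λ).comap ψ
  have hcomap : p'.comap (algebraMap R R') = p := by
    ext z
    show ψ (algebraMap R R' z) ∈ maximalIdeal Λ ↔ z ∈ p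
    rw [AlgHom.commutes, IsScalarTower.algebraMap_apply R L Λ]
    show algebraMap R L z ∈ (maximalIdeal Λ).comap (algebraMap L Λ) ↔ z ∈ p
    rw [IsLocalRing.maximalIdeal_comap]
    exact IsLocalization.AtPrime.to_map_mem_maximal_iff L p z
  refine ⟨R', inferInstance, inferInstance, inferInstance, ψ, p', Ideal.comap_isPrime ψ _, hcomap,
    fun x => ?_, fun x hx => hmΛ ▸ hx, fun i => 1 ⊗ₜ algebraMap B Bt (gB (Ideal.Quotient.mk I (X i))),
    fun j => ?_, fun i => ?_⟩
  · obtain ⟨l₀, hl₀⟩ := Ideal.Quotient.mk_surjective (AdicCompletion.evalₐ 𝔪 1 (ψ x))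
    obtain ⟨⟨c, s', hs'⟩, hcs⟩ := IsLocalization.surj p.primeCompl l₀
    refine ⟨c, s', hs', ?_⟩
    show ψ (algebraMap R R' s' * x - algebraMap R R' c) ∈ maximalIdeal Λ
    rw [map_sub, map_mul, AlgHom.commutes, AlgHom.commutes, hmΛ]
    suffices h1 : algebraMap R Λ s' * ψ x - algebraMap R Λ c ∈ (𝔪 ^ 1).map (algebraMap L Λ) by
      rwa [pow_one] at h1
    refine hker 1 _ ?_
    rw [map_sub, map_mul, IsScalarTower.algebraMap_apply R L Λ, IsScalarTower.algebraMap_apply R L Λ,
      AlgHom.commutes, AlgHom.commutes, ← hl₀, Ideal.Quotient.algebraMap_eq, ← map_mul, ← hcs, ← map_sub,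
      mul_comm, sub_self, map_zero]
  · let ιb : (MvPolynomial (Fin n) R ⧸ I) →ₐ[R] R' :=
      ((Algebra.TensorProduct.includeRight : Bt →ₐ[P'] R').restrictScalars R).comp
        ((IsScalarTower.toAlgHom R B Bt).comp gB)
    show aeval (fun i => ιb (Ideal.Quotient.mk I (X i))) (F j) = 0
    rw [show aeval (fun i => ιb (Ideal.Quotient.mk I (X i))) = ιb.comp (Ideal.Quotient.mkₐ R I) from
      MvPolynomial.algHom_ext fun i => by rw [aeval_X]; rfl]
    show ιb (Ideal.Quotient.mk I (F j)) = 0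
    rw [Ideal.Quotient.eq_zero_iff_mem.2 (Ideal.subset_span (s := Set.range F) ⟨j, rfl⟩), map_zero]
  · refine hker N _ ?_
    rw [map_sub, hψ, sub_eq_zero]
    show _ = Algebra.TensorProduct.lift (Algebra.ofId Rs T) bT' (fun _ _ => Commute.all _ _)
      ((1 : Rs) ⊗ₜ algebraMap B Bt (gB (Ideal.Quotient.mk I (X i))))
    rw [Algebra.TensorProduct.lift_tmul, map_one, one_mul]
    show _ = AdicCompletion.evalₐ 𝔪 N (hBt (algebraMap B Bt _))
    rw [hhBt, show hBΛ (gB (Ideal.Quotient.mk I (X i))) = φ (Ideal.Quotient.mk I (X i)) from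
      DFunLike.congr_fun hgh _]
    show _ = AdicCompletion.evalₐ 𝔪 N (aeval a (X i))
    rw [aeval_X]

theorem exists_etale_approx {R : Type u} [CommRing R] [IsNoetherianRing R] (p : Ideal R) [p.IsPrime]
    (L : Type u) [CommRing L] [IsLocalRing L] [IsNoetherianRing L] [Algebra R L]
    [IsLocalization.AtPrime L p]
    (hind : _root_.Smoothing.IndSmooth R (AdicCompletion (maximalIdeal L) L)) {n m : ℕ}
    (F : Fin m → MvPolynomial (Fin n) R) (a : Fin n → AdicCompletion (maximalIdeal L) L)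
    (ha : ∀ j, aeval a (F j) = 0) (N : ℕ) :
    ∃ (R' : Type u) (_ : CommRing R') (_ : Algebra R R'), Algebra.Etale R R' ∧
      ∃ (ψ : R' →ₐ[R] AdicCompletion (maximalIdeal L) L) (p' : Ideal R'), p'.IsPrime ∧
        p'.comap (algebraMap R R') = p ∧
        (∀ x : R', ∃ r s : R, s ∉ p ∧ algebraMap R R' s * x - algebraMap R R' r ∈ p') ∧
        (∀ x ∈ p', ψ x ∈ (maximalIdeal L).map (algebraMap L (AdicCompletion (maximalIdeal L) L))) ∧
        ∃ b : Fin n → R', (∀ j, aeval b (F j) = 0) ∧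
          ∀ i, a i - ψ (b i) ∈
            (maximalIdeal L ^ N).map (algebraMap L (AdicCompletion (maximalIdeal L) L)) := by
  obtain ⟨R', _, _, het, ψ, p', hp', hc, hres, hmem, b, hb, hab⟩ :=
    exists_etale_approx_of_pos p L hind F a ha (N + 1) (Nat.succ_pos N)
  exact ⟨R', inferInstance, inferInstance, het, ψ, p', hp', hc, hres, hmem, b, hb, fun i =>
    Ideal.map_mono (Ideal.pow_le_pow_right (Nat.le_succ N)) (hab i)⟩

end Groth.Agent.Lib.Smoothing.Approx
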