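import Groth.Prelude.Def_Smoothing
import Mathlib.RingTheory.TensorProduct.MvPolynomial
import Mathlib.LinearAlgebra.TensorProduct.RightExactness

/-!
# Base change of marked presentations
-/

universe u

open MvPolynomial TensorProduct

namespace Groth.Agent.Lib.Smoothing.BaseChange

variable {R A : Type u} [CommRing R] [CommRing A] [Algebra R A]

theorem exists_presentation (P : _root_.Smoothing.MarkedPresentation R A) (R' : Type u)
    [CommRing R'] [Algebra R R'] :
    ∃ hom' : MvPolynomial (Fin P.n) R' →ₐ[R'] R' ⊗[R] A, Function.Surjective hom' ∧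
      RingHom.ker hom'.toRingHom =
        Ideal.span (Set.range fun j => map (algebraMap R R') (P.rel j)) ∧
      ∀ p, hom' (map (algebraMap R R') p) = (1 : R') ⊗ₜ P.hom p := by
  let e := MvPolynomial.algebraTensorAlgEquiv (σ := Fin P.n) R R'
  let T := Algebra.TensorProduct.map (AlgHom.id R' R') P.hom
  let hom' : MvPolynomial (Fin P.n) R' →ₐ[R'] R' ⊗[R] A := T.comp e.symm.toAlgHom
  have hmap : ∀ p, e.symm (map (algebraMap R R') p) = (1 : R') ⊗ₜ p := fun p => by
    rw [e.symm_apply_eq]; simp [e]
  have hsurj : Function.Surjective hom' := by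
    intro z
    obtain ⟨w, rfl⟩ := LinearMap.lTensor_surjective R' (g := P.hom.toLinearMap) P.surj z
    refine ⟨e w, ?_⟩
    show T (e.symm (e w)) = _
    rw [e.symm_apply_apply]
    rfl
  have hker : RingHom.ker hom'.toRingHom =
      Ideal.span (Set.range fun j => map (algebraMap R R') (P.rel j)) := by
    refine le_antisymm ?_ (Ideal.span_le.2 ?_)
    · intro q hq
      have hq' : e.symm q ∈ RingHom.ker (Algebra.TensorProduct.map (AlgHom.id R R') P.hom) := hq
      rw [Algebra.TensorProduct.lTensor_ker _ P.surj] at hq'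
      have h2 : RingHom.ker P.hom = Ideal.span (Set.range P.rel) := P.ker_eq
      rw [h2, Ideal.map_span, ← Set.range_comp] at hq'
      have h3 := Ideal.mem_map_of_mem e.toRingEquiv.toRingHom hq'
      rw [Ideal.map_span, ← Set.range_comp] at h3
      have he : e (e.symm q) = q := e.apply_symm_apply q
      convert h3 using 1
      · exact congrArg Ideal.span (congrArg Set.range (funext fun j => by simp [e]))
      · exact he.symm
    · rintro _ ⟨j, rfl⟩
      show T (e.symm (map _ (P.rel j))) = 0
      rw [hmap]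
      simp [T, show P.hom (P.rel j) = 0 from P.ker_eq.ge (Ideal.subset_span ⟨j, rfl⟩)]
  refine ⟨hom', hsurj, hker, fun p => ?_⟩
  show T (e.symm (map _ p)) = _
  rw [hmap]
  simp [T]

theorem killsTail_of_lift {P : _root_.Smoothing.MarkedPresentation R A} {a : A}
    {g : MvPolynomial (Fin P.n) R} (hg : P.hom g = a)
    (h : ∀ j : Fin P.m, P.c ≤ (j : ℕ) → g * P.rel j ∈
      Ideal.span (P.rel '' {j' : Fin P.m | (j' : ℕ) < P.c}) ⊔ Ideal.span (Set.range P.rel) ^ 2) :
    _root_.Smoothing.KillsTail P a := by
  intro g' hg' j hj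
  have h1 : (g' - g) * P.rel j ∈ Ideal.span (Set.range P.rel) ^ 2 := by
    rw [pow_two]
    refine Ideal.mul_mem_mul (P.ker_eq.le ?_) (Ideal.subset_span ⟨j, rfl⟩)
    show P.hom (g' - g) = 0
    rw [map_sub, hg', hg, sub_self]
  rw [show g' * P.rel j = g * P.rel j + (g' - g) * P.rel j by ring]
  exact Ideal.add_mem _ (h j hj) (Ideal.mem_sup_right h1)

end Groth.Agent.Lib.Smoothing.BaseChange
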