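import Groth.Agent.Lib.Smoothing.SymSmooth
import Mathlib.RingTheory.Smooth.StandardSmoothOfFree
import Mathlib.RingTheory.Finiteness.Nakayama
import Mathlib.RingTheory.Etale.Kaehler
import Mathlib.Algebra.DualNumber
import Mathlib.LinearAlgebra.Matrix.Adjugate

/-!
# A smooth algebra is a retract of a standard smooth one
-/

universe u

open KaehlerDifferential

namespace Groth.Agent.Lib.Smoothing.Retract

variable {R A B : Type u} [CommRing R] [CommRing A] [CommRing B] [Algebra R A] [Algebra R B]

/-- If the differentials of `b₁, …, bₙ` form a basis of `Ω_{B/R}` modulo the kernel of `ε`, then a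
localisation of `B` at some `f` with `ε f = 1` is standard smooth. -/
theorem exists_isStandardSmooth_away [Algebra.Smooth R B] (ε : B →ₐ[R] A) {n : ℕ} (b : Fin n → B)
    (hspan : ∀ ω : Ω[B⁄R], ω ∈ LinearMap.range (Fintype.linearCombination B fun i => D R B (b i)) ⊔
      RingHom.ker ε.toRingHom • (⊤ : Submodule B Ω[B⁄R]))
    (hind : ∀ u : Fin n → B, Fintype.linearCombination B (fun i => D R B (b i)) u ∈
      RingHom.ker ε.toRingHom • (⊤ : Submodule B Ω[B⁄R]) → ∀ i, ε (u i) = 0) :
    ∃ f : B, ε f = 1 ∧ Algebra.IsStandardSmooth R (Localization.Away f) := by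
  classical
  set K := RingHom.ker ε.toRingHom
  set e := Fintype.linearCombination B fun i => D R B (b i)
  obtain ⟨f₁, hf₁, hf₁'⟩ := Submodule.exists_sub_one_mem_and_smul_eq_zero_of_fg_of_le_smul K
    (⊤ : Submodule B (Ω[B⁄R] ⧸ LinearMap.range e)) Module.Finite.fg_top (by
      intro x _
      obtain ⟨ω, rfl⟩ := Submodule.mkQ_surjective _ x
      obtain ⟨y, hy, z, hz, rfl⟩ := Submodule.mem_sup.1 (hspan ω)
      have h1 := Submodule.mem_map_of_mem (f := (LinearMap.range e).mkQ) hz
      rw [Submodule.map_smul'', Submodule.map_top, Submodule.range_mkQ] at h1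
      rw [map_add, show (LinearMap.range e).mkQ y = 0 from
        (Submodule.Quotient.mk_eq_zero _).2 hy, zero_add]
      exact h1)
  have hf₁ε : ε f₁ = 1 := by
    have : ε (f₁ - 1) = 0 := hf₁
    rwa [map_sub, map_one, sub_eq_zero] at this
  have hmem : ∀ ω : Ω[B⁄R], f₁ • ω ∈ LinearMap.range e := fun ω => by
    rw [← Submodule.Quotient.mk_eq_zero, Submodule.Quotient.mk_smul]
    exact hf₁' _ Submodule.mem_top
  obtain ⟨g, hg⟩ := Module.projective_lifting_property e.rangeRestrict
    ((f₁ • LinearMap.id).codRestrict (LinearMap.range e) hmem) e.surjective_rangeRestrict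
  have hg' : ∀ ω, e (g ω) = f₁ • ω := fun ω => congrArg Subtype.val (LinearMap.congr_fun hg ω)
  let M : Matrix (Fin n) (Fin n) B := LinearMap.toMatrix' (g.comp e)
  have hM : ∀ i j, ε (M i j) = if i = j then 1 else 0 := by
    intro i j
    have h1 : e ((g.comp e) (Pi.single j 1) - Pi.single j 1) ∈ K • (⊤ : Submodule B Ω[B⁄R]) := by
      rw [map_sub, LinearMap.comp_apply, hg']
      have h' := Submodule.smul_mem_smul hf₁ (Submodule.mem_top (x := e (Pi.single j 1)))
      rwa [sub_smul, one_smul] at h'
    have h2 := hind _ h1 i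
    rw [Pi.sub_apply, map_sub, sub_eq_zero] at h2
    simp only [M, LinearMap.toMatrix'_apply]
    rw [h2, Pi.single_apply, apply_ite ε, map_one, map_zero]
  have hdet : ε M.det = 1 := by
    rw [AlgHom.map_det, show ε.mapMatrix M = 1 from Matrix.ext fun i j => by
      simp [Matrix.one_apply, hM], Matrix.det_one]
  refine ⟨f₁ * M.det, by rw [map_mul, hf₁ε, hdet, one_mul], ?_⟩
  have hker : ∀ u, e u = 0 → M.det • u = 0 := by
    intro u hu
    have h1 : M.mulVec u = 0 := by
      have := congrArg (fun L => L u) (Matrix.toLin'_toMatrix' (g.comp e))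
      simp only [Matrix.toLin'_apply, LinearMap.comp_apply, hu, map_zero] at this
      exact this
    have h2 := congrArg (fun v => Matrix.mulVec M.adjugate v) h1
    simpa [Matrix.mulVec_mulVec, Matrix.adjugate_mul, Matrix.smul_mulVec] using h2
  let f := f₁ * M.det
  let T := Localization.Away f
  have hloc : IsLocalizedModule (Submonoid.powers f) (KaehlerDifferential.map R R B T) :=
    inferInstance
  let eT := Fintype.linearCombination T fun i => D R T (algebraMap B T (b i))
  have hcomp : ∀ u : Fin n → B, eT (fun i => algebraMap B T (u i)) =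
      KaehlerDifferential.map R R B T (e u) := by
    intro u
    simp [eT, e, Fintype.linearCombination_apply, algebraMap_smul]
  have hf : IsUnit (algebraMap B T f) := IsLocalization.Away.algebraMap_isUnit f
  have hbij : Function.Bijective eT := by
    constructor
    · rw [injective_iff_map_eq_zero]
      intro u hu
      obtain ⟨⟨s, hs⟩, hint⟩ := IsLocalization.exist_integer_multiples_of_finite
        (Submonoid.powers f) u
      choose u' hu' using hint
      have h1 : KaehlerDifferential.map R R B T (e u') = 0 := by
        rw [← hcomp, show (fun i => algebraMap B T (u' i)) = s • u from funext hu',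
          LinearMap.map_smul_of_tower, hu, smul_zero]
      obtain ⟨⟨_, k, rfl⟩, hk⟩ := (IsLocalizedModule.eq_zero_iff (Submonoid.powers f) _).1 h1
      have h2 : e (f ^ k • u') = 0 := by
        rw [map_smul]; exact hk
      have h3 := hker _ h2
      have hdu : IsUnit (algebraMap B T M.det) := by
        have := hf
        rw [map_mul] at this
        exact isUnit_of_mul_isUnit_right this
      funext i
      have h4 := congrArg (algebraMap B T) (congrFun h3 i)
      simp only [Pi.smul_apply, smul_eq_mul, map_mul, map_pow, Pi.zero_apply, map_zero] at h4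
      rw [hdu.mul_right_eq_zero, (hf.pow k).mul_right_eq_zero, hu' i, Algebra.smul_def] at h4
      exact (IsLocalization.map_units T ⟨s, hs⟩).mul_right_eq_zero.1 h4
    · intro ω
      obtain ⟨⟨w, s⟩, hw⟩ := IsLocalizedModule.surj (Submonoid.powers f)
        (KaehlerDifferential.map R R B T) ω
      obtain ⟨u', hu'⟩ : f • w ∈ LinearMap.range e := by
        rw [show f • w = f₁ • M.det • w from mul_smul _ _ _]
        exact hmem _
      have hs := IsLocalization.map_units T s
      refine ⟨((hf.mul hs).unit⁻¹ : Tˣ) • fun i => algebraMap B T (u' i), ?_⟩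
      have : eT (fun i => algebraMap B T (u' i)) = (algebraMap B T f * algebraMap B T s) • ω := by
        rw [hcomp, hu', map_smul, ← map_mul, algebraMap_smul T (f * (s : B)), mul_smul f (s : B)]
        exact congrArg (f • ·) hw.symm
      rw [Units.smul_def, map_smul, this, smul_smul]
      conv_rhs => rw [← one_smul T ω]
      exact congrArg (· • ω) (hf.mul hs).val_inv_mul
  have : Algebra.FormallySmooth R T := Algebra.FormallySmooth.comp R B T
  have : Algebra.FinitePresentation R T := Algebra.FinitePresentation.trans R B T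
  refine Algebra.IsStandardSmooth.of_basis_kaehlerDifferential
    (Module.Basis.ofEquivFun (LinearEquiv.ofBijective eT hbij).symm) ?_
  rintro _ ⟨i, rfl⟩
  exact ⟨algebraMap B T (b i), by simp [eT, Fintype.linearCombination_apply_single]; rfl⟩

set_option maxHeartbeats 800000 in
/-- A smooth algebra is a retract of a standard smooth algebra which is smooth over it. -/
theorem exists_retract [Algebra.Smooth R A] :
    ∃ (B : Type u) (_ : CommRing B) (_ : Algebra R B) (_ : Algebra A B) (_ : IsScalarTower R A B),
      Algebra.Smooth A B ∧ Nonempty (B →ₐ[A] A) ∧ Algebra.IsStandardSmooth R B := by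
  classical
  obtain ⟨n, φ₀, hφ₀, -⟩ := (Algebra.Smooth.finitePresentation (R := R) (A := A)).out
  let G : Algebra.Generators R A (Fin n) := Algebra.Generators.ofSurjective
    (fun i => φ₀ (MvPolynomial.X i)) fun x => by
      obtain ⟨p, rfl⟩ := hφ₀ x
      exact ⟨p, (DFunLike.congr_fun (MvPolynomial.aeval_unique φ₀) p).symm⟩
  let E := G.toExtension
  have : Algebra.FormallySmooth R E.Ring :=
    inferInstanceAs (Algebra.FormallySmooth R (MvPolynomial (Fin n) R))
  obtain ⟨r, hr⟩ := E.formallySmooth_iff_split_injection.1 inferInstance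
  have hr' : ∀ m, r (E.cotangentComplex m) = m := fun m => LinearMap.congr_fun hr m
  obtain ⟨s₀, hs₀⟩ := Module.projective_lifting_property E.toKaehler LinearMap.id
    E.toKaehler_surjective
  let s : Ω[A⁄R] →ₗ[A] E.CotangentSpace :=
    (LinearMap.id - E.cotangentComplex.comp r).comp s₀
  have hsπ : ∀ v, s (E.toKaehler v) + E.cotangentComplex (r v) = v := by
    intro v
    have h1 : E.toKaehler (s₀ (E.toKaehler v) - v) = 0 := by
      rw [map_sub, show E.toKaehler (s₀ (E.toKaehler v)) = E.toKaehler v from
        LinearMap.congr_fun hs₀ _, sub_self]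
    obtain ⟨m, hm⟩ := (E.exact_cotangentComplex_toKaehler _).1 h1
    have h2 : s₀ (E.toKaehler v) = E.cotangentComplex m + v := by rw [hm, sub_add_cancel]
    show s₀ (E.toKaehler v) - E.cotangentComplex (r (s₀ (E.toKaehler v))) + E.cotangentComplex (r v) = v
    rw [h2, map_add, map_add, hr']
    abel
  let Bc := G.cotangentSpaceBasis
  let N := E.Cotangent
  have hsm : Algebra.Smooth A (SymmetricAlgebra A N) :=
    SymSmooth.smooth (Bc.equivFun.toLinearMap.comp E.cotangentComplex)
      (r.comp Bc.equivFun.symm.toLinearMap) (LinearMap.ext fun m => by simp [hr'])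
  let B := SymmetricAlgebra A N
  haveI : IsScalarTower R A B := IsScalarTower.of_algebraMap_eq fun _ => rfl
  have : Algebra.Smooth R B := Algebra.Smooth.comp R A B
  let εA : B →ₐ[A] A := SymmetricAlgebra.algebraMapInv
  let ε : B →ₐ[R] A := εA.restrictScalars R
  have hει : ∀ m : N, εA (SymmetricAlgebra.ι A N m) = 0 := fun m => SymmetricAlgebra.algebraMapInv_ι _
  have hεa : ∀ a, εA (algebraMap A B a) = a := fun a => εA.commutes a
  let b : Fin n → B := fun i => algebraMap A B (G.val i) + SymmetricAlgebra.ι A N (r (Bc i))
  set K := RingHom.ker ε.toRingHom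
  set e := Fintype.linearCombination B fun i => D R B (b i)
  have hspan : ∀ ω : Ω[B⁄R], ω ∈ LinearMap.range e ⊔ K • (⊤ : Submodule B Ω[B⁄R]) := by
    let q := (K • (⊤ : Submodule B Ω[B⁄R])).mkQ
    have hq : ∀ (x : B) (ω : Ω[B⁄R]), q (x • ω) = ε x • q ω := by
      intro x ω
      rw [← algebraMap_smul B (ε x) (q ω), ← map_smul, ← sub_eq_zero, ← map_sub, ← sub_smul]
      refine (Submodule.Quotient.mk_eq_zero _).2 (Submodule.smul_mem_smul ?_ Submodule.mem_top)
      show ε (x - algebraMap A B (ε x)) = 0
      rw [map_sub, show ε (algebraMap A B (ε x)) = ε x from εA.commutes _, sub_self]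
    let α : Ω[A⁄R] →ₗ[A] Ω[B⁄R] ⧸ K • (⊤ : Submodule B Ω[B⁄R]) :=
      (q.restrictScalars A).comp (KaehlerDifferential.map R R A B)
    let β : N →ₗ[A] Ω[B⁄R] ⧸ K • (⊤ : Submodule B Ω[B⁄R]) :=
      { toFun := fun m => q (D R B (SymmetricAlgebra.ι A N m))
        map_add' := fun x y => by simp
        map_smul' := fun a m => by
          rw [map_smul, Algebra.smul_def, Derivation.leibniz, map_add, hq, hq, RingHom.id_apply]
          show εA _ • _ + εA _ • _ = _
          rw [hεa, hει, zero_smul, add_zero] }
    let Φ : E.CotangentSpace →ₗ[A] Ω[B⁄R] ⧸ K • (⊤ : Submodule B Ω[B⁄R]) :=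
      Bc.constr A fun i => q (D R B (b i))
    have hΦ : ∀ v, Φ v = α (E.toKaehler v) + β (r v) := by
      suffices Φ = α.comp E.toKaehler + β.comp r from fun v => LinearMap.congr_fun this v
      refine Bc.ext fun i => ?_
      rw [LinearMap.add_apply, LinearMap.comp_apply, LinearMap.comp_apply,
        Algebra.Generators.toKaehler_cotangentSpaceBasis]
      rw [show Φ (Bc i) = q (D R B (b i)) from Bc.constr_basis A _ i]
      simp [α, β, b]
    have hΦr : ∀ v, Φ v ∈ Submodule.map q (LinearMap.range e) := by
      intro v
      rw [← Bc.sum_repr v, map_sum]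
      refine Submodule.sum_mem _ fun i _ => ?_
      rw [map_smul, ← algebraMap_smul B (Bc.repr v i)]
      refine Submodule.smul_mem _ _ ⟨D R B (b i), ⟨Pi.single i 1, ?_⟩, by simp [Φ]⟩
      simp [e, Fintype.linearCombination_apply_single]
    let S : Submodule B Ω[B⁄R] := LinearMap.range e ⊔ K • ⊤
    have hS : ∀ ω, q ω ∈ Submodule.map q (LinearMap.range e) → ω ∈ S := by
      intro ω hω
      have : ω ∈ Submodule.comap q (Submodule.map q (LinearMap.range e)) := hω
      rwa [Submodule.comap_map_eq, Submodule.ker_mkQ] at this
    have hA : ∀ a, D R B (algebraMap A B a) ∈ S := fun a => by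
      refine hS _ ?_
      have h1 := hΦ (s (D R A a))
      have hπs : E.toKaehler (s (D R A a)) = D R A a := by
        show E.toKaehler (s₀ (D R A a) - E.cotangentComplex (r (s₀ (D R A a)))) = _
        rw [map_sub, E.exact_cotangentComplex_toKaehler.apply_apply_eq_zero, sub_zero]
        exact LinearMap.congr_fun hs₀ _
      have hrs : r (s (D R A a)) = 0 := by
        show r (s₀ (D R A a) - E.cotangentComplex (r (s₀ (D R A a)))) = _
        rw [map_sub, hr', sub_self]
      rw [hπs, hrs, map_zero, add_zero] at h1
      have h2 := hΦr (s (D R A a))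
      rw [h1] at h2
      simpa [α] using h2
    have hN : ∀ m, D R B (SymmetricAlgebra.ι A N m) ∈ S := fun m => by
      refine hS _ ?_
      have h1 := hΦ (E.cotangentComplex m)
      rw [E.exact_cotangentComplex_toKaehler.apply_apply_eq_zero, map_zero, zero_add, hr'] at h1
      have h2 := hΦr (E.cotangentComplex m)
      rw [h1] at h2
      exact h2
    intro ω
    have : Submodule.span B (Set.range (D R B)) ≤ S := by
      rw [Submodule.span_le]
      rintro _ ⟨x, rfl⟩
      induction x using SymmetricAlgebra.induction with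
      | algebraMap a => exact hA a
      | ι m => exact hN m
      | mul x y hx hy =>
        rw [Derivation.leibniz]
        exact add_mem (S.smul_mem _ hy) (S.smul_mem _ hx)
      | add x y hx hy => rw [map_add]; exact add_mem hx hy
    exact this (by rw [KaehlerDifferential.span_range_derivation]; trivial)
  have hind : ∀ u : Fin n → B, e u ∈ K • (⊤ : Submodule B Ω[B⁄R]) → ∀ i, ε (u i) = 0 := by
    intro u hu j
    let l : E.CotangentSpace →ₗ[A] A := Bc.coord j
    let δ₁ : B →ₐ[A] DualNumber A := SymmetricAlgebra.lift
      ((TrivSqZeroExt.inrHom A A).comp (l.comp E.cotangentComplex))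
    have hfst : ∀ x, (δ₁ x).fst = εA x := by
      suffices (TrivSqZeroExt.fstHom A A A).comp δ₁ = εA from fun x => DFunLike.congr_fun this x
      refine SymmetricAlgebra.algHom_ext (LinearMap.ext fun m => ?_)
      simp [δ₁, εA, SymmetricAlgebra.algebraMapInv_ι]
    letI : Algebra B A := εA.toRingHom.toAlgebra
    haveI : IsScalarTower R B A := IsScalarTower.of_algebraMap_eq fun x => (ε.commutes x).symm
    let δ : Derivation R B A :=
      Derivation.mk'
        { toFun := fun x => (δ₁ x).snd + l (s (D R A (ε x)))
          map_add' := fun x y => by simp; ring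
          map_smul' := fun c x => by
            have h1 : δ₁ (c • x) = c • δ₁ x := by
              rw [← algebraMap_smul A c x, map_smul, algebraMap_smul]
            simp only [h1, RingHom.id_apply, TrivSqZeroExt.snd_smul, smul_add, map_smul ε,
              Derivation.map_smul, LinearMap.map_smul_of_tower] }
        fun x y => by
          simp only [LinearMap.coe_mk, AddHom.coe_mk, map_mul, TrivSqZeroExt.snd_mul,
            Derivation.leibniz, map_add, map_smul, hfst, smul_eq_mul, op_smul_eq_mul]
          show _ = εA x * _ + εA y * _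
          simp only [ε, AlgHom.coe_restrictScalars']
          ring
    have hδb : ∀ i, δ (b i) = l (Bc i) := by
      intro i
      show (δ₁ (b i)).snd + l (s (D R A (ε (b i)))) = l (Bc i)
      have h1 : ε (b i) = G.val i := by
        show εA (b i) = _
        rw [map_add, hεa, hει, add_zero]
      have h2 : (δ₁ (b i)).snd = l (E.cotangentComplex (r (Bc i))) := by
        have h3 : δ₁ (SymmetricAlgebra.ι A N (r (Bc i))) =
            TrivSqZeroExt.inr (l (E.cotangentComplex (r (Bc i)))) := SymmetricAlgebra.lift_ι_apply _ _
        simp [b, h3, TrivSqZeroExt.algebraMap_eq_inl]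
      rw [h1, h2, ← map_add, add_comm]
      have := hsπ (Bc i)
      rw [Algebra.Generators.toKaehler_cotangentSpaceBasis] at this
      rw [this]
    let L := δ.liftKaehlerDifferential
    have hL : L (e u) = 0 := by
      refine Submodule.smul_induction_on hu (fun x hx ω _ => ?_) (fun x y hx hy => by
        rw [map_add, hx, hy, add_zero])
      rw [map_smul]
      show εA x * _ = 0
      rw [show εA x = 0 from hx, zero_mul]
    simp only [e, Fintype.linearCombination_apply, map_sum, map_smul, L,
      Derivation.liftKaehlerDifferential_comp_D, hδb] at hL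
    rw [Finset.sum_eq_single j (fun i _ hij => by simp [l, Ne.symm hij, smul_eq_mul, Finsupp.single_apply, hij])
      (by simp)] at hL
    have h3 : εA (u j) * l (Bc j) = 0 := hL
    have h4 : εA (u j) = 0 := by simpa [l] using h3
    exact h4
  obtain ⟨f, hf, hstd⟩ := exists_isStandardSmooth_away ε b hspan hind
  let T := Localization.Away f
  refine ⟨T, inferInstance, inferInstance, inferInstance, inferInstance, ?_, ⟨?_⟩, hstd⟩
  · have : Algebra.Smooth B T := Algebra.Smooth.of_isLocalization_Away f
    exact Algebra.Smooth.comp A B T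
  · exact IsLocalization.liftAlgHom (M := Submonoid.powers f) (f := εA) fun y => by
      obtain ⟨_, k, rfl⟩ := y
      show IsUnit (εA (f ^ k))
      rw [map_pow, show εA f = 1 from hf, one_pow]
      exact isUnit_one

end Groth.Agent.Lib.Smoothing.Retract
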