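import Groth.Agent.Lib.Smoothing.Elementary
import Groth.Agent.Lib.Smoothing.Retract
import Mathlib.RingTheory.MvPolynomial.Localization
import Mathlib.RingTheory.Localization.LocalizationLocalization

/-!
# Descending a smooth factorisation from a localisation of the base
-/

universe u

open MvPolynomial TensorProduct

namespace Groth.Agent.Lib.Smoothing.Descend

section Poly

variable {R Rₛ : Type u} [CommRing R] [CommRing Rₛ] [Algebra R Rₛ] (S : Submonoid R)
  [IsLocalization S Rₛ] {σ : Type}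

theorem exists_map_eq_C_mul (P : MvPolynomial σ Rₛ) :
    ∃ t ∈ S, ∃ Q : MvPolynomial σ R, map (algebraMap R Rₛ) Q = C (algebraMap R Rₛ t) * P := by
  letI := algebraMvPolynomial (σ := σ) (R := R) (S := Rₛ)
  obtain ⟨⟨Q, ⟨_, t, ht, rfl⟩⟩, hQ⟩ := IsLocalization.surj (S.map (C (σ := σ))) P
  refine ⟨t, ht, Q, ?_⟩
  simp only [algebraMap_def, map_C] at hQ
  rw [mul_comm, hQ]

theorem exists_C_mul_mem (I : Ideal (MvPolynomial σ R)) (Q : MvPolynomial σ R)
    (hQ : map (algebraMap R Rₛ) Q ∈ I.map (map (algebraMap R Rₛ))) :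
    ∃ t ∈ S, C t * Q ∈ I := by
  letI := algebraMvPolynomial (σ := σ) (R := R) (S := Rₛ)
  obtain ⟨⟨i, m⟩, h⟩ := (IsLocalization.mem_map_algebraMap_iff (S.map (C (σ := σ)))
    (MvPolynomial σ Rₛ) (I := I)).1 hQ
  have h' : algebraMap (MvPolynomial σ R) (MvPolynomial σ Rₛ) (Q * m) =
      algebraMap (MvPolynomial σ R) (MvPolynomial σ Rₛ) i := by
    rw [map_mul]; exact h
  obtain ⟨m', hm'⟩ := (IsLocalization.eq_iff_exists (S.map (C (σ := σ))) _).1 h'
  obtain ⟨t, ht, htm⟩ := m.2
  obtain ⟨t', ht', htm'⟩ := m'.2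
  refine ⟨t' * t, S.mul_mem ht' ht, ?_⟩
  rw [map_mul, htm, htm', mul_assoc, mul_comm (m : MvPolynomial σ R) Q, hm']
  exact I.mul_mem_left _ i.2

end Poly

variable {R A Λ Rₛ B' : Type u} [CommRing R] [CommRing A] [Algebra R A]
  [CommRing Λ] [Algebra R Λ] [CommRing Rₛ] [Algebra R Rₛ] [CommRing B'] [Algebra Rₛ B']
  [Algebra R B'] [IsScalarTower R Rₛ B']

set_option maxHeartbeats 800000 in
/-- A finitely presented algebra over `R_S` under which `A` maps descends to `R`. -/
theorem exists_descent [Algebra.FinitePresentation R A] [Algebra.FinitePresentation Rₛ B']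
    (φ : A →ₐ[R] Λ) (S : Submonoid R) [IsLocalization S Rₛ] (g : A →ₐ[R] B')
    (h : B' →ₐ[Rₛ] Rₛ ⊗[R] Λ) (hgh : ∀ a, h (g a) = (1 : Rₛ) ⊗ₜ φ a) :
    ∃ (B : Type u) (_ : CommRing B) (_ : Algebra R B) (α : A →ₐ[R] B) (β : B →ₐ[R] Λ)
      (θ : B →ₐ[R] B'), Algebra.FinitePresentation R B ∧ β.comp α = φ ∧
        letI := θ.toRingHom.toAlgebra
        IsLocalization (Algebra.algebraMapSubmonoid B S) B' := by
  classical
  have hjloc : IsLocalizedModule S (TensorProduct.mk R Rₛ Λ 1) :=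
    (isLocalizedModule_iff_isBaseChange S Rₛ _).2 (TensorProduct.isBaseChange _ _ _)
  have hunit : ∀ t ∈ S, IsUnit (algebraMap R B' t) := fun t ht => by
    rw [IsScalarTower.algebraMap_apply R Rₛ B']
    exact (IsLocalization.map_units Rₛ ⟨t, ht⟩).map _
  -- generators of `B'` with images coming from `Λ`
  obtain ⟨n, φ₁, hφ₁, -⟩ := ‹Algebra.FinitePresentation Rₛ B'›.out
  choose z hz using fun i => IsLocalizedModule.surj S (TensorProduct.mk R Rₛ Λ 1) (h (φ₁ (X i)))
  let x : Fin n → B' := fun i => ((z i).2 : R) • φ₁ (X i)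
  let lam : Fin n → Λ := fun i => (z i).1
  have hx : ∀ i, h (x i) = (1 : Rₛ) ⊗ₜ lam i := fun i => by
    show h.restrictScalars R (((z i).2 : R) • φ₁ (X i)) = _
    rw [map_smul]
    exact hz i
  let φ' : MvPolynomial (Fin n) Rₛ →ₐ[Rₛ] B' := aeval x
  have hφ' : Function.Surjective φ' := by
    intro b
    obtain ⟨P, rfl⟩ := hφ₁ b
    have hX : ∀ i, φ₁ (X i) ∈ φ'.range := fun i => by
      obtain ⟨u, hu⟩ := (IsLocalization.map_units Rₛ (z i).2).exists_left_inv
      refine ⟨C u * X i, ?_⟩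
      show φ' (C u * X i) = _
      rw [map_mul, show φ' (C u) = algebraMap Rₛ B' u from aeval_C x u, show φ' (X i) = x i from aeval_X x i]
      show algebraMap Rₛ B' u * (((z i).2 : R) • φ₁ (X i)) = _
      rw [Algebra.smul_def, IsScalarTower.algebraMap_apply R Rₛ B', ← mul_assoc, ← map_mul, hu,
        map_one, one_mul]
    induction P using MvPolynomial.induction_on with
    | C r => exact ⟨C r, by rw [← algebraMap_eq, AlgHom.commutes, AlgHom.commutes]⟩
    | add p q hp hq =>
      obtain ⟨u, hu⟩ := hp; obtain ⟨v, hv⟩ := hq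
      exact ⟨u + v, by rw [map_add, map_add, hu, hv]⟩
    | mul_X p i hp =>
      obtain ⟨u, hu⟩ := hp; obtain ⟨v, hv⟩ := hX i
      exact ⟨u * v, by rw [map_mul, map_mul, hu]; exact congrArg _ hv⟩
  have hcomp : ∀ Q : MvPolynomial (Fin n) R, φ' (map (algebraMap R Rₛ) Q) = aeval x Q := fun Q =>
    aeval_map_algebraMap Rₛ x Q
  -- relations of `B'`
  obtain ⟨c, f, hf⟩ := Submodule.fg_iff_exists_fin_generating_family.1
    (Algebra.FinitePresentation.ker_fG_of_surjective φ' hφ')
  choose t ht F₀ hF₀ using fun j => exists_map_eq_C_mul S (f j)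
  have hzero : ∀ Q : MvPolynomial (Fin n) R, aeval x Q = 0 → ∃ s ∈ S, s • aeval lam Q = 0 := by
    intro Q hQ
    have h1 : (1 : Rₛ) ⊗ₜ[R] aeval lam Q = 0 := by
      have h2 : ((h.restrictScalars R).comp (aeval x)) =
          (Algebra.TensorProduct.includeRight : Λ →ₐ[R] Rₛ ⊗[R] Λ).comp (aeval lam) :=
        algHom_ext fun i => by simpa using hx i
      have h3 := DFunLike.congr_fun h2 Q
      simp only [AlgHom.comp_apply, hQ, map_zero] at h3
      exact h3.symm
    obtain ⟨s, hs⟩ := (IsLocalizedModule.eq_zero_iff S (TensorProduct.mk R Rₛ Λ 1)).1 h1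
    exact ⟨s, s.2, hs⟩
  have hF₀x : ∀ j, aeval x (F₀ j) = 0 := fun j => by
    have hker : φ' (f j) = 0 :=
      (hf.le (Ideal.subset_span ⟨j, rfl⟩) : f j ∈ RingHom.ker φ'.toRingHom)
    rw [← hcomp, hF₀, map_mul, hker, mul_zero]
  choose s₁ hs₁ hs₁' using fun j => hzero _ (hF₀x j)
  let F : Fin c → MvPolynomial (Fin n) R := fun j => C (s₁ j) * F₀ j
  have hFlam : ∀ j, aeval lam (F j) = 0 := fun j => by
    simp only [F, map_mul, aeval_C, ← Algebra.smul_def, hs₁']
  have hkill : ∀ Q : MvPolynomial (Fin n) R, aeval x Q = 0 →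
      ∃ s ∈ S, C s * Q ∈ Ideal.span (Set.range F) := by
    intro Q hQ
    refine exists_C_mul_mem (Rₛ := Rₛ) S _ _ ?_
    have hQ' : map (algebraMap R Rₛ) Q ∈ RingHom.ker φ'.toRingHom := (hcomp Q).trans hQ
    rw [← hf] at hQ'
    refine SetLike.le_def.1 (Ideal.span_le.2 ?_) hQ'
    rintro _ ⟨j, rfl⟩
    have hu : IsUnit (C (algebraMap R Rₛ (s₁ j * t j)) : MvPolynomial (Fin n) Rₛ) :=
      (IsLocalization.map_units Rₛ ⟨s₁ j * t j, S.mul_mem (hs₁ j) (ht j)⟩).map C
    rw [SetLike.mem_coe, ← Ideal.unit_mul_mem_iff_mem _ hu]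
    have : map (algebraMap R Rₛ) (F j) = C (algebraMap R Rₛ (s₁ j * t j)) * f j := by
      simp only [F, map_mul, map_C, hF₀]
      ring
    rw [← this]
    exact Ideal.mem_map_of_mem _ (Ideal.subset_span ⟨j, rfl⟩)
  -- generators of `A`
  obtain ⟨r, φA, hφA, hAfg⟩ := ‹Algebra.FinitePresentation R A›.out
  let w : Fin r → B' := fun k => g (φA (X k))
  choose P' hP' using fun k => hφ' (w k)
  choose u hu p hp using fun k => exists_map_eq_C_mul S (P' k)
  have hpw : ∀ k, aeval x (p k) = u k • w k := fun k => by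
    rw [← hcomp, hp, map_mul, hP', show φ' (C (algebraMap R Rₛ (u k))) = algebraMap Rₛ B' _ from
      aeval_C x _, ← IsScalarTower.algebraMap_apply, ← Algebra.smul_def]
  have hEl : ∀ k, ∃ s ∈ S, s • (u k • φ (φA (X k)) - aeval lam (p k)) = 0 := by
    intro k
    have h2 : ((h.restrictScalars R).comp (aeval x)) =
        (Algebra.TensorProduct.includeRight : Λ →ₐ[R] Rₛ ⊗[R] Λ).comp (aeval lam) :=
      algHom_ext fun i => by simpa using hx i
    have h3 := DFunLike.congr_fun h2 (p k)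
    rw [AlgHom.comp_apply, AlgHom.comp_apply, hpw, map_smul] at h3
    have h1 : TensorProduct.mk R Rₛ Λ 1 (u k • φ (φA (X k)) - aeval lam (p k)) = 0 := by
      rw [map_sub, map_smul, sub_eq_zero]
      show u k • ((1 : Rₛ) ⊗ₜ φ (φA (X k))) = _
      rw [← hgh]
      exact h3
    obtain ⟨s, hs⟩ := (IsLocalizedModule.eq_zero_iff S (TensorProduct.mk R Rₛ Λ 1)).1 h1
    exact ⟨s, s.2, hs⟩
  choose s₂ hs₂ hs₂' using hEl
  obtain ⟨mA, GA, hGA⟩ := Submodule.fg_iff_exists_fin_generating_family.1 hAfg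
  let rel : Fin c ⊕ Fin mA ⊕ Fin r → MvPolynomial (Fin n ⊕ Fin r) R :=
    Sum.elim (fun j => rename Sum.inl (F j)) (Sum.elim (fun l => rename Sum.inr (GA l))
      fun k => C (s₂ k) * (C (u k) * X (Sum.inr k) - rename Sum.inl (p k)))
  let I : Ideal (MvPolynomial (Fin n ⊕ Fin r) R) := Ideal.span (Set.range rel)
  let B := MvPolynomial (Fin n ⊕ Fin r) R ⧸ I
  let μ : MvPolynomial (Fin n ⊕ Fin r) R →ₐ[R] B := Ideal.Quotient.mkₐ R I
  have hrelμ : ∀ i, μ (rel i) = 0 := fun i =>
    Ideal.Quotient.eq_zero_iff_mem.2 (Ideal.subset_span ⟨i, rfl⟩)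
  have hFx : ∀ j, aeval x (F j) = 0 := fun j => by
    simp only [F, map_mul, hF₀x, mul_zero]
  have hGAA : ∀ l, φA (GA l) = 0 := fun l => hGA.le (Ideal.subset_span ⟨l, rfl⟩)
  have hAval : ∀ {T : Type u} [CommRing T] [Algebra R T] (ψ : A →ₐ[R] T) (q : MvPolynomial (Fin r) R),
      aeval (fun k => ψ (φA (X k))) q = ψ (φA q) := fun ψ q =>
    (DFunLike.congr_fun (aeval_unique (ψ.comp φA)) q).symm
  let θ₀ : MvPolynomial (Fin n ⊕ Fin r) R →ₐ[R] B' := aeval (Sum.elim x w)
  have hθl : ∀ Q, θ₀ (rename Sum.inl Q) = aeval x Q := fun Q => by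
    simp [θ₀, aeval_rename]
  let θ : B →ₐ[R] B' := Ideal.Quotient.liftₐ I θ₀ (by
    show I ≤ RingHom.ker θ₀
    rw [Ideal.span_le]
    rintro _ ⟨j | l | k, rfl⟩
    · exact (hθl _).trans (hFx j)
    · show θ₀ (rename Sum.inr (GA l)) = 0
      rw [aeval_rename, Sum.elim_comp_inr]
      exact (hAval g _).trans (by rw [hGAA, map_zero])
    · show θ₀ (C (s₂ k) * (C (u k) * X (Sum.inr k) - rename Sum.inl (p k))) = 0
      rw [map_mul, map_sub, map_mul, hθl, hpw]
      simp [θ₀, Algebra.smul_def])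
  let β₀ : MvPolynomial (Fin n ⊕ Fin r) R →ₐ[R] Λ := aeval (Sum.elim lam fun k => φ (φA (X k)))
  let β : B →ₐ[R] Λ := Ideal.Quotient.liftₐ I β₀ (by
    show I ≤ RingHom.ker β₀
    rw [Ideal.span_le]
    rintro _ ⟨j | l | k, rfl⟩
    · show β₀ (rename Sum.inl (F j)) = 0
      rw [aeval_rename, Sum.elim_comp_inl]
      exact hFlam j
    · show β₀ (rename Sum.inr (GA l)) = 0
      rw [aeval_rename, Sum.elim_comp_inr]
      exact (hAval φ _).trans (by rw [hGAA, map_zero])
    · show β₀ (C (s₂ k) * (C (u k) * X (Sum.inr k) - rename Sum.inl (p k))) = 0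
      rw [map_mul, map_sub, map_mul, aeval_rename, Sum.elim_comp_inl]
      simpa [β₀, ← Algebra.smul_def] using hs₂' k)
  let α₀ : MvPolynomial (Fin r) R →ₐ[R] B := μ.comp (rename Sum.inr)
  have hα₀ : RingHom.ker φA ≤ RingHom.ker α₀ := by
    show RingHom.ker φA.toRingHom ≤ _
    rw [← hGA, Submodule.span_le]
    rintro _ ⟨l, rfl⟩
    exact hrelμ (.inr (.inl l))
  let α : A →ₐ[R] B := AlgHom.liftOfSurjective φA hφA α₀ hα₀
  have hα : ∀ q, α (φA q) = α₀ q := AlgHom.liftOfSurjective_apply φA hφA α₀ hα₀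
  refine ⟨B, inferInstance, inferInstance, α, β, θ, ?_, ?_, ?_⟩
  · exact Algebra.FinitePresentation.of_surjective (f := μ) Ideal.Quotient.mk_surjective (by
      rw [show RingHom.ker μ.toRingHom = I from Ideal.mk_ker]
      exact Submodule.fg_span (Set.finite_range _))
  · apply AlgHom.ext
    intro a
    obtain ⟨q, rfl⟩ := hφA a
    show β (α (φA q)) = _
    rw [hα]
    show β₀ (rename Sum.inr q) = _
    rw [aeval_rename, Sum.elim_comp_inr]
    exact hAval φ q
  · letI := θ.toRingHom.toAlgebra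
    have hsd : ∀ (a : R) (y : B), a • y = algebraMap R B a * y := fun a y => Algebra.smul_def a y
    -- modulo `S`, everything comes from the variables of `B'`
    have hred : ∀ Q, ∃ s ∈ S, ∃ Q' : MvPolynomial (Fin n) R,
        s • μ Q = μ (rename Sum.inl Q') := by
      intro Q
      induction Q using MvPolynomial.induction_on with
      | C a => exact ⟨1, S.one_mem, C a, by rw [one_smul, rename_C]⟩
      | add P Q hP hQ =>
        obtain ⟨s, hs, P', hP'⟩ := hP; obtain ⟨s', hs', Q', hQ'⟩ := hQ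
        refine ⟨s * s', S.mul_mem hs hs', C s' * P' + C s * Q', ?_⟩
        rw [map_add μ, smul_add, mul_comm s s', mul_smul, hP', mul_comm s' s, mul_smul, hQ']
        simp [hsd, ← algebraMap_eq]
      | mul_X P i hP =>
        obtain ⟨s, hs, P', hP'⟩ := hP
        rcases i with i | k
        · refine ⟨s, hs, P' * X i, ?_⟩
          rw [map_mul μ, ← smul_mul_assoc, hP', map_mul (rename Sum.inl), map_mul μ, rename_X]
        · refine ⟨s * (s₂ k * u k), S.mul_mem hs (S.mul_mem (hs₂ k) (hu k)), P' * (C (s₂ k) * p k), ?_⟩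
          have he := hrelμ (.inr (.inr k))
          simp only [rel, Sum.elim_inr, mul_sub, map_sub, sub_eq_zero] at he
          rw [map_mul μ, map_mul (rename Sum.inl), map_mul μ, ← hP', map_mul (rename Sum.inl),
            rename_C, ← he]
          simp only [map_mul, hsd, ← algebraMap_eq, AlgHom.commutes]
          ring
    refine ⟨⟨?_, ?_, ?_⟩⟩
    · rintro ⟨_, s, hs, rfl⟩
      show IsUnit (θ (algebraMap R B s))
      rw [θ.commutes]
      exact hunit s hs
    · intro b
      obtain ⟨P, rfl⟩ := hφ' b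
      obtain ⟨s, hs, Q, hQ⟩ := exists_map_eq_C_mul S P
      refine ⟨⟨μ (rename Sum.inl Q), ⟨algebraMap R B s, s, hs, rfl⟩⟩, ?_⟩
      show φ' P * θ (algebraMap R B s) = θ₀ (rename Sum.inl Q)
      rw [θ.commutes, hθl, ← hcomp, hQ, map_mul, mul_comm,
        show φ' (C (algebraMap R Rₛ s)) = algebraMap Rₛ B' _ from aeval_C x _,
        ← IsScalarTower.algebraMap_apply]
    · intro b₁ b₂ hb
      obtain ⟨Q, hQ⟩ := Ideal.Quotient.mk_surjective (b₁ - b₂)
      obtain ⟨s, hs, Q', hQ'⟩ := hred Q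
      have hQ'0 : aeval x Q' = 0 := by
        rw [← hθl]
        show θ (μ (rename Sum.inl Q')) = 0
        rw [← hQ', map_smul]
        show s • θ (Ideal.Quotient.mk I Q) = 0
        rw [hQ, map_sub, show θ b₁ = θ b₂ from hb, sub_self, smul_zero]
      obtain ⟨s', hs', hmem⟩ := hkill Q' hQ'0
      have h0 : μ (rename Sum.inl (C s' * Q')) = 0 := by
        have hle : Ideal.span (Set.range F) ≤ RingHom.ker (μ.comp (rename Sum.inl)) :=
          Ideal.span_le.2 (by rintro _ ⟨j, rfl⟩; exact hrelμ (.inl j))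
        exact hle hmem
      refine ⟨⟨algebraMap R B (s' * s), s' * s, S.mul_mem hs' hs, rfl⟩, ?_⟩
      show algebraMap R B (s' * s) * b₁ = algebraMap R B (s' * s) * b₂
      rw [← sub_eq_zero, ← mul_sub, ← hQ]
      show algebraMap R B (s' * s) * μ Q = 0
      rw [map_mul, mul_assoc, ← Algebra.smul_def s (μ Q), hQ', ← μ.commutes s', ← map_mul,
        MvPolynomial.algebraMap_eq, ← rename_C Sum.inl s', ← map_mul]
      exact h0

/-- A smooth localisation at `S` with `Ω` free on exact differentials spreads to some element of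
`S`, which then is elementary standard. -/
theorem exists_isElementaryStandard {B : Type u} [CommRing B] [Algebra R B]
    [Algebra.FinitePresentation R B] (S : Submonoid R) [IsLocalization S Rₛ] [Algebra B B']
    [IsScalarTower R B B'] [IsLocalization (Algebra.algebraMapSubmonoid B S) B']
    [Algebra.FormallySmooth Rₛ B'] {ι : Type} [Finite ι] (bas : Module.Basis ι B' Ω[B'⁄Rₛ])
    (hbas : Set.range bas ⊆ Set.range (KaehlerDifferential.D Rₛ B')) :
    ∃ s ∈ S, _root_.Smoothing.IsElementaryStandard R B (algebraMap R B s) := by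
  classical
  let M := Algebra.algebraMapSubmonoid B S
  have : Algebra.FormallyEtale R Rₛ := Algebra.FormallyEtale.of_isLocalization S
  have : Algebra.FormallySmooth R B' := Algebra.FormallySmooth.comp R Rₛ B'
  -- smoothness at some element of `S`
  have hS₀ : ∃ s ∈ S, algebraMap R B s ∈ _root_.Smoothing.singularIdeal R B := by
    by_contra hcon
    have hdisj : Disjoint (M : Set B) (_root_.Smoothing.singularIdeal R B) := by
      rw [Set.disjoint_left]
      rintro _ ⟨s, hs, rfl⟩ hmem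
      exact hcon ⟨s, hs, hmem⟩
    obtain ⟨Q, hQ, hJQ, hQM⟩ := Ideal.exists_le_prime_disjoint _ M hdisj.symm
    have hle : M ≤ Q.primeCompl := fun b hb hbQ => Set.disjoint_left.1 hQM hbQ hb
    let BQ := Localization.AtPrime Q
    letI : Algebra B' BQ := (IsLocalization.lift (M := M) (g := algebraMap B BQ)
      fun y => IsLocalization.map_units BQ ⟨y.1, hle y.2⟩).toAlgebra
    haveI : IsScalarTower B B' BQ := IsScalarTower.of_algebraMap_eq fun b =>
      (IsLocalization.lift_eq _ b).symm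
    haveI : IsScalarTower R B' BQ := IsScalarTower.of_algebraMap_eq fun b => by
      rw [IsScalarTower.algebraMap_apply R B B', ← IsScalarTower.algebraMap_apply B B' BQ,
        ← IsScalarTower.algebraMap_apply]
    have := IsLocalization.isLocalization_of_submonoid_le B' BQ M Q.primeCompl hle
    have : Algebra.FormallyEtale B' BQ :=
      Algebra.FormallyEtale.of_isLocalization (Q.primeCompl.map (algebraMap B B'))
    have hsm : Algebra.IsSmoothAt R Q := Algebra.FormallySmooth.comp R B' BQ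
    obtain ⟨f, hfQ, hfsm⟩ := Algebra.IsSmoothAt.exists_notMem_smooth R Q
    refine hfQ (hJQ ?_)
    rw [_root_.Smoothing.singularIdeal, PrimeSpectrum.mem_vanishingIdeal]
    intro P hP
    by_contra hfP
    exact hP (Algebra.basicOpen_subset_smoothLocus_iff_smooth.2 hfsm hfP)
  obtain ⟨s₀, hs₀, hs₀'⟩ := hS₀
  -- a basis of differentials of elements of `B`
  obtain ⟨q, ⟨σ⟩⟩ := Finite.exists_equiv_fin ι
  let bas' := bas.reindex σ
  have hbas' : ∀ i, ∃ y, KaehlerDifferential.D Rₛ B' y = bas' i := fun i => by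
    obtain ⟨y, hy⟩ := hbas ⟨σ.symm i, rfl⟩
    exact ⟨y, by rw [hy, Module.Basis.reindex_apply]⟩
  choose y hy using hbas'
  choose nd hnd using fun i => IsLocalization.surj M (y i)
  let b : Fin q → B := fun i => (nd i).1
  let e := Fintype.linearCombination B fun i => KaehlerDifferential.D R B (b i)
  let ψ := KaehlerDifferential.map R Rₛ B' B'
  have hψ : Function.Bijective ψ := by
    refine ⟨?_, KaehlerDifferential.map_surjective R Rₛ B'⟩
    rw [injective_iff_map_eq_zero]
    intro z hz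
    obtain ⟨w, rfl⟩ := (KaehlerDifferential.exact_mapBaseChange_map R Rₛ B' z).1 hz
    induction w using TensorProduct.induction_on with
    | zero => simp
    | tmul a m => rw [Subsingleton.elim m 0, TensorProduct.tmul_zero, map_zero]
    | add a c ha hc =>
      rw [map_add, ha (KaehlerDifferential.exact_mapBaseChange_map R Rₛ B' |>.apply_apply_eq_zero a),
        hc (KaehlerDifferential.exact_mapBaseChange_map R Rₛ B' |>.apply_apply_eq_zero c), add_zero]
  let l₁ : (Fin q → B) →ₗ[B] (Fin q → B') :=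
    LinearMap.pi fun i => (Algebra.linearMap B B').comp (LinearMap.proj i)
  have hl₁ : IsLocalizedModule M l₁ := IsLocalizedModule.pi _ _
  let l₂ : Ω[B⁄R] →ₗ[B] Ω[B'⁄R] := KaehlerDifferential.map R R B B'
  have hw : ∀ i, IsUnit (algebraMap B B' (nd i).2) := fun i => IsLocalization.map_units B' (nd i).2
  let bas'' := bas'.isUnitSMul hw
  have hbb : ∀ i, ψ (KaehlerDifferential.D R B' (algebraMap B B' (b i))) = bas'' i := by
    intro i
    rw [KaehlerDifferential.map_D, Algebra.algebraMap_self, RingHom.id_apply,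
      Module.Basis.isUnitSMul_apply, ← hnd i]
    obtain ⟨s, hs, hs'⟩ := (nd i).2.2
    have h1 : algebraMap B B' ((nd i).2 : B) = algebraMap Rₛ B' (algebraMap R Rₛ s) := by
      rw [← hs', ← IsScalarTower.algebraMap_apply, ← IsScalarTower.algebraMap_apply]
    rw [h1, mul_comm, Derivation.leibniz, Derivation.map_algebraMap, smul_zero, add_zero, hy]
  have hbij : Function.Bijective (IsLocalizedModule.map M l₁ l₂ e) := by
    let E := (bas''.equivFun.symm.trans (LinearEquiv.ofBijective ψ hψ).symm)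
    have : IsLocalizedModule.map M l₁ l₂ e = E.toLinearMap.restrictScalars B := by
      apply IsLocalizedModule.linearMap_ext M l₁ l₂
      refine LinearMap.ext fun v => ?_
      simp only [LinearMap.comp_apply, IsLocalizedModule.map_apply, LinearMap.coe_restrictScalars,
        LinearEquiv.coe_coe]
      apply hψ.1
      show ψ (l₂ (e v)) = ψ ((LinearEquiv.ofBijective ψ hψ).symm (bas''.equivFun.symm (l₁ v)))
      rw [show ψ ((LinearEquiv.ofBijective ψ hψ).symm (bas''.equivFun.symm (l₁ v))) =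
        bas''.equivFun.symm (l₁ v) from (LinearEquiv.ofBijective ψ hψ).apply_symm_apply _]
      simp [l₁, l₂, e, Fintype.linearCombination_apply, Module.Basis.equivFun_symm_apply, ← hbb,
        algebraMap_smul]
    rw [this]
    exact E.bijective
  obtain ⟨_, ⟨s₁, hs₁, rfl⟩, hdvd⟩ := exists_bijective_map_powers M l₁ l₂ e hbij
  let f := algebraMap R B (s₀ * s₁)
  have h := hdvd f (Dvd.intro_left (algebraMap R B s₀) (map_mul (algebraMap R B) s₀ s₁).symm)
  have hsm : Algebra.Smooth R (Localization.Away f) := by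
    rw [← Algebra.basicOpen_subset_smoothLocus_iff_smooth]
    intro P hP
    by_contra hns
    have h1 : algebraMap R B s₀ ∈ P.asIdeal :=
      (PrimeSpectrum.mem_vanishingIdeal _ _).1 hs₀' P hns
    have h2 : f ∈ P.asIdeal := by
      show algebraMap R B (s₀ * s₁) ∈ P.asIdeal
      rw [map_mul]
      exact P.asIdeal.mul_mem_right _ h1
    exact hP h2
  have hgs : ∀ z : Ω[B⁄R], ∃ k, f ^ k • z ∈ LinearMap.range e := by
    intro z
    obtain ⟨v, hv⟩ := h.2 (LocalizedModule.mk z 1)
    induction v using LocalizedModule.induction_on with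
    | h u t =>
      rw [LocalizedModule.map_mk, LocalizedModule.mk_eq] at hv
      obtain ⟨⟨_, k, rfl⟩, hk⟩ := hv
      obtain ⟨_, k', rfl⟩ := t
      refine ⟨k + k', f ^ k • u, ?_⟩
      simp only [one_smul, Submonoid.smul_def] at hk
      rw [map_smul, pow_add, mul_smul]
      exact hk
  have hgi : ∀ v, e v = 0 → ∃ k, f ^ k • v = 0 := by
    intro v hv
    have : LocalizedModule.mk v (1 : Submonoid.powers f) = LocalizedModule.mk 0 1 := by
      apply h.1
      rw [LocalizedModule.map_mk, LocalizedModule.map_mk, hv, map_zero]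
    rw [LocalizedModule.mk_eq] at this
    obtain ⟨⟨_, k, rfl⟩, hk⟩ := this
    exact ⟨k, by simpa [Submonoid.smul_def] using hk⟩
  obtain ⟨N₀, hN⟩ := Elementary.pow_isElementaryStandard f b (Elementary.bijective_away f b hgs hgi)
  refine ⟨(s₀ * s₁) ^ N₀, S.pow_mem (S.mul_mem hs₀ hs₁) _, ?_⟩
  rw [map_pow]
  exact hN N₀ le_rfl

theorem exists_factorisation [Algebra.FinitePresentation R A] (φ : A →ₐ[R] Λ) (S : Submonoid R)
    [IsLocalization S Rₛ] [Algebra.Smooth Rₛ B'] (g : Rₛ ⊗[R] A →ₐ[Rₛ] B')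
    (h : B' →ₐ[Rₛ] Rₛ ⊗[R] Λ) (hgh : h.comp g = Algebra.TensorProduct.map (AlgHom.id Rₛ Rₛ) φ) :
    ∃ (B : Type u) (_ : CommRing B) (_ : Algebra R B) (α : A →ₐ[R] B) (β : B →ₐ[R] Λ),
      β.comp α = φ ∧ ∃ s ∈ S, _root_.Smoothing.IsElementaryStandard R B (algebraMap R B s) := by
  obtain ⟨C, _, _, _, _, -, ⟨ρ⟩, hstd⟩ := Retract.exists_retract (R := Rₛ) (A := B')
  letI : Algebra R C := Algebra.compHom C (algebraMap R Rₛ)
  haveI : IsScalarTower R Rₛ C := IsScalarTower.of_algebraMap_eq' rfl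
  let g₁ : Rₛ ⊗[R] A →ₐ[Rₛ] C := (IsScalarTower.toAlgHom Rₛ B' C).comp g
  let gA : A →ₐ[R] C := (g₁.restrictScalars R).comp Algebra.TensorProduct.includeRight
  let h₁ : C →ₐ[Rₛ] Rₛ ⊗[R] Λ := h.comp (ρ.restrictScalars Rₛ)
  have hgh₁ : ∀ a, h₁ (gA a) = (1 : Rₛ) ⊗ₜ φ a := fun a => by
    show h (ρ (algebraMap B' C (g ((1 : Rₛ) ⊗ₜ a)))) = _
    rw [ρ.commutes, Algebra.algebraMap_self, RingHom.id_apply, ← AlgHom.comp_apply h g, hgh]
    simp
  have : Algebra.Smooth Rₛ C := inferInstance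
  have : Algebra.FormallySmooth Rₛ C := inferInstance
  obtain ⟨B, _, _, α, β, θ, hB, hcomp, hloc⟩ := exists_descent φ S gA h₁ hgh₁
  letI := θ.toRingHom.toAlgebra
  haveI : IsScalarTower R B C := IsScalarTower.of_algebraMap_eq fun r => (θ.commutes r).symm
  obtain ⟨-, ι, bas, hbas⟩ := Algebra.IsStandardSmooth.iff_exists_basis_kaehlerDifferential.1 hstd
  rcases subsingleton_or_nontrivial C with hC | hC
  · obtain ⟨_, ⟨s, hs, rfl⟩, hs0⟩ : ∃ m ∈ Algebra.algebraMapSubmonoid B S, m = 0 :=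
      ⟨0, (IsLocalization.subsingleton_iff (S := C)).1 hC, rfl⟩
    refine ⟨B, inferInstance, inferInstance, α, β, hcomp, s, hs, ?_⟩
    obtain ⟨n, φB, hφB, hfg⟩ := hB.out
    obtain ⟨m, f, hf⟩ := Submodule.fg_iff_exists_fin_generating_family.1 hfg
    rw [hs0]
    refine ⟨⟨n, m, 0, Nat.zero_le _, Nat.zero_le _, f, φB, hφB, hf.symm⟩, ⟨0, by simp⟩, ?_⟩
    intro a' ha' j _
    refine Ideal.mem_sup_right ?_
    rw [pow_two]
    exact Ideal.mul_mem_mul (hf.ge ha') (Ideal.subset_span ⟨j, rfl⟩)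
  · have : Finite ι := Module.Finite.finite_basis bas
    exact ⟨B, inferInstance, inferInstance, α, β, hcomp,
      exists_isElementaryStandard (Rₛ := Rₛ) (B' := C) S bas hbas⟩

end Groth.Agent.Lib.Smoothing.Descend
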