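import Groth.Agent.Lib.Smoothing.SingularComp
import Groth.Agent.Lib.Smoothing.Descend
import Mathlib.RingTheory.Localization.AtPrime.Basic
import Mathlib.RingTheory.Localization.LocalizationLocalization
import Mathlib.RingTheory.Etale.Basic

/-!
# Delocalizing a factorisation
-/

universe u

open MvPolynomial TensorProduct

namespace Groth.Agent.Lib.Smoothing.Delocalize

theorem exists_hom {R : Type u} [CommRing R] {σ : Type} (Q : MvPolynomial σ R) :
    ∃ (D : ℕ) (H : MvPolynomial (σ ⊕ Unit) R),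
      (∀ {S : Type u} [CommRing S] [Algebra R S] (x : σ → S) (t : S),
        aeval (Sum.elim (fun i => t * x i) fun _ => t) H = t ^ (D + 1) * aeval x Q) ∧
      (∀ {S : Type u} [CommRing S] [Algebra R S] (v : σ ⊕ Unit → S) (μ : S),
        aeval (fun i => μ * v i) H = μ ^ (D + 1) * aeval v H) := by
  induction Q using MvPolynomial.induction_on with
  | C r =>
    refine ⟨0, C r * X (Sum.inr ()), fun x t => ?_, fun v μ => ?_⟩
    · simp [mul_comm]
    · simp; ring
  | add p q hp hq =>
    obtain ⟨D, H, h1, h2⟩ := hp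
    obtain ⟨D', H', h1', h2'⟩ := hq
    refine ⟨D + D' + 1, H * X (Sum.inr ()) ^ (D' + 1) + H' * X (Sum.inr ()) ^ (D + 1),
      fun x t => ?_, fun v μ => ?_⟩
    · simp [h1, h1']; ring
    · simp [h2, h2']; ring
  | mul_X p i hp =>
    obtain ⟨D, H, h1, h2⟩ := hp
    refine ⟨D + 1, H * X (Sum.inl i), fun x t => ?_, fun v μ => ?_⟩
    · simp [h1]; ring
    · simp [h2]; ring

variable {R A Λ : Type u} [CommRing R] [CommRing A] [Algebra R A] [Algebra.FinitePresentation R A]
  [CommRing Λ] [Algebra R Λ]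

set_option maxHeartbeats 1600000 in
theorem exists_delocalized (φ : A →ₐ[R] Λ) (q : Ideal Λ) [q.IsPrime]
    {Rp Λq B' : Type u} [CommRing Rp] [Algebra R Rp]
    [IsLocalization.AtPrime Rp (q.comap (algebraMap R Λ))]
    [CommRing Λq] [Algebra Λ Λq] [IsLocalization.AtPrime Λq q] [Algebra R Λq] [IsScalarTower R Λ Λq]
    [Algebra Rp Λq] [IsScalarTower R Rp Λq]
    [CommRing B'] [Algebra Rp B'] [Algebra R B'] [IsScalarTower R Rp B']
    [Algebra.FinitePresentation Rp B'] (g : A →ₐ[R] B') (h : B' →ₐ[Rp] Λq)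
    (hgh : ∀ a, h (g a) = algebraMap Λ Λq (φ a))
    (hsm : ∀ P : Ideal B', P = (q.map (algebraMap Λ Λq)).comap h → ∀ [P.IsPrime],
      Algebra.IsSmoothAt Rp P) :
    ∃ (C : Type u) (_ : CommRing C) (_ : Algebra R C), Algebra.FinitePresentation R C ∧
      ∃ (α : A →ₐ[R] C) (β : C →ₐ[R] Λ), β.comp α = φ ∧
        ¬ (_root_.Smoothing.singularIdeal R C).map β ≤ q := by
  classical
  let p : Ideal R := q.comap (algebraMap R Λ)
  obtain ⟨n, φ', hφ', hfg'⟩ := ‹Algebra.FinitePresentation Rp B'›.out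
  obtain ⟨c, f, hf⟩ := Submodule.fg_iff_exists_fin_generating_family.1 hfg'
  let x : Fin n → B' := fun i => φ' (X i)
  have hx : ∀ Q : MvPolynomial (Fin n) R, φ' (map (algebraMap R Rp) Q) = aeval x Q := by
    intro Q
    rw [show φ' = aeval x from aeval_unique φ', aeval_map_algebraMap]
  -- images in `Λ_q` with a common denominator
  obtain ⟨⟨σ, hσ⟩, hσh⟩ := IsLocalization.exist_integer_multiples_of_finite q.primeCompl
    fun i => h (x i)
  choose a ha using hσh
  -- relations over `R`
  choose t ht F hF using fun j => Descend.exists_map_eq_C_mul (R := R) p.primeCompl (f j)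
  obtain ⟨r, φA, hφA, hAfg⟩ := ‹Algebra.FinitePresentation R A›.out
  obtain ⟨mA, GA, hGA⟩ := Submodule.fg_iff_exists_fin_generating_family.1 hAfg
  let w : Fin r → B' := fun k => g (φA (X k))
  choose P' hP' using fun k => hφ' (w k)
  choose u hu pk hpk using fun k => Descend.exists_map_eq_C_mul (R := R) p.primeCompl (P' k)
  have hpw : ∀ k, aeval x (pk k) = algebraMap R B' (u k) * w k := fun k => by
    rw [← hx, hpk, map_mul, hP', ← MvPolynomial.algebraMap_eq, AlgHom.commutes,
      ← IsScalarTower.algebraMap_apply]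
  have hFx : ∀ j, aeval x (F j) = 0 := fun j => by
    have hz : φ' (f j) = 0 :=
      (hf.le (Ideal.subset_span ⟨j, rfl⟩) : f j ∈ RingHom.ker φ'.toRingHom)
    rw [← hx, hF, map_mul, hz, mul_zero]
  choose DF HF hF1 hF2 using fun j => exists_hom (F j)
  choose DP HP hP1 hP2 using fun k => exists_hom (pk k)
  let v₀ : Fin n ⊕ Unit → Λ := Sum.elim a fun _ => σ
  let hR : B' →ₐ[R] Λq := h.restrictScalars R
  let ιΛ : Λ →ₐ[R] Λq := IsScalarTower.toAlgHom R Λ Λq
  have hv₀ : (fun i => ιΛ (v₀ i)) =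
      Sum.elim (fun i => algebraMap Λ Λq σ * hR (x i)) fun _ => algebraMap Λ Λq σ := by
    funext i
    rcases i with i | i
    · exact (ha i).trans (Algebra.smul_def _ _)
    · rfl
  have hkill : ∀ z : Λ, ιΛ z = 0 → ∃ m : Λ, m ∈ q.primeCompl ∧ m * z = 0 := fun z hz => by
    obtain ⟨⟨m, hm⟩, hm'⟩ := (IsLocalization.map_eq_zero_iff q.primeCompl Λq z).1 hz
    exact ⟨m, hm, hm'⟩
  choose mF hmF hmF' using fun j => hkill (aeval v₀ (HF j)) (by
    rw [comp_aeval_apply, hv₀, hF1 j, ← comp_aeval_apply, hFx, map_zero, mul_zero])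
  choose mP hmP hmP' using fun k =>
    hkill (algebraMap R Λ (u k) * σ ^ (DP k + 1) * φ (φA (X k)) - aeval v₀ (HP k)) (by
    rw [map_sub, comp_aeval_apply (f := v₀), hv₀, hP1 k, ← comp_aeval_apply, hpw, map_mul, map_mul,
      map_pow, AlgHom.commutes, map_mul, AlgHom.commutes]
    show _ * algebraMap Λ Λq σ ^ _ * algebraMap Λ Λq (φ (φA (X k))) - _ * (_ * h (g (φA (X k)))) = 0
    rw [hgh]
    ring)
  let μ : Λ := (∏ j, mF j) * ∏ k, mP k
  have hμ : μ ∈ q.primeCompl := mul_mem (prod_mem fun j _ => hmF j) (prod_mem fun k _ => hmP k)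
  let y : (Fin n ⊕ Unit) ⊕ Fin r := Sum.inl (Sum.inr ())
  let rel : Fin c ⊕ Fin mA ⊕ Fin r → MvPolynomial ((Fin n ⊕ Unit) ⊕ Fin r) R :=
    Sum.elim (fun j => rename Sum.inl (HF j)) (Sum.elim (fun l => rename Sum.inr (GA l))
      fun k => C (u k) * X y ^ (DP k + 1) * X (Sum.inr k) - rename Sum.inl (HP k))
  let I : Ideal (MvPolynomial ((Fin n ⊕ Unit) ⊕ Fin r) R) := Ideal.span (Set.range rel)
  let Cc := MvPolynomial ((Fin n ⊕ Unit) ⊕ Fin r) R ⧸ I
  have : Algebra.FinitePresentation R Cc :=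
    Algebra.FinitePresentation.quotient (Submodule.fg_span (Set.finite_range rel))
  let cm : MvPolynomial ((Fin n ⊕ Unit) ⊕ Fin r) R →ₐ[R] Cc := Ideal.Quotient.mkₐ R I
  have hrel : ∀ i, cm (rel i) = 0 := fun i =>
    Ideal.Quotient.eq_zero_iff_mem.2 (Ideal.subset_span ⟨i, rfl⟩)
  have hGAA : ∀ l, φA (GA l) = 0 := fun l => hGA.le (Ideal.subset_span ⟨l, rfl⟩)
  have hAval : ∀ {T : Type u} [CommRing T] [Algebra R T] (ψ : A →ₐ[R] T) (Q : MvPolynomial (Fin r) R),
      aeval (fun k => ψ (φA (X k))) Q = ψ (φA Q) := fun ψ Q =>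
    (DFunLike.congr_fun (aeval_unique (ψ.comp φA)) Q).symm
  -- maps out of `C`
  have hdesc : ∀ {T : Type u} [CommRing T] [Algebra R T] (v : Fin n ⊕ Unit → T) (ψ : A →ₐ[R] T),
      (∀ j, aeval v (HF j) = 0) →
      (∀ k, algebraMap R T (u k) * v (Sum.inr ()) ^ (DP k + 1) * ψ (φA (X k)) = aeval v (HP k)) →
      ∀ Q ∈ I, aeval (Sum.elim v fun k => ψ (φA (X k))) Q = 0 := by
    intro T _ _ v ψ h1 h2 Q hQ
    refine (Ideal.span_le (I := RingHom.ker
      (aeval (R := R) (Sum.elim v fun k => ψ (φA (X k)))))).2 ?_ hQ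
    rintro _ ⟨j | l | k, rfl⟩ <;>
      simp only [rel, SetLike.mem_coe, RingHom.mem_ker, Sum.elim_inl, Sum.elim_inr, map_sub, map_mul,
        map_pow, aeval_C, aeval_X, aeval_rename, Sum.elim_comp_inl, Sum.elim_comp_inr, y]
    · exact h1 j
    · rw [hAval, hGAA, map_zero]
    · rw [h2 k, sub_self]
  let β : Cc →ₐ[R] Λ := Ideal.Quotient.liftₐ I
    (aeval (Sum.elim (fun i => μ * v₀ i) fun k => φ (φA (X k)))) (hdesc _ φ (fun j => by
      rw [hF2 j, pow_succ', mul_assoc, mul_comm (μ ^ _), ← mul_assoc]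
      have : μ * aeval v₀ (HF j) = 0 := by
        have h1 : μ = (∏ j' ∈ Finset.univ.erase j, mF j') * (∏ k, mP k) * mF j := by
          simp only [μ]
          rw [← Finset.mul_prod_erase Finset.univ mF (Finset.mem_univ j)]
          ring
        rw [h1, mul_assoc, hmF', mul_zero]
      rw [this, zero_mul]) (fun k => by
      rw [hP2 k]
      have h1 : μ = (∏ j, mF j) * (∏ k' ∈ Finset.univ.erase k, mP k') * mP k := by
        simp only [μ]
        rw [← Finset.mul_prod_erase Finset.univ mP (Finset.mem_univ k)]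
        ring
      have h2 : μ * (algebraMap R Λ (u k) * σ ^ (DP k + 1) * φ (φA (X k)) - aeval v₀ (HP k)) = 0 := by
        rw [h1, mul_assoc, hmP', mul_zero]
      simp only [v₀, Sum.elim_inr] at h2 ⊢
      linear_combination (μ ^ DP k) * h2))
  let α₀ : MvPolynomial (Fin r) R →ₐ[R] Cc := cm.comp (rename Sum.inr)
  let α : A →ₐ[R] Cc := AlgHom.liftOfSurjective φA hφA α₀ (by
    show RingHom.ker φA.toRingHom ≤ _
    rw [← hGA, Submodule.span_le]
    rintro _ ⟨l, rfl⟩
    exact hrel (.inr (.inl l)))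
  have hα : ∀ Q, α (φA Q) = α₀ Q := AlgHom.liftOfSurjective_apply φA hφA _ _
  refine ⟨Cc, inferInstance, inferInstance, inferInstance, α, β, ?_, ?_⟩
  · refine AlgHom.ext fun z => ?_
    obtain ⟨Q, rfl⟩ := hφA z
    show β (α (φA Q)) = _
    rw [hα]
    show aeval (Sum.elim (fun i => μ * v₀ i) fun k => φ (φA (X k))) (rename Sum.inr Q) = _
    rw [aeval_rename, Sum.elim_comp_inr]
    exact hAval φ Q
  -- the localisation `T = B'[t, 1/t]` of `C`
  intro hle
  obtain ⟨T, _, _, _, _, _, _, _⟩ : ∃ (T : Type u) (_ : CommRing T) (_ : Algebra (Polynomial B') T)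
      (_ : Algebra B' T) (_ : Algebra R T) (_ : IsScalarTower B' (Polynomial B') T)
      (_ : IsScalarTower R B' T), IsLocalization.Away (Polynomial.X : Polynomial B') T :=
    ⟨Localization.Away (Polynomial.X : Polynomial B'), inferInstance, inferInstance, inferInstance,
      inferInstance, inferInstance, inferInstance, inferInstance⟩
  let tT : T := algebraMap (Polynomial B') T Polynomial.X
  have htT : IsUnit tT := IsLocalization.Away.algebraMap_isUnit _
  let ιB : B' →ₐ[R] T := IsScalarTower.toAlgHom R B' T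
  let vT : Fin n ⊕ Unit → T := Sum.elim (fun i => tT * ιB (x i)) fun _ => tT
  let Φ : Cc →ₐ[R] T := Ideal.Quotient.liftₐ I (aeval (Sum.elim vT fun k => ιB (g (φA (X k)))))
    (hdesc vT (ιB.comp g) (fun j => by rw [hF1 j, ← comp_aeval_apply, hFx, map_zero, mul_zero])
      (fun k => by
        rw [hP1 k, ← comp_aeval_apply, hpw, map_mul, AlgHom.commutes]
        show _ * tT ^ _ * ιB (g _) = _
        ring))
  let M : Submonoid Cc := Algebra.algebraMapSubmonoid Cc p.primeCompl ⊔ Submonoid.powers (cm (X y))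
  have hΦy : Φ (cm (X y)) = tT := aeval_X _ _
  have hunitT : ∀ m : M, IsUnit (Φ m) := by
    rintro ⟨m, hm⟩
    obtain ⟨m₁, hm₁, m₂, hm₂, rfl⟩ := Submonoid.mem_sup.1 hm
    obtain ⟨s, hs, rfl⟩ := hm₁
    obtain ⟨k, rfl⟩ := hm₂
    show IsUnit (Φ (algebraMap R Cc s * cm (X y) ^ k))
    rw [map_mul, AlgHom.commutes, map_pow, hΦy, IsScalarTower.algebraMap_apply R B' T,
      IsScalarTower.algebraMap_apply R Rp B']
    exact (((IsLocalization.map_units Rp ⟨s, hs⟩).map _).map _).mul (htT.pow k)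
  obtain ⟨CM, _, _, _, _, _⟩ : ∃ (CM : Type u) (_ : CommRing CM) (_ : Algebra Cc CM) (_ : Algebra R CM)
      (_ : IsScalarTower R Cc CM), IsLocalization M CM :=
    ⟨Localization M, inferInstance, inferInstance, inferInstance, inferInstance, inferInstance⟩
  let ιC : Cc →ₐ[R] CM := IsScalarTower.toAlgHom R Cc CM
  let Φ' : CM →ₐ[R] T := IsLocalization.liftAlgHom (S := CM) hunitT
  have hΦ' : ∀ z, Φ' (ιC z) = Φ z := fun z => IsLocalization.lift_eq hunitT z
  have hsC : ∀ s ∈ p.primeCompl, IsUnit (algebraMap R CM s) := fun s hs => by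
    rw [IsScalarTower.algebraMap_apply R Cc CM]
    exact IsLocalization.map_units CM (⟨algebraMap R Cc s, Submonoid.mem_sup_left
      (Submonoid.mem_map.2 ⟨s, hs, rfl⟩)⟩ : M)
  have hsC' : ∀ s : p.primeCompl, IsUnit (algebraMap R CM s) := fun s => hsC s.1 s.2
  let ρ : Rp →+* CM := IsLocalization.lift (M := p.primeCompl) (S := Rp) (P := CM)
    (g := algebraMap R CM) hsC'
  let _ : Algebra Rp CM := RingHom.toAlgebra (R := Rp) (S := CM) ρ
  have : IsScalarTower R Rp CM := IsScalarTower.of_algebraMap_eq fun z => by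
    show _ = ρ (algebraMap R Rp z)
    exact (IsLocalization.lift_eq (M := p.primeCompl) (S := Rp) (P := CM)
      (g := algebraMap R CM) hsC' z).symm
  let yM : CM := ιC (cm (X y))
  have hyM : IsUnit yM :=
    IsLocalization.map_units CM (⟨cm (X y), Submonoid.mem_sup_right (Submonoid.mem_powers _)⟩ : M)
  obtain ⟨yi, hyi⟩ := hyM.exists_left_inv
  let xM : Fin n → CM := fun i => yi * ιC (cm (X (Sum.inl (Sum.inl i))))
  have hxM : (fun i => ιC (cm (X (Sum.inl i)))) = Sum.elim (fun i => yM * xM i) fun _ => yM := by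
    funext i
    rcases i with i | i
    · show _ = yM * xM i
      simp only [xM]
      rw [← mul_assoc, mul_comm yM, hyi, one_mul]
    · rfl
  have hren : ∀ Q, ιC (cm (rename Sum.inl Q)) = aeval (fun i => ιC (cm (X (Sum.inl i)))) Q := fun Q => by
    suffices (ιC.comp cm).comp (rename Sum.inl) = aeval (fun i => ιC (cm (X (Sum.inl i)))) from
      DFunLike.congr_fun this Q
    apply algHom_ext
    intro i
    simp
  let ψB₀ : MvPolynomial (Fin n) Rp →ₐ[Rp] CM := aeval xM
  have hψB₀ : ∀ z ∈ RingHom.ker (φ' : MvPolynomial (Fin n) Rp →+* B'), ψB₀ z = 0 := by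
    intro z hz
    refine (Ideal.span_le (I := RingHom.ker ψB₀)).2 ?_ (hf.ge hz)
    rintro _ ⟨j, rfl⟩
    show ψB₀ (f j) = 0
    have h1 := congrArg ψB₀ (hF j)
    rw [show ψB₀ (map (algebraMap R Rp) (F j)) = aeval xM (F j) from aeval_map_algebraMap Rp _ _,
      map_mul, ← MvPolynomial.algebraMap_eq, AlgHom.commutes, ← IsScalarTower.algebraMap_apply] at h1
    refine (hsC _ (ht j)).mul_right_eq_zero.1 ?_
    rw [← h1]
    refine ((hyM.pow (DF j + 1)).mul_right_eq_zero).1 ?_
    rw [← hF1 j, ← hxM, ← hren, show rename Sum.inl (HF j) = rel (.inl j) from rfl, hrel, map_zero]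
  let ψB : B' →ₐ[Rp] CM := (Ideal.Quotient.liftₐ (RingHom.ker φ') ψB₀ hψB₀).comp
    (Ideal.quotientKerAlgEquivOfSurjective hφ').symm.toAlgHom
  have hψB : ∀ Q, ψB (φ' Q) = ψB₀ Q := fun Q => by
    show Ideal.Quotient.liftₐ (RingHom.ker φ') ψB₀ hψB₀
      ((Ideal.quotientKerAlgEquivOfSurjective hφ').symm (φ' Q)) = _
    rw [show (Ideal.quotientKerAlgEquivOfSurjective hφ').symm (φ' Q) =
      Ideal.Quotient.mk _ Q from (AlgEquiv.symm_apply_eq _).2 rfl]
    rfl
  have hψBx : ∀ i, ψB (x i) = xM i := fun i => (hψB _).trans (aeval_X _ _)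
  let ψP : Polynomial B' →+* CM := Polynomial.eval₂RingHom ψB.toRingHom yM
  have hψPu : ∀ m : Submonoid.powers (Polynomial.X : Polynomial B'), IsUnit (ψP m) := by
    rintro ⟨_, k, rfl⟩
    rw [map_pow, show ψP Polynomial.X = yM from Polynomial.eval₂_X _ _]
    exact hyM.pow k
  let Ψ : T →+* CM := IsLocalization.lift (M := Submonoid.powers (Polynomial.X : Polynomial B'))
    (S := T) hψPu
  have hΨB : ∀ b, Ψ (ιB b) = ψB b := fun b => by
    show Ψ (algebraMap B' T b) = _
    rw [IsScalarTower.algebraMap_apply B' (Polynomial B') T, IsLocalization.lift_eq]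
    exact Polynomial.eval₂_C _ _
  have hΨt : Ψ tT = yM := (IsLocalization.lift_eq _ _).trans (Polynomial.eval₂_X _ _)
  have hΨΦ : ∀ z, Ψ (Φ z) = ιC z := by
    intro z
    suffices Ψ.comp Φ.toRingHom = ιC.toRingHom from RingHom.congr_fun this z
    apply Ideal.Quotient.ringHom_ext
    apply MvPolynomial.ringHom_ext
    · intro s
      show Ψ (Φ (algebraMap R Cc s)) = ιC (algebraMap R Cc s)
      rw [AlgHom.commutes, AlgHom.commutes, ← ιB.commutes, hΨB]
      exact (ψB.restrictScalars R).commutes s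
    · rintro ((i | i) | k)
      · show Ψ (Φ (cm (X (Sum.inl (Sum.inl i))))) = ιC (cm (X (Sum.inl (Sum.inl i))))
        rw [show Φ (cm (X (Sum.inl (Sum.inl i)))) = tT * ιB (x i) from aeval_X _ _, map_mul, hΨt, hΨB,
          hψBx]
        exact (congrFun hxM (Sum.inl i)).symm
      · show Ψ (Φ (cm (X (Sum.inl (Sum.inr ()))))) = yM
        rw [hΦy, hΨt]
      · show Ψ (Φ (cm (X (Sum.inr k)))) = ιC (cm (X (Sum.inr k)))
        rw [show Φ (cm (X (Sum.inr k))) = ιB (w k) from aeval_X _ _, hΨB]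
        refine ((hsC _ (hu k)).mul (hyM.pow (DP k + 1))).mul_left_cancel ?_
        have h1 := congrArg ιC (hrel (.inr (.inr k)))
        simp only [rel, Sum.elim_inr, map_sub, map_mul, map_pow, map_zero, sub_eq_zero] at h1
        rw [hren, hxM, hP1 k] at h1
        simp only [← MvPolynomial.algebraMap_eq, AlgHom.commutes] at h1
        show algebraMap R CM (u k) * yM ^ _ * ψB (w k) = algebraMap R CM (u k) * yM ^ _ * _
        rw [h1, show aeval xM (pk k) = (ψB.restrictScalars R) (aeval x (pk k)) by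
          rw [comp_aeval_apply]; exact congrFun (congrArg DFunLike.coe (congrArg aeval (funext fun i => (hψBx i).symm))) _,
          hpw, map_mul, AlgHom.commutes]
        show _ = _ * (_ * ψB (w k))
        ring
  have hΦΨ : ∀ z, Φ' (Ψ z) = z := by
    intro z
    suffices Φ'.toRingHom.comp Ψ = RingHom.id T from RingHom.congr_fun this z
    apply IsLocalization.ringHom_ext (Submonoid.powers (Polynomial.X : Polynomial B'))
    apply Polynomial.ringHom_ext
    · intro b
      show Φ' (Ψ (algebraMap (Polynomial B') T (Polynomial.C b))) = algebraMap (Polynomial B') T (Polynomial.C b)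
      rw [show algebraMap (Polynomial B') T (Polynomial.C b) = ιB b from
        (IsScalarTower.algebraMap_apply B' (Polynomial B') T b).symm, hΨB]
      suffices (Φ'.toRingHom.comp ψB.toRingHom).comp φ'.toRingHom = ιB.toRingHom.comp φ'.toRingHom by
        obtain ⟨Q, rfl⟩ := hφ' b
        exact RingHom.congr_fun this Q
      apply MvPolynomial.ringHom_ext'
      · apply IsLocalization.ringHom_ext p.primeCompl
        refine RingHom.ext fun s => ?_
        show Φ' (ψB (φ' (MvPolynomial.C (algebraMap R Rp s)))) = ιB (φ' (MvPolynomial.C (algebraMap R Rp s)))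
        rw [← MvPolynomial.algebraMap_eq, AlgHom.commutes, AlgHom.commutes,
          ← IsScalarTower.algebraMap_apply, ← IsScalarTower.algebraMap_apply, AlgHom.commutes,
          AlgHom.commutes]
      · intro i
        show Φ' (ψB (x i)) = ιB (x i)
        rw [hψBx]
        refine htT.mul_left_cancel ?_
        rw [← hΦy, ← hΦ' (cm (X y))]
        show Φ' yM * Φ' (xM i) = Φ' yM * ιB (x i)
        rw [← map_mul, show yM * xM i = ιC (cm (X (Sum.inl (Sum.inl i)))) from (congrFun hxM (Sum.inl i)).symm,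
          hΦ', show Φ' yM = tT from (hΦ' _).trans hΦy]
        exact aeval_X _ _
    · show Φ' (Ψ tT) = tT
      rw [hΨt, show Φ' yM = tT from (hΦ' _).trans hΦy]
  let _ : Algebra Cc T := Φ.toRingHom.toAlgebra
  have : IsScalarTower R Cc T := IsScalarTower.of_algebraMap_eq fun z => (Φ.commutes z).symm
  let eCM : CM ≃ₐ[Cc] T :=
    { Φ'.toRingHom with
      invFun := Ψ
      left_inv := fun z => by
        suffices Ψ.comp Φ'.toRingHom = RingHom.id CM from RingHom.congr_fun this z
        apply IsLocalization.ringHom_ext M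
        refine RingHom.ext fun z => ?_
        show Ψ (Φ' (ιC z)) = ιC z
        rw [hΦ', hΨΦ]
      right_inv := hΦΨ
      commutes' := fun z => hΦ' z }
  have : IsLocalization M T := IsLocalization.isLocalization_of_algEquiv M eCM
  -- the prime of `T` over `q`
  have hσμ : algebraMap Λ Λq (μ * σ) ≠ 0 ∧ IsUnit (algebraMap Λ Λq (μ * σ)) :=
    have hu' := IsLocalization.map_units Λq (⟨μ * σ, mul_mem hμ hσ⟩ : q.primeCompl)
    ⟨fun h0 => by
      have : Nontrivial Λq := IsLocalization.AtPrime.nontrivial Λq q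
      exact hu'.ne_zero h0, hu'⟩
  let hT₀ : Polynomial B' →+* Λq := Polynomial.eval₂RingHom h.toRingHom (algebraMap Λ Λq (μ * σ))
  let hT : T →+* Λq := IsLocalization.lift (M := Submonoid.powers (Polynomial.X : Polynomial B'))
    (S := T) (g := hT₀) (by
      rintro ⟨_, k, rfl⟩
      rw [map_pow, show hT₀ Polynomial.X = _ from Polynomial.eval₂_X _ _]
      exact hσμ.2.pow k)
  have hTB : ∀ b, hT (ιB b) = h b := fun b => by
    show hT (algebraMap B' T b) = _
    rw [IsScalarTower.algebraMap_apply B' (Polynomial B') T, IsLocalization.lift_eq]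
    exact Polynomial.eval₂_C _ _
  have hTΦ : ∀ z, hT (Φ z) = algebraMap Λ Λq (β z) := by
    intro z
    suffices hT.comp Φ.toRingHom = (algebraMap Λ Λq).comp β.toRingHom from RingHom.congr_fun this z
    apply Ideal.Quotient.ringHom_ext
    apply MvPolynomial.ringHom_ext
    · intro s
      show hT (Φ (algebraMap R Cc s)) = algebraMap Λ Λq (β (algebraMap R Cc s))
      rw [AlgHom.commutes, AlgHom.commutes, ← IsScalarTower.algebraMap_apply, ← ιB.commutes, hTB]
      exact (h.restrictScalars R).commutes s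
    · rintro ((i | i) | k)
      · show hT (Φ (cm (X (Sum.inl (Sum.inl i))))) = algebraMap Λ Λq (β (cm (X (Sum.inl (Sum.inl i)))))
        rw [show Φ (cm (X (Sum.inl (Sum.inl i)))) = tT * ιB (x i) from aeval_X _ _,
          show β (cm (X (Sum.inl (Sum.inl i)))) = μ * v₀ (Sum.inl i) from aeval_X _ _, map_mul, hTB,
          show hT tT = algebraMap Λ Λq (μ * σ) from
            (IsLocalization.lift_eq _ _).trans (Polynomial.eval₂_X _ _)]
        show algebraMap Λ Λq (μ * σ) * h (x i) = algebraMap Λ Λq (μ * v₀ (Sum.inl i))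
        have h9 : algebraMap Λ Λq (v₀ (Sum.inl i)) = algebraMap Λ Λq σ * h (x i) :=
          congrFun hv₀ (Sum.inl i)
        simp only [map_mul, h9]
        ring
      · show hT (Φ (cm (X y))) = algebraMap Λ Λq (β (cm (X y)))
        rw [hΦy, show hT tT = algebraMap Λ Λq (μ * σ) from
          (IsLocalization.lift_eq _ _).trans (Polynomial.eval₂_X _ _)]
        exact congrArg _ (aeval_X (R := R) (Sum.elim (fun i => μ * v₀ i) fun k => φ (φA (X k))) y).symm
      · show hT (Φ (cm (X (Sum.inr k)))) = algebraMap Λ Λq (β (cm (X (Sum.inr k))))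
        rw [show Φ (cm (X (Sum.inr k))) = ιB (w k) from aeval_X _ _, hTB,
          show β (cm (X (Sum.inr k))) = φ (φA (X k)) from aeval_X _ _]
        exact hgh _
  let m : Ideal Λq := q.map (algebraMap Λ Λq)
  have hmprime : m.IsPrime := IsLocalization.isPrime_of_isPrime_disjoint q.primeCompl Λq q inferInstance
    (Set.disjoint_left.2 fun z hz hzq => hz hzq)
  have hmcomap : m.comap (algebraMap Λ Λq) = q := IsLocalization.comap_map_of_isPrime_disjoint
    q.primeCompl Λq inferInstance (Set.disjoint_left.2 fun z hz hzq => hz hzq)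
  let QT : Ideal T := m.comap hT
  let Q₀ : Ideal Cc := q.comap β
  have hQ₀ : QT.comap (algebraMap Cc T) = Q₀ := by
    ext z
    show hT (Φ z) ∈ m ↔ β z ∈ q
    rw [hTΦ]
    exact SetLike.ext_iff.1 hmcomap (β z)
  have hP : QT.comap (algebraMap B' T) = m.comap h := by
    ext b
    show hT (ιB b) ∈ m ↔ h b ∈ m
    rw [hTB]
  have : Algebra.Smooth B' (Polynomial B') := ⟨inferInstance, inferInstance⟩
  have : Algebra.Smooth (Polynomial B') T := Algebra.Smooth.of_isLocalization_Away (Polynomial.X : Polynomial B')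
  have : Algebra.Smooth B' T := Algebra.Smooth.comp B' (Polynomial B') T
  have hsmT : Algebra.IsSmoothAt R QT := by
    refine SingularComp.isSmoothAt_comp (D := B') QT ?_ ?_
    · have : Algebra.FormallySmooth Rp (Localization.AtPrime (QT.comap (algebraMap B' T))) :=
        hsm _ hP
      have : Algebra.FormallyEtale R Rp := Algebra.FormallyEtale.of_isLocalization p.primeCompl
      exact Algebra.FormallySmooth.comp R Rp _
    · have hmem : (⟨QT, inferInstance⟩ : PrimeSpectrum T) ∈ Algebra.smoothLocus B' T := by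
        rw [Algebra.smoothLocus_eq_univ]; trivial
      exact hmem
  have : IsLocalization.AtPrime (Localization.AtPrime QT) (QT.comap (algebraMap Cc T)) :=
    IsLocalization.isLocalization_isLocalization_atPrime_isLocalization M (Localization.AtPrime QT) QT
  have : IsLocalization.AtPrime (Localization.AtPrime QT) Q₀ := by
    have h1 : (QT.comap (algebraMap Cc T)).primeCompl = Q₀.primeCompl := by
      ext z; exact not_congr (SetLike.ext_iff.1 hQ₀ z)
    show IsLocalization Q₀.primeCompl _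
    rw [← h1]
    infer_instance
  have hsm₀ : Algebra.IsSmoothAt R Q₀ := by
    have : Algebra.FormallySmooth R (Localization.AtPrime QT) := hsmT
    exact Algebra.FormallySmooth.of_equiv
      ((IsLocalization.algEquiv Q₀.primeCompl (Localization.AtPrime QT)
        (Localization.AtPrime Q₀)).restrictScalars R)
  obtain ⟨z, hz, hsmz⟩ := Algebra.IsSmoothAt.exists_notMem_smooth R Q₀
  refine hz (hle (Ideal.mem_map_of_mem β ?_))
  rw [SingularComp.mem_singularIdeal_iff]
  intro Q _ hQ
  exact Algebra.basicOpen_subset_smoothLocus_iff_smooth.2 hsmz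
    (show (⟨Q, ‹_›⟩ : PrimeSpectrum Cc) ∈ PrimeSpectrum.basicOpen z from hQ)

end Groth.Agent.Lib.Smoothing.Delocalize
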