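import Groth.Agent.Lib.Regular.Quotient
import Mathlib.RingTheory.Localization.AtPrime.Basic
import Mathlib.RingTheory.Localization.Ideal
import Mathlib.RingTheory.Noetherian.Basic

/-!
# Parameters with stable annihilators
-/

universe u

open IsLocalRing

namespace Groth.Agent.Lib.Smoothing.Parameters

theorem nzd_pow {A : Type*} [CommRing A] {J : Ideal A} {a x : A}
    (ha : ∀ y, a * y ∈ J → y ∈ J)
    (hx : ∀ y, x * y ∈ J ⊔ Ideal.span {a} → y ∈ J ⊔ Ideal.span {a}) :
    ∀ (e : ℕ) (y : A), x * y ∈ J ⊔ Ideal.span {a ^ e} → y ∈ J ⊔ Ideal.span {a ^ e} := by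
  intro e
  induction e with
  | zero => intro y _; simp
  | succ k ih =>
    intro y hy
    have h1 : x * y ∈ J ⊔ Ideal.span {a} :=
      sup_le_sup_left (Ideal.span_singleton_le_span_singleton.2 (dvd_pow_self a (Nat.succ_ne_zero k))) J hy
    obtain ⟨j, hj, z', hz', rfl⟩ := Submodule.mem_sup.1 (hx y h1)
    obtain ⟨z, rfl⟩ := Ideal.mem_span_singleton'.1 hz'
    obtain ⟨j', hj', w', hw', hyeq⟩ := Submodule.mem_sup.1 hy
    obtain ⟨w, rfl⟩ := Ideal.mem_span_singleton'.1 hw'
    have h2 : a * (x * z - w * a ^ k) ∈ J := by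
      rw [show a * (x * z - w * a ^ k) = j' - x * j by rw [pow_succ] at hyeq; linear_combination -hyeq]
      exact J.sub_mem hj' (J.mul_mem_left _ hj)
    have h3 : x * z ∈ J ⊔ Ideal.span {a ^ k} := by
      rw [show x * z = (x * z - w * a ^ k) + w * a ^ k by ring]
      exact Ideal.add_mem _ (Ideal.mem_sup_left (ha _ h2))
        (Ideal.mem_sup_right (Ideal.mem_span_singleton'.2 ⟨w, rfl⟩))
    obtain ⟨j'', hj'', v', hv', rfl⟩ := Submodule.mem_sup.1 (ih z h3)
    obtain ⟨v, rfl⟩ := Ideal.mem_span_singleton'.1 hv'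
    refine Submodule.mem_sup.2 ⟨j + j'' * a, J.add_mem hj (J.mul_mem_right _ hj''), v * a ^ (k + 1),
      Ideal.mem_span_singleton'.2 ⟨v, rfl⟩, ?_⟩
    ring

variable {R : Type u} [CommRing R] [IsRegularLocalRing R] {d : ℕ}

theorem nzd_of_minimal (x : Fin d → R) (hx : Ideal.span (Set.range x) = maximalIdeal R)
    (hd : (maximalIdeal R).spanFinrank = d) (T : Finset (Fin d)) (i : Fin d) (hi : i ∉ T) (y : R)
    (hy : x i * y ∈ Ideal.span (x '' T)) : y ∈ Ideal.span (x '' T) := by
  classical
  set l₀ : List (Fin d) := T.toList ++ i :: (insert i T)ᶜ.toList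
  have hnd : l₀.Nodup := by
    rw [List.nodup_append]
    refine ⟨Finset.nodup_toList _, List.nodup_cons.2 ⟨by simp, Finset.nodup_toList _⟩, ?_⟩
    intro a ha b hb hab
    subst hab
    simp only [List.mem_cons, Finset.mem_toList, Finset.mem_compl, Finset.mem_insert] at ha hb
    rcases hb with rfl | hb
    · exact hi ha
    · exact hb (Or.inr ha)
  have hall : ∀ j, j ∈ l₀ := fun j => by
    simp only [l₀, List.mem_append, List.mem_cons, Finset.mem_toList, Finset.mem_compl, Finset.mem_insert]
    tauto
  have hlen : (l₀.map x).length = (maximalIdeal R).spanFinrank := by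
    rw [List.length_map, hd, ← List.toFinset_card_of_nodup hnd]
    rw [show l₀.toFinset = Finset.univ from Finset.eq_univ_of_forall fun j => List.mem_toFinset.2 (hall j)]
    simp
  have hspan : Ideal.ofList (l₀.map x) = maximalIdeal R := by
    rw [← hx, Ideal.ofList]
    congr 1
    ext z
    constructor
    · intro hz; obtain ⟨j, -, rfl⟩ := List.mem_map.1 hz; exact ⟨j, rfl⟩
    · rintro ⟨j, rfl⟩; exact List.mem_map.2 ⟨j, hall j, rfl⟩
  have hreg := Groth.Agent.Lib.Regular.Quotient.isRegular_of_span_eq_maximalIdeal _ hspan hlen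
  have hmap : l₀.map x = T.toList.map x ++ (x i :: ((insert i T)ᶜ.toList).map x) := by simp [l₀]
  rw [hmap] at hreg
  have h1 := hreg.toIsWeaklyRegular
  rw [RingTheory.Sequence.isWeaklyRegular_append_iff, RingTheory.Sequence.isWeaklyRegular_cons_iff] at h1
  have hT : Ideal.ofList (T.toList.map x) = Ideal.span (x '' T) := by
    rw [Ideal.ofList]
    congr 1
    ext z
    simp
  have hsm : Ideal.ofList (T.toList.map x) • (⊤ : Submodule R R) = Ideal.span (x '' T) := by
    rw [hT]; simp
  have h2 : x i • (Submodule.Quotient.mk y :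
      R ⧸ (Ideal.ofList (T.toList.map x) • ⊤ : Submodule R R)) = x i • 0 := by
    rw [smul_zero, ← Submodule.Quotient.mk_smul, Submodule.Quotient.mk_eq_zero, hsm]
    exact hy
  have h3 := h1.2.1 h2
  rwa [Submodule.Quotient.mk_eq_zero, hsm] at h3

theorem nzd_powers (x : Fin d → R) (hx : Ideal.span (Set.range x) = maximalIdeal R)
    (hd : (maximalIdeal R).spanFinrank = d) (e : ℕ) (S : Finset (Fin d)) :
    ∀ (T : Finset (Fin d)) (i : Fin d), Disjoint S T → i ∉ S → i ∉ T → ∀ y : R,
      x i * y ∈ Ideal.span ((fun j => x j ^ e) '' S) ⊔ Ideal.span (x '' T) →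
        y ∈ Ideal.span ((fun j => x j ^ e) '' S) ⊔ Ideal.span (x '' T) := by
  classical
  induction S using Finset.induction_on with
  | empty =>
    intro T i _ _ hiT y hy
    simp only [Finset.coe_empty, Set.image_empty, Ideal.span_empty, bot_sup_eq] at hy ⊢
    exact nzd_of_minimal x hx hd T i hiT y hy
  | @insert a S haS ih =>
    intro T i hdisj hiS hiT y hy
    simp only [Finset.mem_insert, not_or] at hiS
    rw [Finset.disjoint_insert_left] at hdisj
    set J := Ideal.span ((fun j => x j ^ e) '' S) ⊔ Ideal.span (x '' T) with hJ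
    have heq : Ideal.span ((fun j => x j ^ e) '' (insert a S : Finset (Fin d))) ⊔ Ideal.span (x '' T) =
        J ⊔ Ideal.span {x a ^ e} := by
      rw [Finset.coe_insert, Set.image_insert_eq, Ideal.span_insert, hJ]
      ac_rfl
    rw [heq] at hy ⊢
    have heq' : Ideal.span ((fun j => x j ^ e) '' S) ⊔ Ideal.span (x '' (insert a T : Finset (Fin d))) =
        J ⊔ Ideal.span {x a} := by
      rw [Finset.coe_insert, Set.image_insert_eq, Ideal.span_insert, hJ]
      ac_rfl
    refine nzd_pow (fun z hz => ih T a hdisj.2 haS hdisj.1 z hz) (fun z hz => ?_) e y hy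
    rw [← heq'] at hz ⊢
    refine ih (insert a T) i (Finset.disjoint_insert_right.2 ⟨haS, hdisj.2⟩) hiS.2 ?_ z hz
    simp [hiS.1, hiT]

theorem exists_parameters {Λ : Type u} [CommRing Λ] [IsNoetherianRing Λ] (I q : Ideal Λ)
    [q.IsPrime] (n e d : ℕ) (hn : 0 < n)
    (hpow : (q ^ n).map (algebraMap Λ (Localization.AtPrime q)) ≤ I.map (algebraMap Λ (Localization.AtPrime q)))
    [IsRegularLocalRing (Localization.AtPrime q)] (hd : ringKrullDim (Localization.AtPrime q) = d) :
    ∃ π : Fin d → Λ,
      Ideal.span (Set.range fun i => algebraMap Λ (Localization.AtPrime q) (π i)) =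
        q.map (algebraMap Λ (Localization.AtPrime q)) ∧
      (∀ i, π i ^ n ∈ I) ∧
      ∀ i : Fin d, ∀ x : Λ ⧸ Ideal.span (Set.range fun j : {j : Fin d // (j : ℕ) < (i : ℕ)} => π j ^ e),
        Ideal.Quotient.mk _ (π i) ^ 2 * x = 0 → Ideal.Quotient.mk _ (π i) * x = 0 := by
  classical
  let Lq := Localization.AtPrime q
  let alg := algebraMap Λ (Localization.AtPrime q)
  have hm : q.map alg = maximalIdeal (Localization.AtPrime q) :=
    Localization.AtPrime.map_eq_maximalIdeal
  -- a common denominator for `qⁿ ⊆ I`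
  obtain ⟨G, hG⟩ := IsNoetherian.noetherian (q ^ n)
  have hden : ∀ g : G, ∃ s : Λ, s ∉ q ∧ s * (g : Λ) ∈ I := fun g => by
    have h1 : alg (g : Λ) ∈ I.map alg := hpow (Ideal.mem_map_of_mem _ (hG ▸ Submodule.subset_span g.2))
    obtain ⟨s, hs, h2⟩ := (IsLocalization.algebraMap_mem_map_algebraMap_iff q.primeCompl _ _ _).1 h1
    exact ⟨s, hs, h2⟩
  choose s hs hsI using hden
  let S := ∏ g, s g
  have hS : S ∈ q.primeCompl := prod_mem fun g _ => hs g
  have hSI : ∀ z ∈ q ^ n, S * z ∈ I := by
    intro z hz
    rw [← hG] at hz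
    refine Submodule.span_induction (fun g hg => ?_) (by simp) (fun a b _ _ ha hb => ?_)
      (fun c a _ ha => ?_) hz
    · show S * g ∈ I
      simp only [S]
      rw [← Finset.mul_prod_erase Finset.univ s (Finset.mem_univ ⟨g, hg⟩)]
      rw [mul_comm (s ⟨g, hg⟩), mul_assoc]
      exact I.mul_mem_left _ (hsI ⟨g, hg⟩)
    · rw [mul_add]; exact I.add_mem ha hb
    · rw [smul_eq_mul, mul_left_comm]; exact I.mul_mem_left _ ha
  -- generators of the maximal ideal coming from `q`
  have hdim : (maximalIdeal (Localization.AtPrime q)).spanFinrank = d := by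
    have := IsRegularLocalRing.spanFinrank_maximalIdeal (R := Localization.AtPrime q)
    rw [hd] at this
    exact_mod_cast this
  obtain ⟨u, hu⟩ : ∃ u : Fin d → Localization.AtPrime q,
      Ideal.span (Set.range u) = maximalIdeal (Localization.AtPrime q) := by
    let gs := (maximalIdeal (Localization.AtPrime q)).generators
    have hfin : gs.Finite := Submodule.FG.finite_generators (Ideal.fg_of_isNoetherianRing _)
    have hcard : Fintype.card hfin.toFinset = d := by
      rw [Fintype.card_coe, ← Set.ncard_eq_toFinset_card _ hfin,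
        Submodule.FG.generators_ncard (Ideal.fg_of_isNoetherianRing _), hdim]
    let ε := (Fintype.equivFinOfCardEq hcard).symm
    refine ⟨fun i => (ε i : Localization.AtPrime q), ?_⟩
    rw [show (Set.range fun i => (ε i : Localization.AtPrime q)) = gs from ?_]
    · exact Submodule.span_generators _
    · ext z
      constructor
      · rintro ⟨i, rfl⟩; exact hfin.mem_toFinset.1 (ε i).2
      · intro hz
        exact ⟨ε.symm ⟨z, hfin.mem_toFinset.2 hz⟩, by simp⟩
  choose z hz using fun i => IsLocalization.surj q.primeCompl (u i)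
  have hzq : ∀ i, (z i).1 ∈ q := fun i => by
    rw [← IsLocalization.AtPrime.to_map_mem_maximal_iff (Localization.AtPrime q) q, ← hz i]
    exact Ideal.mul_mem_right _ _ (hu ▸ Ideal.subset_span ⟨i, rfl⟩)
  have hspan : ∀ w : Fin d → Λ, (∀ i, w i ∈ q.primeCompl) →
      Ideal.span (Set.range fun i => alg (w i * (z i).1)) = maximalIdeal (Localization.AtPrime q) := by
    intro w hw
    rw [← hu]
    refine le_antisymm (Ideal.span_le.2 ?_) (Ideal.span_le.2 ?_)
    · rintro _ ⟨i, rfl⟩
      show alg (w i * (z i).1) ∈ _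
      rw [map_mul]
      refine Ideal.mul_mem_left _ _ ?_
      rw [← hz i]
      exact Ideal.mul_mem_right _ _ (Ideal.subset_span ⟨i, rfl⟩)
    · rintro _ ⟨i, rfl⟩
      have h1 : IsUnit (alg ((z i).2 : Λ) * alg (w i)) :=
        (IsLocalization.map_units _ (z i).2).mul (IsLocalization.map_units _ (⟨w i, hw i⟩ : q.primeCompl))
      refine (Ideal.unit_mul_mem_iff_mem _ h1).1 ?_
      rw [show alg ((z i).2 : Λ) * alg (w i) * u i = alg (w i) * (u i * alg ((z i).2 : Λ)) by ring, hz i,
        ← map_mul]
      exact Ideal.subset_span ⟨i, rfl⟩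
  -- choose the multipliers one at a time
  have key : ∀ k : ℕ, k ≤ d → ∃ w : Fin d → Λ, (∀ i, w i ∈ q.primeCompl) ∧ ∀ i : Fin d, (i : ℕ) < k →
      ∀ y : Λ, (S * w i * (z i).1) ^ 2 * y ∈ Ideal.span (Set.range fun j : {j : Fin d // (j : ℕ) < (i : ℕ)} =>
          (S * w j * (z j).1) ^ e) →
        (S * w i * (z i).1) * y ∈ Ideal.span (Set.range fun j : {j : Fin d // (j : ℕ) < (i : ℕ)} =>
          (S * w j * (z j).1) ^ e) := by
    intro k
    induction k with
    | zero => exact fun _ => ⟨fun _ => 1, fun _ => one_mem _, fun i hi => absurd hi (Nat.not_lt_zero _)⟩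
    | succ k ih =>
      intro hk
      obtain ⟨w, hw, hwk⟩ := ih (by omega)
      let i₀ : Fin d := ⟨k, hk⟩
      let J := Ideal.span (Set.range fun j : {j : Fin d // (j : ℕ) < k} => (S * w j * (z j).1) ^ e)
      let x := S * w i₀ * (z i₀).1
      let v : Fin d → Localization.AtPrime q := fun j => alg (S * w j * (z j).1)
      have hv : Ideal.span (Set.range v) = maximalIdeal (Localization.AtPrime q) :=
        hspan (fun j => S * w j) fun j => mul_mem hS (hw j)
      have hJmap : J.map alg =
          Ideal.span ((fun j => v j ^ e) '' ((Finset.univ.filter fun j : Fin d => (j : ℕ) < k) : Set (Fin d))) ⊔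
            Ideal.span (v '' ((∅ : Finset (Fin d)) : Set (Fin d))) := by
        rw [Finset.coe_empty, Set.image_empty, Ideal.span_empty, sup_bot_eq]
        show (Ideal.span _).map alg = _
        rw [Ideal.map_span]
        congr 1
        ext t
        simp [v]
      have hnzd : ∀ y, x * y ∈ (J.map alg).comap alg → y ∈ (J.map alg).comap alg := by
        intro y hy
        rw [Ideal.mem_comap, hJmap] at hy ⊢
        rw [map_mul] at hy
        exact nzd_powers v hv hdim e _ ∅ i₀ (Finset.disjoint_empty_right _) (by simp [i₀]) (by simp) _ hy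
      -- the union of the annihilators of the powers of `x` modulo `J`
      obtain ⟨m, hm'⟩ := monotone_stabilizes_iff_noetherian.2 inferInstance
        ⟨fun a => Submodule.colon (J : Submodule Λ Λ) (Ideal.span {x ^ a}), fun a b hab y hy => by
          rw [Submodule.mem_colon] at hy ⊢
          intro t ht
          refine hy t ?_
          exact Ideal.span_singleton_le_span_singleton.2 (pow_dvd_pow x hab) ht⟩
      obtain ⟨K, hK⟩ := IsNoetherian.noetherian (Submodule.colon (J : Submodule Λ Λ) (Ideal.span {x ^ m}))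
      have hcol : ∀ (a y : Λ), y ∈ Submodule.colon (J : Submodule Λ Λ) (Ideal.span {a}) ↔ y * a ∈ J := by
        intro a y
        rw [Submodule.mem_colon]
        constructor
        · intro h; simpa using h a (Ideal.mem_span_singleton_self a)
        · intro h t ht
          obtain ⟨c, rfl⟩ := Ideal.mem_span_singleton'.1 ht
          rw [smul_eq_mul, mul_left_comm]
          exact J.mul_mem_left _ h
      have hgen : ∀ g : K, ∃ c : Λ, c ∉ q ∧ c * (g : Λ) ∈ J := fun g => by
        have h1 : (g : Λ) * x ^ m ∈ J := (hcol _ _).1 (hK ▸ Submodule.subset_span g.2)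
        have h2 : ∀ (a : ℕ) (y : Λ), x ^ a * y ∈ (J.map alg).comap alg → y ∈ (J.map alg).comap alg := by
          intro a
          induction a with
          | zero => intro y hy; simpa using hy
          | succ a iha => intro y hy; exact hnzd y (iha _ (by rw [← mul_assoc, ← pow_succ]; exact hy))
        have h3 := h2 m g (Ideal.mem_map_of_mem alg (by rw [mul_comm]; exact h1))
        obtain ⟨c, hc, h4⟩ := (IsLocalization.algebraMap_mem_map_algebraMap_iff q.primeCompl _ _ _).1 h3
        exact ⟨c, hc, h4⟩
      choose c hc hcJ using hgen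
      let t := ∏ g, c g
      have ht : t ∈ q.primeCompl := prod_mem fun g _ => hc g
      have htK : ∀ a y, x ^ a * y ∈ J → t * y ∈ J := by
        intro a y hy
        have h1 : y ∈ Submodule.colon (J : Submodule Λ Λ) (Ideal.span {x ^ m}) := by
          rcases le_total a m with h | h
          · rw [hcol, show y * x ^ m = x ^ (m - a) * (x ^ a * y) by
              rw [← mul_assoc, ← pow_add, Nat.sub_add_cancel h, mul_comm]]
            exact J.mul_mem_left _ hy
          · have h5 : y ∈ Submodule.colon (J : Submodule Λ Λ) (Ideal.span {x ^ a}) :=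
              (hcol _ _).2 (by rw [mul_comm]; exact hy)
            exact (SetLike.ext_iff.1 (hm' a h) y).2 h5
        rw [← hK] at h1
        refine Submodule.span_induction (fun g hg => ?_) (by simp) (fun p p' _ _ hp hp' => ?_)
          (fun r p _ hp => ?_) h1
        · show t * g ∈ J
          simp only [t]
          rw [← Finset.mul_prod_erase Finset.univ c (Finset.mem_univ ⟨g, hg⟩), mul_comm (c ⟨g, hg⟩),
            mul_assoc]
          exact J.mul_mem_left _ (hcJ ⟨g, hg⟩)
        · rw [mul_add]; exact J.add_mem hp hp'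
        · rw [smul_eq_mul, mul_left_comm]; exact J.mul_mem_left _ hp
      obtain ⟨m₂, hm₂⟩ := monotone_stabilizes_iff_noetherian.2 inferInstance
        ⟨fun a => Submodule.colon (J : Submodule Λ Λ) (Ideal.span {t ^ a}), fun a b hab y hy => by
          rw [Submodule.mem_colon] at hy ⊢
          intro s' hs'
          refine hy s' ?_
          exact Ideal.span_singleton_le_span_singleton.2 (pow_dvd_pow t hab) hs'⟩
      refine ⟨Function.update w i₀ (w i₀ * t ^ m₂), fun i => ?_, fun i hi y hy => ?_⟩
      · rcases eq_or_ne i i₀ with rfl | h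
        · rw [Function.update_self]; exact mul_mem (hw _) (pow_mem ht _)
        · rw [Function.update_of_ne h]; exact hw i
      · have hprev : ∀ j : {j : Fin d // (j : ℕ) < (i : ℕ)},
            Function.update w i₀ (w i₀ * t ^ m₂) j = w j := fun j => by
          refine Function.update_of_ne (fun h => ?_) _ _
          have h1 := j.2
          rw [h] at h1
          simp [i₀] at h1
          omega
        simp only [hprev] at hy ⊢
        rcases eq_or_ne i i₀ with rfl | h
        · rw [Function.update_self] at hy ⊢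
          have h1 : x ^ 2 * (t ^ (2 * m₂) * y) ∈ J := by
            convert hy using 1
            simp only [x]
            ring
          have h2 : t ^ (2 * m₂ + 1) * y ∈ J := by
            rw [pow_succ', mul_assoc]; exact htK 2 _ h1
          have h3 : y ∈ Submodule.colon (J : Submodule Λ Λ) (Ideal.span {t ^ (2 * m₂ + 1)}) :=
            (hcol _ _).2 (by rw [mul_comm]; exact h2)
          have h4 : y ∈ Submodule.colon (J : Submodule Λ Λ) (Ideal.span {t ^ m₂}) :=
            (SetLike.ext_iff.1 (hm₂ (2 * m₂ + 1) (by omega)) y).2 h3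
          rw [hcol] at h4
          show S * (w i₀ * t ^ m₂) * (z i₀).1 * y ∈ J
          rw [show S * (w i₀ * t ^ m₂) * (z i₀).1 * y = x * (y * t ^ m₂) by simp only [x]; ring]
          exact J.mul_mem_left _ h4
        · rw [Function.update_of_ne h] at hy ⊢
          refine hwk i ?_ y hy
          rcases Nat.lt_succ_iff_lt_or_eq.1 hi with h' | h'
          · exact h'
          · exact absurd (Fin.ext h') h
  obtain ⟨w, hw, hwd⟩ := key d le_rfl
  refine ⟨fun i => S * w i * (z i).1, ?_, fun i => ?_, fun i y hy => ?_⟩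
  · rw [hm]
    exact hspan (fun i => S * w i) fun i => mul_mem hS (hw i)
  · obtain ⟨n', rfl⟩ := Nat.exists_eq_succ_of_ne_zero hn.ne'
    rw [show (S * w i * (z i).1) ^ n'.succ = S ^ n' * w i ^ n'.succ * (S * (z i).1 ^ n'.succ) by
      simp only [Nat.succ_eq_add_one, pow_succ]; ring]
    exact I.mul_mem_left _ (hSI _ (Ideal.pow_mem_pow (hzq i) _))
  · obtain ⟨y, rfl⟩ := Ideal.Quotient.mk_surjective y
    rw [← map_pow, ← map_mul, Ideal.Quotient.eq_zero_iff_mem] at hy
    rw [← map_mul, Ideal.Quotient.eq_zero_iff_mem]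
    exact hwd i i.2 y hy

end Groth.Agent.Lib.Smoothing.Parameters
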