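import Groth.Agent.Lib.Smoothing.SingularComp
import Mathlib.RingTheory.Localization.AtPrime.Basic
import Mathlib.RingTheory.FinitePresentation

/-!
# Gluing a local resolution at a prime of height zero
-/

universe u

open MvPolynomial

namespace Groth.Agent.Lib.Smoothing.ResolveDimZero

/-- If a surjection's kernel is killed near `Q`, smoothness at `Q` can be checked on the target. -/
theorem isSmoothAt_of_killed {R P B : Type u} [CommRing R] [CommRing P] [CommRing B] [Algebra R P]
    [Algebra R B] (θ : P →ₐ[R] B) (hθ : Function.Surjective θ) (Q : Ideal B) [Q.IsPrime] (e : P)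
    (he : θ e ∉ Q) (hker : ∀ x, θ x = 0 → e * x = 0) (h : Algebra.IsSmoothAt R Q) :
    Algebra.IsSmoothAt R (Q.comap θ) := by
  let Q' : Ideal P := Q.comap θ
  let BQ := Localization.AtPrime Q
  let _ : Algebra P B := θ.toRingHom.toAlgebra
  have : IsScalarTower R P B := IsScalarTower.of_algebraMap_eq fun r => (θ.commutes r).symm
  have : IsLocalization Q'.primeCompl BQ := by
    refine ⟨⟨fun s => IsLocalization.map_units BQ (⟨θ s, s.2⟩ : Q.primeCompl), fun z => ?_,
      fun {x y} hxy => ?_⟩⟩
    · obtain ⟨⟨b, t⟩, hbt⟩ := IsLocalization.surj Q.primeCompl z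
      obtain ⟨x, rfl⟩ := hθ b
      obtain ⟨t, ht⟩ := t
      obtain ⟨s, rfl⟩ := hθ t
      exact ⟨⟨x, ⟨s, ht⟩⟩, hbt⟩
    · obtain ⟨⟨c, hc⟩, hcxy⟩ := (IsLocalization.eq_iff_exists Q.primeCompl BQ).1 hxy
      obtain ⟨s, rfl⟩ := hθ c
      have hkz : e * (s * (x - y)) = 0 := hker _ (by
        rw [map_mul, map_sub, mul_sub]
        exact sub_eq_zero.2 hcxy)
      exact ⟨⟨e * s, fun h' => ((inferInstance : Q.IsPrime).mem_or_mem
        (show θ e * θ s ∈ Q by rw [← map_mul]; exact h')).elim he hc⟩, by
        show e * s * x = e * s * y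
        linear_combination hkz⟩
  have : Algebra.FormallySmooth R BQ := h
  exact Algebra.FormallySmooth.of_equiv
    ((IsLocalization.algEquiv Q'.primeCompl BQ (Localization.AtPrime Q')).restrictScalars R)

theorem isSmoothAt_of_smooth {D B : Type u} [CommRing D] [CommRing B] [Algebra D B]
    [Algebra.Smooth D B] (Q : Ideal B) [Q.IsPrime] : Algebra.IsSmoothAt D Q := by
  have hmem : (⟨Q, inferInstance⟩ : PrimeSpectrum B) ∈ Algebra.smoothLocus D B := by
    rw [Algebra.smoothLocus_eq_univ]; trivial
  exact hmem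

variable {R A C Λ : Type u} [CommRing R] [CommRing A] [Algebra R A] [CommRing C] [Algebra R C]
  [CommRing Λ] [Algebra R Λ] [IsNoetherianRing R] [Algebra.FinitePresentation R A]
  [Algebra.FinitePresentation R C]

theorem exists_glue (φ : A →ₐ[R] Λ) (α : A →ₐ[R] C) (β : C →ₐ[R] Λ) (hαβ : β.comp α = φ)
    (q : Ideal Λ) [q.IsPrime] (hC : ¬ (_root_.Smoothing.singularIdeal R C).map β ≤ q)
    (hnil : ∀ a ∈ _root_.Smoothing.singularIdeal R A, ∃ (N : ℕ) (s : Λ), s ∉ q ∧ s * φ a ^ N = 0) :
    _root_.Smoothing.Resolvable R φ q := by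
  classical
  let _ : Algebra A C := α.toRingHom.toAlgebra
  have : IsScalarTower R A C := IsScalarTower.of_algebraMap_eq fun r => (α.commutes r).symm
  have : Algebra.FinitePresentation A C :=
    Algebra.FinitePresentation.of_restrict_scalars_finitePresentation R A C
  have : IsNoetherianRing A := Algebra.FiniteType.isNoetherianRing R A
  let _ : Algebra A Λ := φ.toRingHom.toAlgebra
  have : IsScalarTower R A Λ := IsScalarTower.of_algebraMap_eq fun r => (φ.commutes r).symm
  obtain ⟨n, φC, hφC, hfg⟩ := Algebra.FinitePresentation.out (R := A) (A := C)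
  obtain ⟨m, f, hf⟩ := Submodule.fg_iff_exists_fin_generating_family.1 hfg
  obtain ⟨r, a, ha⟩ := Submodule.fg_iff_exists_fin_generating_family.1
    (IsNoetherian.noetherian (_root_.Smoothing.singularIdeal R A))
  choose N s hs hsN using fun i => hnil (a i) (ha ▸ Submodule.subset_span ⟨i, rfl⟩)
  let S := ∏ i, s i
  have hS : S ∈ q.primeCompl := prod_mem fun i _ => hs i
  have hSa : ∀ i, S * φ (a i) ^ (N i + 1) = 0 := fun i => by
    simp only [S]
    rw [← Finset.mul_prod_erase Finset.univ s (Finset.mem_univ i), pow_succ]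
    linear_combination (∏ j ∈ Finset.univ.erase i, s j) * φ (a i) * hsN i
  let ix : Fin n → Fin n ⊕ (Unit ⊕ Fin r) := Sum.inl
  let iy : Fin n ⊕ (Unit ⊕ Fin r) := Sum.inr (Sum.inl ())
  let iw : Fin r → Fin n ⊕ (Unit ⊕ Fin r) := fun i => Sum.inr (Sum.inr i)
  let rel : Fin m ⊕ Fin r → MvPolynomial (Fin n ⊕ (Unit ⊕ Fin r)) A :=
    Sum.elim (fun j => X iy * rename ix (f j)) fun i => X iy * X (iw i)
  let I := Ideal.span (Set.range rel)
  let B := MvPolynomial (Fin n ⊕ (Unit ⊕ Fin r)) A ⧸ I
  have : Algebra.FinitePresentation A B :=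
    Algebra.FinitePresentation.quotient (Submodule.fg_span (Set.finite_range rel))
  have : Algebra.FinitePresentation R B := Algebra.FinitePresentation.trans R A B
  let bm : MvPolynomial (Fin n ⊕ (Unit ⊕ Fin r)) A →ₐ[A] B := Ideal.Quotient.mkₐ A I
  have hrel : ∀ i, bm (rel i) = 0 := fun i =>
    Ideal.Quotient.eq_zero_iff_mem.2 (Ideal.subset_span ⟨i, rfl⟩)
  have hdesc : ∀ {T : Type u} [CommRing T] [Algebra A T] (v : Fin n ⊕ (Unit ⊕ Fin r) → T),
      (∀ j, v iy * aeval (fun i => v (ix i)) (f j) = 0) → (∀ i, v iy * v (iw i) = 0) →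
      ∀ Q ∈ I, aeval v Q = 0 := by
    intro T _ _ v h1 h2 Q hQ
    refine (Ideal.span_le (I := RingHom.ker (aeval (R := A) v))).2 ?_ hQ
    rintro _ ⟨j | i, rfl⟩
    · simpa [rel, aeval_rename, Function.comp_def] using h1 j
    · simpa [rel] using h2 i
  let βA : C →ₐ[A] Λ := { β.toRingHom with commutes' := fun z => DFunLike.congr_fun hαβ z }
  let xs : Fin n → C := fun i => φC (X i)
  have hxs : ∀ Q, aeval xs Q = φC Q := fun Q => (DFunLike.congr_fun (aeval_unique φC) Q).symm
  have hfC : ∀ j, φC (f j) = 0 := fun j =>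
    (hf.le (Ideal.subset_span ⟨j, rfl⟩) : f j ∈ RingHom.ker φC.toRingHom)
  let vΛ : Fin n ⊕ (Unit ⊕ Fin r) → Λ :=
    Sum.elim (fun i => βA (xs i)) (Sum.elim (fun _ => S) fun i => φ (a i) ^ (N i + 1))
  let h : B →ₐ[A] Λ := Ideal.Quotient.liftₐ I (aeval vΛ) (hdesc vΛ (fun j => by
    show S * aeval (fun i => βA (xs i)) (f j) = 0
    rw [← comp_aeval_apply, hxs, hfC, map_zero, mul_zero]) hSa)
  have hdisj : ∀ (Q : Ideal Λ) [Q.IsPrime],
      (_root_.Smoothing.singularIdeal R B).map (h.restrictScalars R) ≤ Q →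
        ¬ Algebra.IsSmoothAt R (Q.comap h) := by
    intro Q _ hQ hsm
    obtain ⟨z, hz, hz'⟩ := Algebra.IsSmoothAt.exists_notMem_smooth R (Q.comap h)
    refine hz (hQ (Ideal.mem_map_of_mem (h.restrictScalars R)
      (SingularComp.mem_singularIdeal_iff.2 fun P _ hP => ?_)))
    exact Algebra.basicOpen_subset_smoothLocus_iff_smooth.2 hz'
      (show (⟨P, ‹_›⟩ : PrimeSpectrum B) ∈ PrimeSpectrum.basicOpen z from hP)
  refine ⟨B, inferInstance, inferInstance, inferInstance, IsScalarTower.toAlgHom R A B,
    h.restrictScalars R, AlgHom.ext fun z => h.commutes z, ?_, fun hle => ?_⟩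
  · -- where some `φ (a i)` is invertible
    refine Ideal.radical_le_radical_iff.2 ?_
    rw [Ideal.map_le_iff_le_comap, ← ha, Submodule.span_le]
    rintro _ ⟨i, rfl⟩
    rw [SetLike.mem_coe, Ideal.mem_comap, Ideal.radical_eq_sInf, Submodule.mem_sInf]
    rintro Q ⟨hQ, hQp⟩
    by_contra hai
    refine hdisj Q hQ ?_
    let D := MvPolynomial (Fin n ⊕ Fin r) A
    let vD : Fin n ⊕ (Unit ⊕ Fin r) → D :=
      Sum.elim (fun k => X (Sum.inl k)) (Sum.elim (fun _ => 0) fun k => X (Sum.inr k))
    let θ : B →ₐ[A] D := Ideal.Quotient.liftₐ I (aeval vD)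
      (hdesc vD (fun j => zero_mul _) (fun k => zero_mul _))
    let wi : B := bm (X (iw i))
    let Nw : Ideal B := LinearMap.ker (LinearMap.mulLeft B wi)
    let ξ : D →ₐ[A] B ⧸ Nw := (Ideal.Quotient.mkₐ A Nw).comp
      (aeval (Sum.elim (fun k => bm (X (ix k))) fun k => bm (X (iw k))))
    have hθξ : ∀ z, ξ (θ z) = Ideal.Quotient.mk Nw z := by
      intro z
      suffices ξ.comp θ = Ideal.Quotient.mkₐ A Nw from DFunLike.congr_fun this z
      apply Ideal.Quotient.algHom_ext
      apply MvPolynomial.algHom_ext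
      rintro (k | k | k)
      · show ξ (θ (bm (X (ix k)))) = _
        rw [show θ (bm (X (ix k))) = X (Sum.inl k) from aeval_X vD _]
        exact congrArg (Ideal.Quotient.mk Nw) (aeval_X _ _)
      · show ξ (θ (bm (X iy))) = Ideal.Quotient.mk Nw (bm (X iy))
        rw [show θ (bm (X iy)) = 0 from aeval_X vD _, map_zero, eq_comm, Ideal.Quotient.eq_zero_iff_mem]
        show bm (X (iw i)) * bm (X iy) = 0
        rw [mul_comm, ← map_mul]
        exact hrel (.inr i)
      · show ξ (θ (bm (X (iw k)))) = _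
        rw [show θ (bm (X (iw k))) = X (Sum.inr k) from aeval_X vD _]
        exact congrArg (Ideal.Quotient.mk Nw) (aeval_X _ _)
    have hker : ∀ z, θ z = 0 → wi * z = 0 := fun z hz => by
      have h1 := hθξ z
      rw [hz, map_zero, eq_comm, Ideal.Quotient.eq_zero_iff_mem] at h1
      exact h1
    have hθ : Function.Surjective θ := fun z => by
      refine ⟨aeval (Sum.elim (fun k => bm (X (ix k))) fun k => bm (X (iw k))) z, ?_⟩
      suffices θ.comp (aeval (Sum.elim (fun k => bm (X (ix k))) fun k => bm (X (iw k)))) = AlgHom.id A D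
        from DFunLike.congr_fun this z
      apply MvPolynomial.algHom_ext
      rintro (k | k)
      · rw [AlgHom.comp_apply, aeval_X]; exact aeval_X vD _
      · rw [AlgHom.comp_apply, aeval_X]; exact aeval_X vD _
    let QB : Ideal B := Ideal.comap h Q
    have hwi : wi ∉ QB := fun hw => hai (by
      have h1 : h wi ∈ Q := hw
      rw [show h wi = φ (a i) ^ (N i + 1) from aeval_X vΛ _] at h1
      exact hQp.mem_of_pow_mem _ h1)
    have hle : RingHom.ker θ ≤ QB := fun z hz =>
      ((inferInstance : QB.IsPrime).mem_or_mem (show wi * z ∈ QB by rw [hker z hz]; exact QB.zero_mem)).resolve_left hwi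
    let QD : Ideal D := QB.map θ
    have hQD : QD.IsPrime := Ideal.map_isPrime_of_surjective hθ hle
    have hcomap : QD.comap θ = QB :=
      (Ideal.comap_map_of_surjective' _ hθ QB).trans (sup_eq_left.2 hle)
    have hsm : Algebra.IsSmoothAt R QD := by
      have : Algebra.Smooth A D := ⟨inferInstance, inferInstance⟩
      refine SingularComp.isSmoothAt_comp (D := A) QD ?_ (isSmoothAt_of_smooth QD)
      refine SingularComp.mem_singularIdeal_iff.1 (ha ▸ Submodule.subset_span ⟨i, rfl⟩ :
        a i ∈ _root_.Smoothing.singularIdeal R A) _ fun h1 => hai ?_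
      have h3 : θ (algebraMap A B (a i)) ∈ QD := by rw [AlgHom.commutes]; exact h1
      have h4 : algebraMap A B (a i) ∈ QB := hcomap.le h3
      have h5 : h (algebraMap A B (a i)) ∈ Q := h4
      rw [AlgHom.commutes] at h5
      exact h5
    have key := isSmoothAt_of_killed (θ.restrictScalars R) hθ QD wi
      (fun h1 => hwi (hcomap.le h1)) hker hsm
    simp only [show QD.comap (θ.restrictScalars R) = QB from hcomap] at key
    exact key
  · -- near `q`
    refine hdisj q (Ideal.le_radical.trans hle) ?_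
    let D := Polynomial C
    let _ : Algebra A D := inferInstance
    let vD : Fin n ⊕ (Unit ⊕ Fin r) → D :=
      Sum.elim (fun k => Polynomial.C (xs k)) (Sum.elim (fun _ => Polynomial.X) fun _ => 0)
    have hvD : ∀ Q, aeval (fun k => Polynomial.C (xs k) : Fin n → D) Q = Polynomial.C (φC Q) := fun Q => by
      have h1 := comp_aeval_apply (f := xs) (IsScalarTower.toAlgHom A C D) Q
      rw [hxs] at h1
      exact h1.symm
    let θ : B →ₐ[A] D := Ideal.Quotient.liftₐ I (aeval vD) (hdesc vD (fun j => by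
      show _ * aeval (fun k => Polynomial.C (xs k)) (f j) = 0
      rw [hvD, hfC, map_zero, mul_zero]) (fun k => mul_zero _))
    let yb : B := bm (X iy)
    let Ny : Ideal B := LinearMap.ker (LinearMap.mulLeft B yb)
    let x₀ : MvPolynomial (Fin n) A →ₐ[A] B ⧸ Ny :=
      (Ideal.Quotient.mkₐ A Ny).comp (aeval fun k => bm (X (ix k)))
    have hx₀ : ∀ Q ∈ RingHom.ker φC, x₀ Q = 0 := fun Q hQ => by
      refine (Ideal.span_le (I := RingHom.ker x₀)).2 ?_ (hf.ge hQ)
      rintro _ ⟨j, rfl⟩
      show Ideal.Quotient.mk Ny (aeval (fun k => bm (X (ix k))) (f j)) = 0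
      rw [Ideal.Quotient.eq_zero_iff_mem]
      show yb * _ = 0
      have h1 : aeval (fun k => bm (X (ix k))) (f j) = bm (rename ix (f j)) := by
        suffices aeval (fun k => bm (X (ix k))) = bm.comp (rename ix) from DFunLike.congr_fun this _
        apply MvPolynomial.algHom_ext
        intro k
        simp
      rw [h1, ← map_mul]
      exact hrel (.inl j)
    let ξ₀ : C →ₐ[A] B ⧸ Ny := (Ideal.Quotient.liftₐ (RingHom.ker φC) x₀ hx₀).comp
      (Ideal.quotientKerAlgEquivOfSurjective hφC).symm.toAlgHom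
    have hξ₀ : ∀ Q, ξ₀ (φC Q) = x₀ Q := fun Q => by
      show Ideal.Quotient.liftₐ (RingHom.ker φC) x₀ hx₀
        ((Ideal.quotientKerAlgEquivOfSurjective hφC).symm (φC Q)) = _
      rw [show (Ideal.quotientKerAlgEquivOfSurjective hφC).symm (φC Q) =
        Ideal.Quotient.mk _ Q from (AlgEquiv.symm_apply_eq _).2 rfl]
      rfl
    let ξ : D →+* B ⧸ Ny := Polynomial.eval₂RingHom ξ₀.toRingHom (Ideal.Quotient.mk Ny yb)
    have hθξ : ∀ z, ξ (θ z) = Ideal.Quotient.mk Ny z := by
      intro z
      suffices ξ.comp θ.toRingHom = Ideal.Quotient.mk Ny from RingHom.congr_fun this z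
      apply Ideal.Quotient.ringHom_ext
      apply MvPolynomial.ringHom_ext
      · intro t
        show ξ (θ (algebraMap A B t)) = Ideal.Quotient.mk Ny (algebraMap A B t)
        rw [AlgHom.commutes, IsScalarTower.algebraMap_apply A C D]
        exact (Polynomial.eval₂_C _ _).trans (ξ₀.commutes t)
      · rintro (k | k | k)
        · show ξ (θ (bm (X (ix k)))) = _
          rw [show θ (bm (X (ix k))) = Polynomial.C (xs k) from aeval_X vD _]
          exact (Polynomial.eval₂_C _ _).trans ((hξ₀ _).trans (congrArg (Ideal.Quotient.mk Ny) (aeval_X _ _)))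
        · show ξ (θ (bm (X iy))) = _
          rw [show θ (bm (X iy)) = Polynomial.X from aeval_X vD _]
          exact Polynomial.eval₂_X _ _
        · show ξ (θ (bm (X (iw k)))) = Ideal.Quotient.mk Ny (bm (X (iw k)))
          rw [show θ (bm (X (iw k))) = 0 from aeval_X vD _, map_zero, eq_comm,
            Ideal.Quotient.eq_zero_iff_mem]
          show bm (X iy) * bm (X (iw k)) = 0
          rw [← map_mul]
          exact hrel (.inr k)
    have hker : ∀ z, θ z = 0 → yb * z = 0 := fun z hz => by
      have h1 := hθξ z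
      rw [hz, map_zero, eq_comm, Ideal.Quotient.eq_zero_iff_mem] at h1
      exact h1
    have hθ : Function.Surjective θ := fun z => by
      induction z using Polynomial.induction_on' with
      | add p p' hp hp' =>
        obtain ⟨u, rfl⟩ := hp; obtain ⟨v, rfl⟩ := hp'
        exact ⟨u + v, map_add _ _ _⟩
      | monomial k c =>
        obtain ⟨Q, rfl⟩ := hφC c
        refine ⟨aeval (fun l => bm (X (ix l))) Q * yb ^ k, ?_⟩
        rw [map_mul, map_pow, comp_aeval_apply, show θ yb = Polynomial.X from aeval_X vD _]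
        simp only [show ∀ l, θ (bm (X (ix l))) = Polynomial.C (xs l) from fun l => aeval_X vD _]
        rw [hvD, Polynomial.C_mul_X_pow_eq_monomial]
    let QB : Ideal B := q.comap h
    have hyb : yb ∉ QB := fun hy => by
      have h1 : h yb ∈ q := hy
      rw [show h yb = S from aeval_X vΛ _] at h1
      exact hS h1
    have hle' : RingHom.ker θ ≤ QB := fun z hz =>
      ((inferInstance : QB.IsPrime).mem_or_mem (show yb * z ∈ QB by rw [hker z hz]; exact QB.zero_mem)).resolve_left hyb
    let QD : Ideal D := QB.map θ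
    have hQD : QD.IsPrime := Ideal.map_isPrime_of_surjective hθ hle'
    have hcomap : QD.comap θ = QB :=
      (Ideal.comap_map_of_surjective' _ hθ QB).trans (sup_eq_left.2 hle')
    have hsm : Algebra.IsSmoothAt R QD := by
      have : Algebra.Smooth C D := ⟨inferInstance, inferInstance⟩
      refine SingularComp.isSmoothAt_comp (D := C) QD ?_ (isSmoothAt_of_smooth QD)
      have hp : QD.comap (algebraMap C D) = q.comap β := by
        ext c
        obtain ⟨Q, rfl⟩ := hφC c
        have h1 : θ (aeval (fun l => bm (X (ix l))) Q) = algebraMap C D (φC Q) := by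
          rw [comp_aeval_apply]
          simp only [show ∀ l, θ (bm (X (ix l))) = Polynomial.C (xs l) from fun l => aeval_X vD _]
          exact hvD Q
        rw [Ideal.mem_comap, ← h1, ← Ideal.mem_comap, hcomap]
        show h (aeval (fun l => bm (X (ix l))) Q) ∈ q ↔ β (φC Q) ∈ q
        rw [comp_aeval_apply]
        simp only [show ∀ l, h (bm (X (ix l))) = βA (xs l) from fun l => aeval_X vΛ _]
        rw [← comp_aeval_apply, hxs]
        rfl
      simp only [hp]
      by_contra hns
      refine hC (Ideal.map_le_iff_le_comap.2 fun c hc => ?_)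
      by_contra hcq
      exact hns (SingularComp.mem_singularIdeal_iff.1 hc _ hcq)
    have key := isSmoothAt_of_killed (θ.restrictScalars R) hθ QD yb
      (fun h1 => hyb (hcomap.le h1)) hker hsm
    simp only [show QD.comap (θ.restrictScalars R) = QB from hcomap] at key
    exact key

end Groth.Agent.Lib.Smoothing.ResolveDimZero
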