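import Groth.Agent.Lib.Smoothing.DesingularizeIter

/-!
# Resolving from a resolution modulo eighth powers
-/

universe u

namespace Groth.Agent.Lib.Smoothing.ResolveMod

/-- A resolution modulo the eighth powers of strictly standard elements gives a resolution. -/
theorem resolvable_of_mod {R A Λ : Type u} [CommRing R] [IsNoetherianRing R]
    [CommRing A] [Algebra R A] [Algebra.FinitePresentation R A] [CommRing Λ] [Algebra R Λ]
    (φ : A →ₐ[R] Λ) (𝔮 : Ideal Λ) [𝔮.IsPrime] {r : ℕ} (π : Fin r → R)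
    (hR : ∀ i : Fin r, ∀ x : R ⧸ Ideal.span (Set.range fun j : {j : Fin r // (j : ℕ) < (i : ℕ)} => π j ^ 8),
      Ideal.Quotient.mk _ (π i) ^ 2 * x = 0 → Ideal.Quotient.mk _ (π i) * x = 0)
    (hΛ : ∀ i : Fin r, ∀ x : Λ ⧸ Ideal.span (Set.range fun j : {j : Fin r // (j : ℕ) < (i : ℕ)} =>
        algebraMap R Λ (π j) ^ 8),
      Ideal.Quotient.mk _ (algebraMap R Λ (π i)) ^ 2 * x = 0 → Ideal.Quotient.mk _ (algebraMap R Λ (π i)) * x = 0)
    (hstd : ∀ i, _root_.Smoothing.IsStrictlyStandard R A (algebraMap R A (π i)))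
    (K : Ideal R) (hK : K = Ideal.span (Set.range fun i => π i ^ 8))
    (φK : (A ⧸ K.map (algebraMap R A)) →ₐ[R ⧸ K] (Λ ⧸ K.map (algebraMap R Λ)))
    (hφK : ∀ a : A, φK (Ideal.Quotient.mk _ a) = Ideal.Quotient.mk _ (φ a))
    (hres : _root_.Smoothing.Resolvable (R ⧸ K) φK (𝔮.map (Ideal.Quotient.mk (K.map (algebraMap R Λ))))) :
    _root_.Smoothing.Resolvable R φ 𝔮 := by
    classical
  obtain ⟨B₀, _, _, hB₀, g₀, h₀, hgh, hle, hnle⟩ := hres
  subst hK
  let K : Ideal R := Ideal.span (Set.range fun i => π i ^ 8)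
  have hKeq : K.map (algebraMap R Λ) = Ideal.span (Set.range fun i => algebraMap R Λ (π i) ^ 8) := by
    rw [Ideal.map_span, ← Set.range_comp]
    simp [Function.comp_def]
  let _ : Algebra R B₀ := ((algebraMap (R ⧸ K) B₀).comp (Ideal.Quotient.mk K)).toAlgebra
  have : IsScalarTower R (R ⧸ K) B₀ := IsScalarTower.of_algebraMap_eq' rfl
  obtain ⟨B, _, _, hB, α, β, hαβ, hπB, hsing⟩ := DesingularizeIter.exists_iterated r (R := R)
    (R' := R ⧸ K) (Λ := Λ) (C := B₀) π Ideal.Quotient.mk_surjective Ideal.mk_ker hR hΛ φ hstd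
    ((g₀.restrictScalars R).comp (Ideal.Quotient.mkₐ R _))
    ((Ideal.quotientEquivAlgOfEq R hKeq).toAlgHom.comp (h₀.restrictScalars R)) (fun a => by
      show Ideal.quotientEquivAlgOfEq R hKeq (h₀ (g₀ (Ideal.Quotient.mk _ a))) = _
      rw [show h₀ (g₀ (Ideal.Quotient.mk _ a)) = φK (Ideal.Quotient.mk _ a) from
        DFunLike.congr_fun hgh _, hφK]
      exact Ideal.quotientEquivAlgOfEq_mk R hKeq (φ a))
  set rad := _root_.Smoothing.singRad R β with hrad
  have hKrad : K.map (algebraMap R Λ) ≤ rad := by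
    rw [hKeq, Ideal.span_le]
    rintro _ ⟨i, rfl⟩
    exact Ideal.pow_mem_of_mem _ (hπB i) 8 (by norm_num)
  have hpre : ∀ l : Λ, Ideal.Quotient.mk (K.map (algebraMap R Λ)) l ∈
      rad.map (Ideal.Quotient.mk (K.map (algebraMap R Λ))) → l ∈ rad := by
    intro l hl
    rw [← Ideal.mem_comap, Ideal.comap_map_of_surjective' _ Ideal.Quotient.mk_surjective, Ideal.mk_ker,
      sup_eq_left.2 hKrad] at hl
    exact hl
  have hsingle : ∀ b ∈ _root_.Smoothing.singularIdeal (R ⧸ K) B₀, ∀ l,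
      Ideal.Quotient.mk (K.map (algebraMap R Λ)) l = h₀ b → l ∈ rad := by
    intro b hb l hl
    have h1 : Ideal.Quotient.mk _ l ∈ rad.map
        (Ideal.Quotient.mk (Ideal.span (Set.range fun i => algebraMap R Λ (π i) ^ 8))) := by
      rw [← Ideal.quotientEquivAlgOfEq_mk R hKeq l, hl]
      exact hsing (Ideal.mem_map_of_mem _ hb)
    rw [← Ideal.mem_comap, Ideal.comap_map_of_surjective' _ Ideal.Quotient.mk_surjective, Ideal.mk_ker,
      ← hKeq, sup_eq_left.2 hKrad] at h1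
    exact h1
  have hrad₀ : _root_.Smoothing.singRad (R ⧸ K) h₀ ≤ rad.map (Ideal.Quotient.mk (K.map (algebraMap R Λ))) := by
    have h1 : (_root_.Smoothing.singularIdeal (R ⧸ K) B₀).map h₀ ≤
        rad.map (Ideal.Quotient.mk (K.map (algebraMap R Λ))) := by
      rw [Ideal.map_le_iff_le_comap]
      intro b hb
      obtain ⟨l, hl⟩ := Ideal.Quotient.mk_surjective (h₀ b)
      rw [Ideal.mem_comap, ← hl]
      exact Ideal.mem_map_of_mem _ (hsingle b hb l hl)
    intro x hx
    obtain ⟨k, hk⟩ := hx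
    obtain ⟨l, rfl⟩ := Ideal.Quotient.mk_surjective x
    rw [← map_pow] at hk
    refine Ideal.mem_map_of_mem _ ?_
    obtain ⟨k', hk'⟩ := hpre _ (h1 hk)
    exact ⟨k * k', by rwa [pow_mul]⟩
  refine ⟨B, inferInstance, inferInstance, hB, α, β, hαβ, ?_, fun hc => hnle (hrad₀.trans
    (Ideal.map_mono hc))⟩
  refine Ideal.radical_le_radical_iff.2 ?_
  rw [Ideal.map_le_iff_le_comap]
  intro a ha
  have : Algebra.FinitePresentation (R ⧸ K) (A ⧸ K.map (algebraMap R A)) := by
    have : Algebra.FinitePresentation R (A ⧸ K.map (algebraMap R A)) :=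
      Algebra.FinitePresentation.quotient (Ideal.FG.map (IsNoetherian.noetherian K) _)
    exact Algebra.FinitePresentation.of_restrict_scalars_finitePresentation R (R ⧸ K) _
  have h1 := hle (Ideal.le_radical (Ideal.mem_map_of_mem φK
    (DesingularizeIter.singularIdeal_quotient K ha)))
  rw [hφK] at h1
  exact hpre _ (hrad₀ h1)


end Groth.Agent.Lib.Smoothing.ResolveMod
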