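import Groth.Agent.Lib.Smoothing.StrictRetract
import Groth.Agent.Lib.Smoothing.Linearize
import Groth.Agent.Lib.Smoothing.ResolveMod
import Groth.Agent.Lib.Smoothing.Parameters
import Groth.Agent.Lib.Smoothing.Delocalize
import Groth.Agent.Lib.Smoothing.ResolveDimZero
import Groth.Agent.Lib.Smoothing.Nilpotent
import Groth.Agent.S2022
import Groth.Agent.S9431
import Groth.Agent.H20.RegularFlat
import Groth.Agent.Lib.Depth.CM
import Mathlib.RingTheory.RegularLocalRing.Polynomial
import Mathlib.RingTheory.KrullDimension.Polynomial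
import Mathlib.RingTheory.MvPolynomial.Ideal

/-!
# Resolving at a regular point with separable residue field
-/

universe u

open MvPolynomial TensorProduct IsLocalRing

namespace Groth.Agent.Lib.Smoothing.SeparableResidue

theorem indSmooth_field {k K : Type u} [Field k] [Field K] [Algebra k K]
    [Algebra.IsGeometricallyReduced k K] : _root_.Smoothing.IndSmooth k K := by
  intro A _ _ hA f
  classical
  obtain ⟨n, p, hp, -⟩ := hA.out
  obtain ⟨S, hS, hsm⟩ := Groth.Agent.S9431.result k K (Finset.univ.image fun i => f (p (X i)))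
  have hrange : ∀ a, f a ∈ S := by
    intro a
    obtain ⟨z, rfl⟩ := hp a
    induction z using MvPolynomial.induction_on with
    | C c => rw [← MvPolynomial.algebraMap_eq, AlgHom.commutes, AlgHom.commutes]; exact S.algebraMap_mem c
    | add u v hu hv => rw [map_add, map_add]; exact S.add_mem hu hv
    | mul_X u i hu => rw [map_mul, map_mul]; exact S.mul_mem hu (hS (by simp))
  exact ⟨S, inferInstance, inferInstance, hsm, f.codRestrict S hrange, S.val, AlgHom.ext fun a => rfl⟩

/-- Resolution at a prime of height zero from an ind-smooth local ring. -/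
theorem resolvable_of_local {R A Λ : Type u} [CommRing R] [IsNoetherianRing R] [CommRing A]
    [Algebra R A] [Algebra.FinitePresentation R A] [CommRing Λ] [Algebra R Λ] (φ : A →ₐ[R] Λ)
    (q : Ideal Λ) [q.IsPrime] {Rp Λq : Type u} [CommRing Rp] [Algebra R Rp]
    [IsLocalization.AtPrime Rp (q.comap (algebraMap R Λ))]
    [CommRing Λq] [Algebra Λ Λq] [IsLocalization.AtPrime Λq q] [Algebra R Λq] [IsScalarTower R Λ Λq]
    [Algebra Rp Λq] [IsScalarTower R Rp Λq]
    (hq : ∀ x ∈ q, ∃ (N : ℕ) (s : Λ), s ∉ q ∧ s * x ^ N = 0)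
    (h : _root_.Smoothing.IndSmooth Rp Λq) :
    _root_.Smoothing.Resolvable R φ q := by
  by_cases hle : _root_.Smoothing.singRad R φ ≤ q
  · let f : Rp ⊗[R] A →ₐ[Rp] Λq := Algebra.TensorProduct.lift (Algebra.ofId Rp Λq)
      ((IsScalarTower.toAlgHom R Λ Λq).comp φ) fun _ _ => Commute.all _ _
    obtain ⟨B', _, _, hB', g', h', hgh⟩ := h (Rp ⊗[R] A) inferInstance f
    let _ : Algebra R B' := ((algebraMap Rp B').comp (algebraMap R Rp)).toAlgebra
    have : IsScalarTower R Rp B' := IsScalarTower.of_algebraMap_eq' rfl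
    obtain ⟨C, _, _, hC, α, β, hαβ, hnot⟩ := Delocalize.exists_delocalized φ q (Rp := Rp) (Λq := Λq)
      (B' := B') ((g'.restrictScalars R).comp Algebra.TensorProduct.includeRight) h' (fun a => by
        show h' (g' (1 ⊗ₜ a)) = _
        rw [show h' (g' (1 ⊗ₜ a)) = f (1 ⊗ₜ a) from DFunLike.congr_fun hgh _]
        simp [f, IsScalarTower.coe_toAlgHom'])
      (fun P _ _ => ResolveDimZero.isSmoothAt_of_smooth P)
    refine ResolveDimZero.exists_glue φ α β hαβ q hnot fun a ha => ?_
    obtain ⟨N, s, hs, hN⟩ := hq (φ a) (hle (Ideal.le_radical (Ideal.mem_map_of_mem φ ha)))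
    exact ⟨N, s, hs, hN⟩
  · exact ⟨A, inferInstance, inferInstance, inferInstance, AlgHom.id R A, φ, AlgHom.ext fun _ => rfl,
      le_rfl, hle⟩

theorem powers_nzd {k : Type u} [CommRing k] {d : ℕ} (e : ℕ) (i : Fin d) (M : ℕ)
    (y : MvPolynomial (Fin d) k)
    (hy : X i ^ M * y ∈ Ideal.span (Set.range fun j : {j : Fin d // (j : ℕ) < (i : ℕ)} =>
      (X (j : Fin d) : MvPolynomial (Fin d) k) ^ e)) :
    y ∈ Ideal.span (Set.range fun j : {j : Fin d // (j : ℕ) < (i : ℕ)} =>
      (X (j : Fin d) : MvPolynomial (Fin d) k) ^ e) := by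
  classical
  have heq : (Set.range fun j : {j : Fin d // (j : ℕ) < (i : ℕ)} =>
      (X (j : Fin d) : MvPolynomial (Fin d) k) ^ e) =
      (fun s => monomial s (1 : k)) ''
        Set.range fun j : {j : Fin d // (j : ℕ) < (i : ℕ)} => Finsupp.single (j : Fin d) e := by
    rw [← Set.range_comp]
    congr 1
    funext j
    simp [X_pow_eq_monomial]
  rw [heq, mem_ideal_span_monomial_image] at hy ⊢
  intro m hm
  have hm' : Finsupp.single i M + m ∈ (X i ^ M * y : MvPolynomial (Fin d) k).support := by
    rw [mem_support_iff, X_pow_eq_monomial, coeff_monomial_mul, one_mul]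
    exact mem_support_iff.1 hm
  obtain ⟨_, ⟨j, rfl⟩, hle⟩ := hy _ hm'
  refine ⟨_, ⟨j, rfl⟩, ?_⟩
  rw [Finsupp.single_le_iff] at hle ⊢
  have hne : i ≠ (j : Fin d) := fun h => by
    have := j.2
    rw [← h] at this
    exact lt_irrefl _ this
  simpa [Finsupp.single_eq_of_ne hne.symm] using hle

set_option maxHeartbeats 1600000 in
/-- A regular point whose residue field is separable over the ground field can be resolved. -/
theorem resolvable {k A Λ : Type u} [Field k] [CommRing A]
    [Algebra k A] [Algebra.FinitePresentation k A] [CommRing Λ] [Algebra k Λ] [IsNoetherianRing Λ]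
    (φ : A →ₐ[k] Λ) (q : Ideal Λ) [q.IsPrime] (hmin : q ∈ (_root_.Smoothing.singRad k φ).minimalPrimes)
    [IsRegularLocalRing (Localization.AtPrime q)]
    [Algebra.IsGeometricallyReduced k q.ResidueField] : _root_.Smoothing.Resolvable k φ q := by
  classical
  have : IsNoetherianRing A := Algebra.FiniteType.isNoetherianRing k A
  obtain ⟨r, a, ha⟩ := Submodule.fg_iff_exists_fin_generating_family.1
    (IsNoetherian.noetherian (_root_.Smoothing.singularIdeal k A))
  let I : Ideal Λ := (_root_.Smoothing.singularIdeal k A).map φ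
  have hI : I = Ideal.span (Set.range fun j => φ (a j)) := by
    show Ideal.map φ _ = _
    rw [← ha]
    change Ideal.map φ (Ideal.span (Set.range a)) = _
    rw [Ideal.map_span, ← Set.range_comp]
    rfl
  let alg := algebraMap Λ (Localization.AtPrime q)
  -- a power of `q` lands in `I` locally
  obtain ⟨n₀, hn₀⟩ : ∃ n, (q.map alg) ^ n ≤ I.map alg := by
    refine Ideal.exists_pow_le_of_le_radical_of_fg ?_ (IsNoetherian.noetherian _)
    rw [Ideal.radical_eq_sInf]
    refine le_sInf fun P hP => ?_
    obtain ⟨hIP, hPp⟩ := hP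
    have hle : P.comap alg ≤ q := fun z hz => by
      by_contra hzq
      exact hPp.ne_top (Ideal.eq_top_of_isUnit_mem _ hz
        (IsLocalization.map_units (Localization.AtPrime q) (⟨z, hzq⟩ : q.primeCompl)))
    refine Ideal.map_le_iff_le_comap.2 (hmin.2 ⟨inferInstance, ?_⟩ hle)
    exact (Ideal.IsPrime.radical_le_iff inferInstance).2 (Ideal.map_le_iff_le_comap.1 hIP)
  obtain ⟨n, hn0, hn⟩ : ∃ n, 0 < n ∧ (q.map alg) ^ n ≤ I.map alg :=
    ⟨n₀ + 1, Nat.succ_pos _, (Ideal.pow_le_pow_right (Nat.le_succ _)).trans hn₀⟩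
  rw [← Ideal.map_pow] at hn
  obtain ⟨d, hd, -⟩ := Groth.Agent.Lib.Regular.Quotient.exists_dim_eq (R := Localization.AtPrime q)
  -- the algebra over `k[x]` and its retract, independent of the parameters
  obtain ⟨B, _, _, _, _, α, hBfp, hxB, hαB, hBmap⟩ := Linearize.exists_linearized (d := d) a ha n
  obtain ⟨C, _, _, ι, ret, M, hCfp, hret, hM0, hstd, hιsing⟩ :=
    StrictRetract.exists_retract (R := MvPolynomial (Fin d) k)
      (fun i => algebraMap (MvPolynomial (Fin d) k) B (X i)) hxB
  obtain ⟨π, hπgen, hπI, hπann⟩ :=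
    Parameters.exists_parameters I q n (8 * M) d hn0 hn hd
  let P' := MvPolynomial (Fin d) k
  let _ : Algebra (MvPolynomial (Fin d) k) Λ := (aeval (R := k) π).toRingHom.toAlgebra
  have : IsScalarTower k (MvPolynomial (Fin d) k) Λ :=
    IsScalarTower.of_algebraMap_eq fun c => ((aeval (R := k) π).commutes c).symm
  have hπX : ∀ i, algebraMap (MvPolynomial (Fin d) k) Λ (X i) = π i := fun i => aeval_X π i
  obtain ⟨hB, hhB⟩ := hBmap Λ φ (fun i => by rw [hπX, ← hI]; exact hπI i)
  let φC : C →ₐ[MvPolynomial (Fin d) k] Λ := hB.comp ret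
  let K : Ideal (MvPolynomial (Fin d) k) := Ideal.span (Set.range fun i => (X i ^ M) ^ 8)
  let _ : CommSemiring (MvPolynomial (Fin d) k ⧸ K) := CommRing.toCommSemiring
  let J : Ideal Λ := K.map (algebraMap (MvPolynomial (Fin d) k) Λ)
  have hπq : ∀ i, π i ∈ q := fun i => by
    rw [← IsLocalization.AtPrime.to_map_mem_maximal_iff (Localization.AtPrime q) q,
      ← Localization.AtPrime.map_eq_maximalIdeal, ← hπgen]
    exact Ideal.subset_span ⟨i, rfl⟩
  have hJq : J ≤ q := by
    show Ideal.map _ (Ideal.span _) ≤ q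
    rw [Ideal.map_span, Ideal.span_le]
    rintro _ ⟨_, ⟨i, rfl⟩, rfl⟩
    simp only [map_pow, hπX]
    exact Ideal.pow_mem_of_mem _ (Ideal.pow_mem_of_mem _ (hπq i) M hM0) 8 (by norm_num)
  let q₀ : Ideal (Λ ⧸ J) := q.map (Ideal.Quotient.mk J)
  have hq₀ : q₀.IsPrime :=
    Ideal.map_isPrime_of_surjective Ideal.Quotient.mk_surjective (by rwa [Ideal.mk_ker])
  have hq₀c : q₀.comap (Ideal.Quotient.mk J) = q := by
    rw [Ideal.comap_map_of_surjective' _ Ideal.Quotient.mk_surjective, Ideal.mk_ker, sup_eq_left.2 hJq]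
  -- the prime of `k[x]`
  let P : Ideal (MvPolynomial (Fin d) k) := q.comap (algebraMap (MvPolynomial (Fin d) k) Λ)
  have hP0 : ∀ z : MvPolynomial (Fin d) k, z - MvPolynomial.C (constantCoeff z) ∈
      Ideal.span (Set.range (X : Fin d → MvPolynomial (Fin d) k)) := by
    intro z
    induction z using MvPolynomial.induction_on with
    | C c => simp
    | add u v hu hv =>
      rw [map_add, map_add, show u + v - (MvPolynomial.C (constantCoeff u) + MvPolynomial.C (constantCoeff v)) =
        (u - MvPolynomial.C (constantCoeff u)) + (v - MvPolynomial.C (constantCoeff v)) by ring]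
      exact Ideal.add_mem _ hu hv
    | mul_X u i hu =>
      rw [map_mul, constantCoeff_X, mul_zero, map_zero, sub_zero]
      exact Ideal.mul_mem_left _ _ (Ideal.subset_span ⟨i, rfl⟩)
  have hPX : P = Ideal.span (Set.range (X : Fin d → MvPolynomial (Fin d) k)) := by
    have hle : Ideal.span (Set.range (X : Fin d → MvPolynomial (Fin d) k)) ≤ P := by
      rw [Ideal.span_le]
      rintro _ ⟨i, rfl⟩
      show algebraMap (MvPolynomial (Fin d) k) Λ (X i) ∈ q
      rw [hπX]; exact hπq i
    refine le_antisymm (fun z hz => ?_) hle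
    have hc : constantCoeff z = 0 := by
      by_contra hc
      refine (inferInstance : P.IsPrime).ne_top (Ideal.eq_top_of_isUnit_mem _ ?_
        ((isUnit_iff_ne_zero.2 hc).map (MvPolynomial.C (σ := Fin d))))
      rw [show MvPolynomial.C (constantCoeff z) = z - (z - MvPolynomial.C (constantCoeff z)) by ring]
      exact P.sub_mem hz (hle (hP0 z))
    have h1 := hP0 z
    rwa [hc, map_zero, sub_zero] at h1
  -- flatness of the local ring over `k[x]`
  have hflat : Module.Flat (MvPolynomial (Fin d) k) (Localization.AtPrime q) := by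
    let A₀ := Localization.AtPrime P
    have hu : ∀ s : P.primeCompl,
        IsUnit (algebraMap (MvPolynomial (Fin d) k) (Localization.AtPrime q) s) := fun s => by
      rw [IsScalarTower.algebraMap_apply (MvPolynomial (Fin d) k) Λ (Localization.AtPrime q)]
      exact IsLocalization.map_units (Localization.AtPrime q)
        (⟨algebraMap (MvPolynomial (Fin d) k) Λ s, s.2⟩ : q.primeCompl)
    let _ : Algebra A₀ (Localization.AtPrime q) := (IsLocalization.lift (S := A₀) hu).toAlgebra
    have : IsScalarTower (MvPolynomial (Fin d) k) A₀ (Localization.AtPrime q) :=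
      IsScalarTower.of_algebraMap_eq fun z => (IsLocalization.lift_eq hu z).symm
    have hmax : (maximalIdeal A₀).map (algebraMap A₀ (Localization.AtPrime q)) =
        maximalIdeal (Localization.AtPrime q) := by
      rw [← Localization.AtPrime.map_eq_maximalIdeal, ← Localization.AtPrime.map_eq_maximalIdeal,
        Ideal.map_map, ← IsScalarTower.algebraMap_eq, hPX, Ideal.map_span, ← Set.range_comp, ← hπgen]
      congr 1
      congr 1
      funext i
      show algebraMap _ (Localization.AtPrime q) (X i) = _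
      rw [IsScalarTower.algebraMap_apply (MvPolynomial (Fin d) k) Λ (Localization.AtPrime q), hπX]
    have : IsLocalHom (algebraMap A₀ (Localization.AtPrime q)) :=
      ((IsLocalRing.local_hom_TFAE _).out 0 2).2 hmax.le
    have hdimA : ringKrullDim A₀ ≤ d := by
      rw [IsLocalization.AtPrime.ringKrullDim_eq_height P A₀]
      refine Ideal.height_le_ringKrullDim_of_isPrime.trans (le_of_eq ?_)
      rw [MvPolynomial.ringKrullDim_of_isNoetherianRing, ringKrullDim_eq_zero_of_field, zero_add,
        Nat.card_fin]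
    have : IsRegularLocalRing A₀ := inferInstance
    have hcm : LocCoh.IsCohenMacaulayLocalRing (Localization.AtPrime q) := by
      obtain ⟨rs, hrs, hlen⟩ : ∃ rs : List (Localization.AtPrime q),
          Ideal.ofList rs = maximalIdeal (Localization.AtPrime q) ∧
            rs.length = (maximalIdeal (Localization.AtPrime q)).spanFinrank := by
        have hfg : (maximalIdeal (Localization.AtPrime q)).FG := IsNoetherian.noetherian _
        refine ⟨(Submodule.FG.finite_generators hfg).toFinset.toList, ?_, ?_⟩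
        · simp only [Ideal.ofList, Finset.mem_toList, Set.Finite.mem_toFinset, Set.ofPred_mem_eq]
          exact Submodule.span_generators _
        · rw [Finset.length_toList,
            ← Set.ncard_eq_toFinset_card _ (Submodule.FG.finite_generators hfg),
            Submodule.FG.generators_ncard hfg]
      refine Groth.Agent.Lib.Depth.CM.isCohenMacaulayLocalRing_of_isRegular
        (Groth.Agent.Lib.Regular.Quotient.isRegular_of_span_eq_maximalIdeal rs hrs hlen) ?_
      rw [hlen, IsRegularLocalRing.spanFinrank_maximalIdeal]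
    have : Module.Flat A₀ (Localization.AtPrime q) := by
      refine Groth.Agent.H20.RegularFlat.flat_of_supportDim_eq A₀ (Localization.AtPrime q)
        (Localization.AtPrime q) Groth.Agent.Lib.Depth.CM.isCohenMacaulayModule_self ?_
      rw [Module.supportDim_self_eq_ringKrullDim, hd, Module.supportDim_eq_of_equiv
        (Submodule.quotEquivOfEq _ ((maximalIdeal A₀).map (algebraMap A₀ (Localization.AtPrime q)))
          (by simp)), Module.supportDim_quotient_eq_ringKrullDim]
      refine (add_le_add (c := ringKrullDim A₀) (b := (0 : WithBot ℕ∞)) ?_ le_rfl).trans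
        ((zero_add _).le.trans hdimA)
      rw [hmax]
      exact (ringKrullDim_eq_zero_of_isField
        ((Ideal.Quotient.maximal_ideal_iff_isField_quotient _).1 inferInstance)).le
    exact Module.Flat.trans (MvPolynomial (Fin d) k) A₀ (Localization.AtPrime q)
  -- the reduced problem
  let Jq : Ideal (Localization.AtPrime q) := J.map alg
  let L := Localization.AtPrime q ⧸ Jq
  let _ : Algebra (MvPolynomial (Fin d) k ⧸ K) L := ((algebraMap (Λ ⧸ J) L).comp (algebraMap (MvPolynomial (Fin d) k ⧸ K) (Λ ⧸ J))).toAlgebra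
  have : IsScalarTower (MvPolynomial (Fin d) k ⧸ K) (Λ ⧸ J) L := IsScalarTower.of_algebraMap_eq' rfl
  have hR₀L : ∀ z : MvPolynomial (Fin d) k, algebraMap (MvPolynomial (Fin d) k ⧸ K) L (Ideal.Quotient.mk K z) =
      algebraMap (MvPolynomial (Fin d) k) L z := fun z => rfl
  have : IsScalarTower (MvPolynomial (Fin d) k) (MvPolynomial (Fin d) k ⧸ K) L := IsScalarTower.of_algebraMap_eq fun z => (hR₀L z).symm
  have hloc : IsLocalization.AtPrime L q₀ := by
    have h1 : Algebra.algebraMapSubmonoid (Λ ⧸ J) q.primeCompl = q₀.primeCompl := by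
      ext z
      constructor
      · rintro ⟨s, hs, rfl⟩
        exact fun h => hs (hq₀c.le h)
      · intro hz
        obtain ⟨s, rfl⟩ := Ideal.Quotient.mk_surjective z
        exact ⟨s, fun h => hz (Ideal.mem_map_of_mem _ h), rfl⟩
    show IsLocalization q₀.primeCompl L
    rw [← h1]
    infer_instance
  let p₀ : Ideal (MvPolynomial (Fin d) k ⧸ K) := q₀.comap (algebraMap (MvPolynomial (Fin d) k ⧸ K) (Λ ⧸ J))
  have hp₀ : ∀ z, Ideal.Quotient.mk K z ∈ p₀ ↔ z ∈ P := fun z => SetLike.ext_iff.1 hq₀c _
  have hup : ∀ s : p₀.primeCompl, IsUnit (algebraMap (MvPolynomial (Fin d) k ⧸ K) L s) := fun s => by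
    rw [IsScalarTower.algebraMap_apply (MvPolynomial (Fin d) k ⧸ K) (Λ ⧸ J) L]
    exact IsLocalization.map_units L (⟨algebraMap (MvPolynomial (Fin d) k ⧸ K) (Λ ⧸ J) s, s.2⟩ : q₀.primeCompl)
  let _ : Algebra (Localization.AtPrime p₀) L := (IsLocalization.lift (S := Localization.AtPrime p₀) hup).toAlgebra
  have : IsScalarTower (MvPolynomial (Fin d) k ⧸ K) (Localization.AtPrime p₀) L := IsScalarTower.of_algebraMap_eq fun z => (IsLocalization.lift_eq hup z).symm
  have hflatL : Module.Flat (MvPolynomial (Fin d) k ⧸ K) L := by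
    have hJq' : Jq = K.map (algebraMap (MvPolynomial (Fin d) k) (Localization.AtPrime q)) := by
      show Ideal.map alg (Ideal.map _ K) = _
      rw [Ideal.map_map, ← IsScalarTower.algebraMap_eq]
    let e₀ : (MvPolynomial (Fin d) k ⧸ K) ⊗[MvPolynomial (Fin d) k] Localization.AtPrime q ≃ₗ[MvPolynomial (Fin d) k] L :=
      (TensorProduct.comm _ _ _).trans
        (((Algebra.TensorProduct.quotIdealMapEquivTensorQuot (Localization.AtPrime q) K).symm.toLinearEquiv.restrictScalars
          (MvPolynomial (Fin d) k)).trans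
          ((Ideal.quotientEquivAlgOfEq (MvPolynomial (Fin d) k) hJq'.symm).toLinearEquiv))
    exact Module.Flat.of_linearEquiv (R := (MvPolynomial (Fin d) k ⧸ K)) (M := (MvPolynomial (Fin d) k ⧸ K) ⊗[MvPolynomial (Fin d) k] Localization.AtPrime q)
      ({ e₀ with
        map_smul' := fun c z => by
          obtain ⟨c, rfl⟩ := Ideal.Quotient.mk_surjective c
          have hc : (Ideal.Quotient.mk K c : (MvPolynomial (Fin d) k ⧸ K)) = algebraMap (MvPolynomial (Fin d) k) (MvPolynomial (Fin d) k ⧸ K) c := rfl
          show e₀ (Ideal.Quotient.mk K c • z) = Ideal.Quotient.mk K c • e₀ z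
          rw [hc, algebraMap_smul]
          exact (map_smul e₀ c z).trans (IsScalarTower.algebraMap_smul (MvPolynomial (Fin d) k ⧸ K) c (e₀ z)).symm } : (MvPolynomial (Fin d) k ⧸ K) ⊗[MvPolynomial (Fin d) k] Localization.AtPrime q ≃ₗ[(MvPolynomial (Fin d) k ⧸ K)] L).symm
  have hflatRp : Module.Flat (Localization.AtPrime p₀) L := (Module.flat_iff_of_isLocalization (Localization.AtPrime p₀) p₀.primeCompl L).2 hflatL
  have hnil : IsNilpotent (maximalIdeal (Localization.AtPrime p₀)) := by
    rw [(Ideal.fg_of_isNoetherianRing (maximalIdeal (Localization.AtPrime p₀))).isNilpotent_iff_le_nilradical,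
      ← Localization.AtPrime.map_eq_maximalIdeal, Ideal.map_le_iff_le_comap]
    intro z hz
    obtain ⟨z, rfl⟩ := Ideal.Quotient.mk_surjective z
    have hz' := hPX.le ((hp₀ z).1 hz)
    refine (Ideal.span_le (I := (nilradical (Localization.AtPrime p₀)).comap
      ((algebraMap (MvPolynomial (Fin d) k ⧸ K) (Localization.AtPrime p₀)).comp (Ideal.Quotient.mk K)))).2 ?_ hz'
    rintro _ ⟨i, rfl⟩
    refine ⟨M * 8, ?_⟩
    show algebraMap (MvPolynomial (Fin d) k ⧸ K) (Localization.AtPrime p₀) (Ideal.Quotient.mk K (X i)) ^ (M * 8) = 0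
    have hmem : (X i ^ M : MvPolynomial (Fin d) k) ^ 8 ∈ K := Ideal.subset_span ⟨i, rfl⟩
    rw [← map_pow, ← map_pow, pow_mul, Ideal.Quotient.eq_zero_iff_mem.2 hmem, map_zero]
  have hindL : _root_.Smoothing.IndSmooth (Localization.AtPrime p₀) L := by
    refine Groth.Agent.S2022.result (maximalIdeal (Localization.AtPrime p₀)) hnil ?_
    let ek : k →+* (Localization.AtPrime p₀) ⧸ maximalIdeal (Localization.AtPrime p₀) :=
      (Ideal.Quotient.mk _).comp ((algebraMap (MvPolynomial (Fin d) k ⧸ K) (Localization.AtPrime p₀)).comp ((Ideal.Quotient.mk K).comp (MvPolynomial.C (σ := Fin d))))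
    have hres : ∀ z : MvPolynomial (Fin d) k,
        Ideal.Quotient.mk (maximalIdeal (Localization.AtPrime p₀)) (algebraMap (MvPolynomial (Fin d) k ⧸ K) (Localization.AtPrime p₀) (Ideal.Quotient.mk K z)) =
          ek (constantCoeff z) := fun z => by
      show _ = Ideal.Quotient.mk _ (algebraMap (MvPolynomial (Fin d) k ⧸ K) (Localization.AtPrime p₀) (Ideal.Quotient.mk K (MvPolynomial.C (constantCoeff z))))
      rw [Ideal.Quotient.eq, ← map_sub, ← map_sub, IsLocalization.AtPrime.to_map_mem_maximal_iff (Localization.AtPrime p₀) p₀,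
        hp₀, hPX]
      exact hP0 z
    have hek : Function.Bijective ek := by
      refine ⟨RingHom.injective ek, fun z => ?_⟩
      obtain ⟨z, rfl⟩ := Ideal.Quotient.mk_surjective z
      obtain ⟨⟨u, ⟨s, hs⟩⟩, hzu⟩ := IsLocalization.surj p₀.primeCompl z
      obtain ⟨u, rfl⟩ := Ideal.Quotient.mk_surjective u
      obtain ⟨s, rfl⟩ := Ideal.Quotient.mk_surjective s
      have hs0 : constantCoeff s ≠ 0 := fun h0 => hs ((hp₀ s).2 (by
        rw [hPX]; simpa [h0] using hP0 s))
      refine ⟨constantCoeff u / constantCoeff s, ?_⟩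
      have h1 := congrArg (Ideal.Quotient.mk (maximalIdeal (Localization.AtPrime p₀))) hzu
      rw [map_mul, hres, hres] at h1
      refine ((isUnit_iff_ne_zero.2 hs0).map ek).mul_left_injective ?_
      show _ * ek (constantCoeff s) = _ * ek (constantCoeff s)
      rw [h1, ← map_mul, div_mul_cancel₀ _ hs0]
    let res₀ : L →+* q.ResidueField := Ideal.Quotient.lift Jq (IsLocalRing.residue (Localization.AtPrime q))
      fun z hz => by
        rw [IsLocalRing.residue_eq_zero_iff]
        refine (Ideal.map_mono hJq).trans ?_ hz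
        rw [Localization.AtPrime.map_eq_maximalIdeal]
    have hkerres : RingHom.ker res₀ = (maximalIdeal (Localization.AtPrime p₀)).map (algebraMap (Localization.AtPrime p₀) L) := by
      have h1 : (maximalIdeal (Localization.AtPrime p₀)).map (algebraMap (Localization.AtPrime p₀) L) =
          (maximalIdeal (Localization.AtPrime q)).map (Ideal.Quotient.mk Jq) := by
        rw [← Localization.AtPrime.map_eq_maximalIdeal, Ideal.map_map, ← IsScalarTower.algebraMap_eq]
        have h2 : p₀ = Ideal.span (Set.range fun i => Ideal.Quotient.mk K (X i)) := by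
          refine le_antisymm (fun z hz => ?_) (Ideal.span_le.2 ?_)
          · obtain ⟨z, rfl⟩ := Ideal.Quotient.mk_surjective z
            rw [show (fun i => Ideal.Quotient.mk K (X i)) = Ideal.Quotient.mk K ∘ X from rfl,
              Set.range_comp, ← Ideal.map_span, ← hPX]
            exact Ideal.mem_map_of_mem _ ((hp₀ z).1 hz)
          · rintro _ ⟨i, rfl⟩
            exact (hp₀ _).2 (hPX.ge (Ideal.subset_span ⟨i, rfl⟩))
        rw [h2, Ideal.map_span, ← Localization.AtPrime.map_eq_maximalIdeal, ← hπgen, Ideal.map_span,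
          ← Set.range_comp, ← Set.range_comp]
        congr 1
        congr 1
        funext i
        show algebraMap (MvPolynomial (Fin d) k) L (X i) = _
        rw [IsScalarTower.algebraMap_apply (MvPolynomial (Fin d) k) Λ L, hπX]
        rfl
      rw [h1]
      refine le_antisymm (fun z hz => ?_) (Ideal.map_le_iff_le_comap.2 fun z hz => ?_)
      · obtain ⟨z, rfl⟩ := Ideal.Quotient.mk_surjective z
        exact Ideal.mem_map_of_mem _ ((IsLocalRing.residue_eq_zero_iff z).1 hz)
      · exact (IsLocalRing.residue_eq_zero_iff z).2 hz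
    have hres₀ : Function.Surjective res₀ := fun z => by
      obtain ⟨z, rfl⟩ := IsLocalRing.residue_surjective z
      exact ⟨Ideal.Quotient.mk _ z, rfl⟩
    let E : (L ⧸ (maximalIdeal (Localization.AtPrime p₀)).map (algebraMap (Localization.AtPrime p₀) L)) ≃+* q.ResidueField :=
      (Ideal.quotEquivOfEq hkerres.symm).trans (RingHom.quotientKerEquivOfSurjective hres₀)
    refine Nilpotent.indSmooth_congr (RingEquiv.ofBijective ek hek) E.symm (fun c => ?_)
      (indSmooth_field (k := k) (K := q.ResidueField))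
    rw [RingEquiv.symm_apply_eq, RingEquiv.ofBijective_apply]
    show _ = E (Ideal.Quotient.mk _ (algebraMap (Localization.AtPrime p₀) L (algebraMap (MvPolynomial (Fin d) k ⧸ K) (Localization.AtPrime p₀) (Ideal.Quotient.mk K (MvPolynomial.C c)))))
    rw [← IsScalarTower.algebraMap_apply (MvPolynomial (Fin d) k ⧸ K) (Localization.AtPrime p₀) L, hR₀L]
    show _ = res₀ (algebraMap (MvPolynomial (Fin d) k) L (MvPolynomial.C c))
    rw [← MvPolynomial.algebraMap_eq, ← IsScalarTower.algebraMap_apply k (MvPolynomial (Fin d) k) L]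
    rfl
  -- resolve over `k[x]`
  let φK : (C ⧸ K.map (algebraMap (MvPolynomial (Fin d) k) C)) →ₐ[(MvPolynomial (Fin d) k ⧸ K)] (Λ ⧸ J) :=
    { Ideal.Quotient.lift (K.map (algebraMap (MvPolynomial (Fin d) k) C))
        ((Ideal.Quotient.mk J).comp φC.toRingHom) (fun z hz => by
          refine (Ideal.map_le_iff_le_comap (K := RingHom.ker ((Ideal.Quotient.mk J).comp φC.toRingHom))).2
            ?_ hz
          intro t ht
          show Ideal.Quotient.mk J (φC (algebraMap _ C t)) = 0
          rw [AlgHom.commutes, Ideal.Quotient.eq_zero_iff_mem]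
          exact Ideal.mem_map_of_mem _ ht) with
      commutes' := fun t => by
        obtain ⟨t, rfl⟩ := Ideal.Quotient.mk_surjective t
        show Ideal.Quotient.mk J (φC (algebraMap _ C t)) = _
        rw [AlgHom.commutes]
        rfl }
  have hCK : Algebra.FinitePresentation (MvPolynomial (Fin d) k ⧸ K) (C ⧸ K.map (algebraMap (MvPolynomial (Fin d) k) C)) := by
    have : Algebra.FinitePresentation (MvPolynomial (Fin d) k)
        (C ⧸ K.map (algebraMap (MvPolynomial (Fin d) k) C)) :=
      Algebra.FinitePresentation.quotient (Ideal.FG.map (IsNoetherian.noetherian K) _)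
    exact Algebra.FinitePresentation.of_restrict_scalars_finitePresentation (MvPolynomial (Fin d) k) (MvPolynomial (Fin d) k ⧸ K) _
  have hmod := resolvable_of_local φK q₀ (Rp := Localization.AtPrime p₀) (Λq := L) (fun z hz => by
    have : IsLocalRing L := IsLocalization.AtPrime.isLocalRing L q₀
    obtain ⟨z, rfl⟩ := Ideal.Quotient.mk_surjective z
    have hzq : z ∈ q := hq₀c.le hz
    have h1 : IsNilpotent (algebraMap (Λ ⧸ J) L (Ideal.Quotient.mk J z)) := by
      rw [← mem_nilradical]
      show Ideal.Quotient.mk Jq (alg z) ∈ nilradical L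
      have h2 : alg z ∈ q.map alg := Ideal.mem_map_of_mem _ hzq
      rw [← hπgen] at h2
      refine (Ideal.span_le (I := (nilradical L).comap (Ideal.Quotient.mk Jq))).2 ?_ h2
      rintro _ ⟨i, rfl⟩
      refine ⟨M * 8, ?_⟩
      show Ideal.Quotient.mk Jq (alg (π i)) ^ (M * 8) = 0
      rw [← map_pow, Ideal.Quotient.eq_zero_iff_mem, ← map_pow]
      refine Ideal.mem_map_of_mem _ ?_
      rw [← hπX, ← map_pow, pow_mul]
      exact Ideal.mem_map_of_mem _ (Ideal.subset_span ⟨i, rfl⟩)
    obtain ⟨N, hN⟩ := h1
    rw [← map_pow] at hN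
    obtain ⟨⟨s, hs⟩, hsN⟩ := (IsLocalization.map_eq_zero_iff q₀.primeCompl L _).1 hN
    exact ⟨N, s, hs, hsN⟩) hindL
  have hresC : _root_.Smoothing.Resolvable (MvPolynomial (Fin d) k) φC q := by
    refine ResolveMod.resolvable_of_mod φC q (fun i => X i ^ M) ?_ ?_ ?_ K rfl φK (fun c => rfl) hmod
    · intro i z hz
      obtain ⟨z, rfl⟩ := Ideal.Quotient.mk_surjective z
      rw [← map_pow, ← map_mul, Ideal.Quotient.eq_zero_iff_mem] at hz
      rw [← map_mul, Ideal.Quotient.eq_zero_iff_mem]
      simp only [← pow_mul] at hz ⊢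
      exact Ideal.mul_mem_left _ _ (powers_nzd _ i _ z hz)
    · intro i z hz
      obtain ⟨z, rfl⟩ := Ideal.Quotient.mk_surjective z
      rw [← map_pow, ← map_mul, Ideal.Quotient.eq_zero_iff_mem] at hz
      rw [← map_mul, Ideal.Quotient.eq_zero_iff_mem]
      simp only [map_pow, hπX, ← pow_mul, mul_comm M 8] at hz ⊢
      have h1 := DesingularizeLift.pow_ann_of_sq (hπann i) (M * 2) (Ideal.Quotient.mk _ z) (by
        rw [← map_pow, ← map_mul, Ideal.Quotient.eq_zero_iff_mem, pow_succ, mul_comm (π i ^ (M * 2)),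
          mul_assoc]
        exact Ideal.mul_mem_left _ _ hz)
      rw [← map_mul, Ideal.Quotient.eq_zero_iff_mem] at h1
      obtain ⟨M', hM'⟩ := Nat.exists_eq_succ_of_ne_zero hM0.ne'
      rw [show π i ^ M * z = π i ^ M' * (π i * z) by rw [hM', pow_succ]; ring]
      exact Ideal.mul_mem_left _ _ h1
    · intro i
      have h1 := hstd i
      rwa [AlgHom.commutes, ← map_pow] at h1
  -- back to `k`
  obtain ⟨D, _, _, hD, g, h, hgh, hle, hnle⟩ := hresC
  let _ : Algebra k D := ((algebraMap (MvPolynomial (Fin d) k) D).comp (algebraMap k (MvPolynomial (Fin d) k))).toAlgebra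
  have : IsScalarTower k (MvPolynomial (Fin d) k) D := IsScalarTower.of_algebraMap_eq' rfl
  have : Algebra.FinitePresentation k D := Algebra.FinitePresentation.trans k (MvPolynomial (Fin d) k) D
  have hsub : _root_.Smoothing.singularIdeal (MvPolynomial (Fin d) k) D ≤
      _root_.Smoothing.singularIdeal k D := by
    intro z hz
    rw [SingularComp.mem_singularIdeal_iff] at hz ⊢
    intro Q _ hQ
    have : Algebra.Smooth k (MvPolynomial (Fin d) k) := ⟨inferInstance, inferInstance⟩
    exact SingularComp.isSmoothAt_comp Q (ResolveDimZero.isSmoothAt_of_smooth _) (hz Q hQ)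
  have hsrad : _root_.Smoothing.singRad (MvPolynomial (Fin d) k) h ≤
      _root_.Smoothing.singRad k (h.restrictScalars k) := Ideal.radical_mono (Ideal.map_mono hsub)
  refine ⟨D, inferInstance, inferInstance, inferInstance,
    { (g.toRingHom.comp (ι.toRingHom.comp α.toRingHom)) with
      commutes' := fun c => by
        show g (ι (α (algebraMap k A c))) = _
        rw [AlgHom.commutes, IsScalarTower.algebraMap_apply k (MvPolynomial (Fin d) k) B, AlgHom.commutes,
          AlgHom.commutes, ← IsScalarTower.algebraMap_apply] },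
    h.restrictScalars k, AlgHom.ext fun x => ?_, ?_, fun hc => hnle (hsrad.trans hc)⟩
  · show h (g (ι (α x))) = φ x
    rw [show h (g (ι (α x))) = φC (ι (α x)) from DFunLike.congr_fun hgh _]
    show hB (ret (ι (α x))) = φ x
    rw [show ret (ι (α x)) = α x from DFunLike.congr_fun hret _, hhB]
  · refine le_trans (Ideal.radical_le_radical_iff.2 ?_) (le_trans hle hsrad)
    rw [Ideal.map_le_iff_le_comap]
    intro b hb
    refine Ideal.le_radical ?_
    have h1 : φ b = φC (ι (α b)) := by
      show _ = hB (ret (ι (α b)))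
      rw [show ret (ι (α b)) = α b from DFunLike.congr_fun hret _, hhB]
    rw [h1]
    exact Ideal.mem_map_of_mem φC (hιsing _ (hαB b hb))

end Groth.Agent.Lib.Smoothing.SeparableResidue
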