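import Groth.Agent.Lib.Smoothing.SeparableResidue
import Mathlib.RingTheory.Flat.TorsionFree

/-!
# Néron desingularisation of an unramified extension of discrete valuation rings
-/

universe u

open MvPolynomial TensorProduct IsLocalRing

namespace Groth.Agent.Lib.Smoothing.DVR

theorem exists_linearized_at {R A : Type u} [CommRing R] [IsNoetherianRing R] [CommRing A]
    [Algebra R A] [Algebra.FinitePresentation R A] {r : ℕ} (a : Fin r → A)
    (ha : Ideal.span (Set.range a) = _root_.Smoothing.singularIdeal R A) (N : ℕ) (t : R) :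
    ∃ (B : Type u) (_ : CommRing B) (_ : Algebra R B) (α : A →ₐ[R] B),
      Algebra.FinitePresentation R B ∧ algebraMap R B t ∈ _root_.Smoothing.singularIdeal R B ∧
      ∀ (Λ : Type u) [CommRing Λ] [Algebra R Λ] (φ : A →ₐ[R] Λ),
        algebraMap R Λ t ^ N ∈ Ideal.span (Set.range fun j => φ (a j)) →
          ∃ h : B →ₐ[R] Λ, h.comp α = φ := by
  obtain ⟨B, _, _, _, _, α, hBfp, hX, -, hlift⟩ := Linearize.exists_linearized (d := 1) a ha N
  let _ : Algebra (MvPolynomial (Fin 1) R) R := (aeval (R := R) fun _ : Fin 1 => t).toRingHom.toAlgebra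
  have hC : ∀ c : R, algebraMap (MvPolynomial (Fin 1) R) R (MvPolynomial.C c) = c := fun c =>
    aeval_C _ c
  have ht : algebraMap (MvPolynomial (Fin 1) R) R (X 0) = t := aeval_X _ 0
  have : IsScalarTower R (MvPolynomial (Fin 1) R) R := IsScalarTower.of_algebraMap_eq fun c => (hC c).symm
  have : IsScalarTower R (MvPolynomial (Fin 1) R) (R ⊗[MvPolynomial (Fin 1) R] B) :=
    IsScalarTower.of_algebraMap_eq fun c => by
      rw [Algebra.TensorProduct.algebraMap_apply, Algebra.TensorProduct.algebraMap_apply,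
        MvPolynomial.algebraMap_eq, hC]
      rfl
  have hfp : Algebra.FinitePresentation R (R ⊗[MvPolynomial (Fin 1) R] B) := inferInstance
  refine ⟨R ⊗[MvPolynomial (Fin 1) R] B, inferInstance, inferInstance,
    ((Algebra.TensorProduct.includeRight : B →ₐ[MvPolynomial (Fin 1) R] _).restrictScalars R).comp α,
    hfp, ?_, fun Λ _ _ φ hφ => ?_⟩
  · have hte : algebraMap R (R ⊗[MvPolynomial (Fin 1) R] B) t =
        (1 : R) ⊗ₜ[MvPolynomial (Fin 1) R] algebraMap (MvPolynomial (Fin 1) R) B (X 0) := by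
      rw [Algebra.TensorProduct.algebraMap_apply, Algebra.algebraMap_eq_smul_one (R := MvPolynomial (Fin 1) R),
        tmul_smul, smul_tmul', Algebra.smul_def (R := MvPolynomial (Fin 1) R), ht, mul_one]
      rfl
    rw [hte, SingularComp.mem_singularIdeal_iff]
    intro Q _ hQ
    have := SingularComp.smooth_away_of_mem (hX 0)
    have := Linearize.smooth_away_tensor (k := MvPolynomial (Fin 1) R) (A := B) R
      (algebraMap (MvPolynomial (Fin 1) R) B (X 0))
    exact Linearize.isSmoothAt_of_smooth_away Q hQ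
  · let _ : Algebra (MvPolynomial (Fin 1) R) Λ :=
      ((algebraMap R Λ).comp (algebraMap (MvPolynomial (Fin 1) R) R)).toAlgebra
    have : IsScalarTower (MvPolynomial (Fin 1) R) R Λ := IsScalarTower.of_algebraMap_eq' rfl
    have : IsScalarTower R (MvPolynomial (Fin 1) R) Λ := IsScalarTower.of_algebraMap_eq fun c => by
      show _ = algebraMap R Λ (algebraMap (MvPolynomial (Fin 1) R) R _)
      rw [MvPolynomial.algebraMap_eq, hC]
    obtain ⟨hB, hhB⟩ := hlift Λ φ fun i => by
      obtain rfl : i = 0 := Subsingleton.elim _ _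
      rw [IsScalarTower.algebraMap_apply (MvPolynomial (Fin 1) R) R Λ, ht]
      exact hφ
    exact ⟨Algebra.TensorProduct.lift (Algebra.ofId R Λ) hB fun _ _ => Commute.all _ _,
      AlgHom.ext fun x => by
        show Algebra.TensorProduct.lift (Algebra.ofId R Λ) hB (fun _ _ => Commute.all _ _) ((1 : R) ⊗ₜ α x) = φ x
        rw [Algebra.TensorProduct.lift_tmul, map_one, one_mul, hhB]⟩

/-- A map whose extended singular ideal is everything factors through a smooth algebra. -/
theorem exists_smooth_factor {R A Λ : Type u} [CommRing R] [IsNoetherianRing R] [CommRing A]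
    [Algebra R A] [Algebra.FinitePresentation R A] [CommRing Λ] [Algebra R Λ] (φ : A →ₐ[R] Λ)
    (h : (_root_.Smoothing.singularIdeal R A).map φ = ⊤) :
    ∃ (B : Type u) (_ : CommRing B) (_ : Algebra R B),
      Algebra.Smooth R B ∧ ∃ (g : A →ₐ[R] B) (h : B →ₐ[R] Λ), h.comp g = φ := by
  have : IsNoetherianRing A := Algebra.FiniteType.isNoetherianRing R A
  obtain ⟨r, a, ha⟩ := Submodule.fg_iff_exists_fin_generating_family.1
    (IsNoetherian.noetherian (_root_.Smoothing.singularIdeal R A))
  have hspan : (_root_.Smoothing.singularIdeal R A).map φ = Ideal.span (Set.range fun j => φ (a j)) := by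
    rw [← ha]
    change Ideal.map φ (Ideal.span (Set.range a)) = _
    rw [Ideal.map_span, ← Set.range_comp]
    rfl
  obtain ⟨B, _, _, α, hBfp, h1, hlift⟩ := exists_linearized_at a ha 0 1
  obtain ⟨hB, hhB⟩ := hlift Λ φ (by rw [← hspan, h]; trivial)
  rw [map_one, SingularComp.mem_singularIdeal_iff] at h1
  have : Algebra.FormallySmooth R B := by
    rw [← Algebra.smoothLocus_eq_univ_iff, Set.eq_univ_iff_forall]
    exact fun Q => h1 Q.asIdeal fun h => Q.isPrime.ne_top ((Ideal.eq_top_iff_one _).2 h)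
  exact ⟨B, inferInstance, inferInstance, ⟨this, hBfp⟩, α, hB, hhB⟩

theorem indSmooth {R Λ K L : Type u} [CommRing R] [IsDomain R] [IsDiscreteValuationRing R]
    [CommRing Λ] [IsDomain Λ] [IsDiscreteValuationRing Λ] [Algebra R Λ]
    [Module.IsTorsionFree R Λ]
    (he : (maximalIdeal R).map (algebraMap R Λ) = maximalIdeal Λ) [IsLocalHom (algebraMap R Λ)]
    [Algebra.IsGeometricallyReduced (ResidueField R) (ResidueField Λ)]
    [Field K] [Algebra R K] [IsFractionRing R K] [Field L] [Algebra Λ L] [IsFractionRing Λ L]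
    [Algebra K L] [Algebra R L] [IsScalarTower R K L] [IsScalarTower R Λ L]
    [Algebra.IsGeometricallyReduced K L] : _root_.Smoothing.IndSmooth R Λ := by
  classical
  intro A₀ _ _ hA₀ φ₀
  have hinj : Function.Injective (algebraMap R Λ) := FaithfulSMul.algebraMap_injective R Λ
  obtain ⟨π, hπ⟩ := IsDiscreteValuationRing.exists_irreducible R
  have hm : maximalIdeal Λ = Ideal.span {algebraMap R Λ π} := by
    rw [← he, hπ.maximalIdeal_eq, Ideal.map_span, Set.image_singleton]
  have hπΛ : Irreducible (algebraMap R Λ π) :=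
    (IsDiscreteValuationRing.irreducible_iff_uniformizer _).2 hm
  -- the generic point
  have hK : IsLocalization.AtPrime K ((⊥ : Ideal Λ).comap (algebraMap R Λ)) := by
    show IsLocalization ((⊥ : Ideal Λ).comap (algebraMap R Λ)).primeCompl K
    rw [show ((⊥ : Ideal Λ).comap (algebraMap R Λ)).primeCompl = nonZeroDivisors R from by
      ext x
      rw [mem_nonZeroDivisors_iff_ne_zero]
      show ¬ (algebraMap R Λ x = 0) ↔ x ≠ 0
      rw [map_eq_zero_iff _ hinj]]
    infer_instance
  have hL : IsLocalization.AtPrime L (⊥ : Ideal Λ) := by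
    show IsLocalization (⊥ : Ideal Λ).primeCompl L
    rw [Ideal.primeCompl_bot]
    infer_instance
  obtain ⟨A₁, _, _, hA₁, g₁, φ₁, hφ₁, -, hne⟩ := SeparableResidue.resolvable_of_local φ₀ (⊥ : Ideal Λ)
    (Rp := K) (Λq := L) (fun x hx => ⟨1, 1, one_ne_zero, by simp [(Submodule.mem_bot Λ).1 hx]⟩)
    SeparableResidue.indSmooth_field
  have : IsNoetherianRing A₁ := Algebra.FiniteType.isNoetherianRing R A₁
  obtain ⟨r, a, ha⟩ := Submodule.fg_iff_exists_fin_generating_family.1
    (IsNoetherian.noetherian (_root_.Smoothing.singularIdeal R A₁))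
  have hspan : (_root_.Smoothing.singularIdeal R A₁).map φ₁ = Ideal.span (Set.range fun j => φ₁ (a j)) := by
    rw [← ha]
    change Ideal.map φ₁ (Ideal.span (Set.range a)) = _
    rw [Ideal.map_span, ← Set.range_comp]
    rfl
  have hI : (_root_.Smoothing.singularIdeal R A₁).map φ₁ ≠ ⊥ := fun h => hne (by
    rw [_root_.Smoothing.singRad, h, Ideal.radical_bot_of_isReduced])
  obtain ⟨N, hN⟩ := IsDiscreteValuationRing.ideal_eq_span_pow_irreducible hI hπΛ
  obtain ⟨B, _, _, α, hBfp, hπB, hlift⟩ := exists_linearized_at a ha N π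
  obtain ⟨hB, hhB⟩ := hlift Λ φ₁ (by rw [← hspan, hN]; exact Ideal.mem_span_singleton_self _)
  obtain ⟨C, _, _, ι, ret, M, hCfp, hret, hM0, hstd, -⟩ :=
    StrictRetract.exists_retract (R := R) (fun _ : Fin 1 => algebraMap R B π) (fun _ => hπB)
  let φC : C →ₐ[R] Λ := hB.comp ret
  let p : R := π ^ M
  let I₈ : Ideal R := Ideal.span (Set.range fun _ : Fin 1 => p ^ 8)
  let J : Ideal Λ := I₈.map (algebraMap R Λ)
  have hI₈ : I₈ ≤ maximalIdeal R := by
    rw [Ideal.span_le]
    rintro _ ⟨i, rfl⟩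
    rw [hπ.maximalIdeal_eq, SetLike.mem_coe, Ideal.mem_span_singleton]
    exact dvd_pow (dvd_pow_self π hM0.ne') (by norm_num)
  have hJ : J ≤ maximalIdeal Λ := (Ideal.map_mono hI₈).trans he.le
  have hnil : IsNilpotent ((maximalIdeal R).map (Ideal.Quotient.mk I₈)) := by
    refine ⟨M * 8, ?_⟩
    rw [← Ideal.map_pow, hπ.maximalIdeal_eq, Ideal.span_singleton_pow, Ideal.map_span, Set.image_singleton,
      Ideal.zero_eq_bot, Ideal.span_singleton_eq_bot, Ideal.Quotient.eq_zero_iff_mem]
    exact Ideal.subset_span ⟨0, (pow_mul π M 8).symm⟩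
  have hindJ : _root_.Smoothing.IndSmooth (R ⧸ I₈) (Λ ⧸ J) := by
    have : Module.Flat (R ⧸ I₈) (Λ ⧸ J) :=
      Module.Flat.of_linearEquiv (R := R ⧸ I₈) (M := (R ⧸ I₈) ⊗[R] Λ)
        ({ ((TensorProduct.comm R _ _).trans
            ((Algebra.TensorProduct.quotIdealMapEquivTensorQuot Λ I₈).symm.toLinearEquiv.restrictScalars R)) with
          map_smul' := fun c z => by
            obtain ⟨c, rfl⟩ := Ideal.Quotient.mk_surjective c
            let e := (TensorProduct.comm R (R ⧸ I₈) Λ).trans
              ((Algebra.TensorProduct.quotIdealMapEquivTensorQuot Λ I₈).symm.toLinearEquiv.restrictScalars R)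
            show e (algebraMap R (R ⧸ I₈) c • z) = algebraMap R (R ⧸ I₈) c • e z
            rw [IsScalarTower.algebraMap_smul, IsScalarTower.algebraMap_smul, map_smul] } :
          (R ⧸ I₈) ⊗[R] Λ ≃ₗ[R ⧸ I₈] (Λ ⧸ J)).symm
    refine Groth.Agent.S2022.result ((maximalIdeal R).map (Ideal.Quotient.mk I₈)) hnil ?_
    have hmJ : ((maximalIdeal R).map (Ideal.Quotient.mk I₈)).map (algebraMap (R ⧸ I₈) (Λ ⧸ J)) =
        (maximalIdeal Λ).map (Ideal.Quotient.mk J) := by
      rw [← he, Ideal.map_map, Ideal.map_map]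
      rfl
    refine Nilpotent.indSmooth_congr (DoubleQuot.quotQuotEquivQuotOfLE hI₈).symm
      ((DoubleQuot.quotQuotEquivQuotOfLE hJ).symm.trans (Ideal.quotEquivOfEq hmJ.symm)) (fun c => ?_)
      (SeparableResidue.indSmooth_field (k := ResidueField R) (K := ResidueField Λ))
    obtain ⟨c, rfl⟩ := Ideal.Quotient.mk_surjective c
    rfl
  let φK : (C ⧸ I₈.map (algebraMap R C)) →ₐ[R ⧸ I₈] (Λ ⧸ J) :=
    { Ideal.Quotient.lift (I₈.map (algebraMap R C))
        ((Ideal.Quotient.mk J).comp φC.toRingHom) (fun z hz => by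
          refine (Ideal.map_le_iff_le_comap (K := RingHom.ker ((Ideal.Quotient.mk J).comp φC.toRingHom))).2
            ?_ hz
          intro t ht
          show Ideal.Quotient.mk J (φC (algebraMap _ C t)) = 0
          rw [AlgHom.commutes, Ideal.Quotient.eq_zero_iff_mem]
          exact Ideal.mem_map_of_mem _ ht) with
      commutes' := fun t => by
        obtain ⟨t, rfl⟩ := Ideal.Quotient.mk_surjective t
        show Ideal.Quotient.mk J (φC (algebraMap _ C t)) = _
        rw [AlgHom.commutes]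
        rfl }
  have hCK : Algebra.FinitePresentation (R ⧸ I₈) (C ⧸ I₈.map (algebraMap R C)) := by
    have : Algebra.FinitePresentation R (C ⧸ I₈.map (algebraMap R C)) :=
      Algebra.FinitePresentation.quotient (Ideal.FG.map (IsNoetherian.noetherian I₈) _)
    exact Algebra.FinitePresentation.of_restrict_scalars_finitePresentation R (R ⧸ I₈) _
  have hq : ((maximalIdeal Λ).map (Ideal.Quotient.mk J)).IsPrime :=
    Ideal.map_isPrime_of_surjective Ideal.Quotient.mk_surjective (by rwa [Ideal.mk_ker])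
  have hresK : _root_.Smoothing.Resolvable (R ⧸ I₈) φK ((maximalIdeal Λ).map (Ideal.Quotient.mk J)) := by
    obtain ⟨D, _, _, hD, g, h, hgh⟩ := hindJ (C ⧸ I₈.map (algebraMap R C)) hCK φK
    have htop : _root_.Smoothing.singRad (R ⧸ I₈) h = ⊤ := by
      rw [_root_.Smoothing.singRad, Ideal.radical_eq_top]
      rw [show _root_.Smoothing.singularIdeal (R ⧸ I₈) D = ⊤ from
        (Ideal.eq_top_iff_one _).2 (SingularComp.mem_singularIdeal_iff.2 fun Q _ _ =>
          ResolveDimZero.isSmoothAt_of_smooth Q), Ideal.map_top]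
    exact ⟨D, inferInstance, inferInstance, inferInstance, g, h, hgh, htop ▸ le_top,
      fun hle => hq.ne_top (top_le_iff.1 (htop ▸ hle))⟩
  have hresC : _root_.Smoothing.Resolvable R φC (maximalIdeal Λ) := by
    refine ResolveMod.resolvable_of_mod φC (maximalIdeal Λ) (fun _ : Fin 1 => p) ?_ ?_ ?_ I₈ rfl φK
      (fun c => rfl) hresK
    · intro i z hz
      obtain ⟨z, rfl⟩ := Ideal.Quotient.mk_surjective z
      rw [← map_pow (Ideal.Quotient.mk _), ← map_mul, Ideal.Quotient.eq_zero_iff_mem] at hz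
      rw [← map_mul, Ideal.Quotient.eq_zero_iff_mem]
      have : IsEmpty {j : Fin 1 // (j : ℕ) < (i : ℕ)} := ⟨fun j => by have := j.2; omega⟩
      rw [Set.range_eq_empty, Ideal.span_empty, Submodule.mem_bot] at hz ⊢
      have hp : p ≠ 0 := pow_ne_zero _ hπ.ne_zero
      rw [mul_eq_zero] at hz ⊢
      exact hz.imp (fun h => absurd (pow_eq_zero_iff (two_ne_zero) |>.1 h) hp) id
    · intro i z hz
      obtain ⟨z, rfl⟩ := Ideal.Quotient.mk_surjective z
      rw [← map_pow (Ideal.Quotient.mk _), ← map_mul, Ideal.Quotient.eq_zero_iff_mem] at hz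
      rw [← map_mul, Ideal.Quotient.eq_zero_iff_mem]
      have : IsEmpty {j : Fin 1 // (j : ℕ) < (i : ℕ)} := ⟨fun j => by have := j.2; omega⟩
      rw [Set.range_eq_empty, Ideal.span_empty, Submodule.mem_bot] at hz ⊢
      have hp : algebraMap R Λ p ≠ 0 := (map_ne_zero_iff _ hinj).2 (pow_ne_zero _ hπ.ne_zero)
      rw [mul_eq_zero] at hz ⊢
      exact hz.imp (fun h => absurd (pow_eq_zero_iff (two_ne_zero) |>.1 h) hp) id
    · intro i
      have h1 := hstd i
      rwa [AlgHom.commutes, ← map_pow] at h1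
  obtain ⟨D, _, _, hD, g, h, hgh, -, hnle⟩ := hresC
  have htop : (_root_.Smoothing.singularIdeal R D).map h = ⊤ := by
    by_contra hc
    exact hnle ((Ideal.IsPrime.radical_le_iff inferInstance).2 (IsLocalRing.le_maximalIdeal hc))
  obtain ⟨E, _, _, hE, u, v, huv⟩ := exists_smooth_factor h htop
  refine ⟨E, inferInstance, inferInstance, hE, ((u.comp g).comp ι).comp (α.comp g₁), v, ?_⟩
  rw [← hφ₁, ← hhB]
  have hrB : φC.comp ι = hB := by
    show (hB.comp ret).comp ι = hB
    rw [AlgHom.comp_assoc, hret, AlgHom.comp_id]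
  simp only [← AlgHom.comp_assoc, huv, hgh, hrB]

end Groth.Agent.Lib.Smoothing.DVR
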