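import Groth.Agent.Lib.Smoothing.DesingularizeModel
import Mathlib.RingTheory.FinitePresentation
import Mathlib.RingTheory.Localization.Ideal

/-!
# The desingularization lemma
-/

universe u

open MvPolynomial

namespace Groth.Agent.Lib.Smoothing.Desingularize

open DesingularizeModel

theorem isSmoothAt_of_smooth_away {R D : Type u} [CommRing R] [CommRing D] [Algebra R D]
    [Algebra.FinitePresentation R D] {h : D} [Algebra.Smooth R (Localization.Away h)] (Q : Ideal D)
    [Q.IsPrime] (hQ : h ∉ Q) : Algebra.IsSmoothAt R Q :=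
  Algebra.basicOpen_subset_smoothLocus_iff_smooth.2 ‹_›
    (show (⟨Q, ‹_›⟩ : PrimeSpectrum D) ∈ PrimeSpectrum.basicOpen h from hQ)

theorem smooth_away_mul {R D : Type u} [CommRing R] [CommRing D] [Algebra R D]
    [Algebra.FinitePresentation R D] (δ u : D) [Algebra.Smooth R (Localization.Away δ)] :
    Algebra.Smooth R (Localization.Away (δ * u)) := by
  rw [← Algebra.basicOpen_subset_smoothLocus_iff_smooth]
  exact Set.Subset.trans (SetLike.coe_subset_coe.2 (PrimeSpectrum.basicOpen_mul_le_left δ u))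
    (Algebra.basicOpen_subset_smoothLocus_iff_smooth.2 ‹_›)

variable {R : Type u} [CommRing R] {c n : ℕ} (π : R)

section
variable (M : Matrix (Fin n) (Fin c) R) (a : Fin n → R)

/-- `W = M y + π v`. -/
noncomputable def wPoly (i : Fin n) : MvPolynomial (Fin (c + n)) R :=
  ∑ k, MvPolynomial.C (M i k) * X (Fin.castAdd n k) + MvPolynomial.C π * X (Fin.natAdd c i)

/-- `x = a + π² W`. -/
noncomputable def xPoly (i : Fin n) : MvPolynomial (Fin (c + n)) R :=
  MvPolynomial.C (a i) + MvPolynomial.C π ^ 2 * wPoly π M i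

end

set_option maxHeartbeats 1600000 in
theorem exists_desingularization {Λ A : Type u} [CommRing Λ]
    [Algebra R Λ] (π : R) (hΛ : ∀ x : Λ, π ^ 2 • x = 0 → π • x = 0) [CommRing A] [Algebra R A]
    (φ : A →ₐ[R] Λ) (hπ : _root_.Smoothing.IsStrictlyStandard R A (algebraMap R A π))
    (ρ : A →ₐ[R] R ⧸ Ideal.span {π ^ 4})
    (hρ : ∀ (a : A) (r : R), Ideal.Quotient.mk (Ideal.span {π ^ 4}) r = ρ a →
      algebraMap R Λ r - φ a ∈ Ideal.span {algebraMap R Λ (π ^ 4)}) :
    ∃ (B : Type u) (_ : CommRing B) (_ : Algebra R B), Algebra.FinitePresentation R B ∧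
      ∃ (α : A →ₐ[R] B) (β : B →ₐ[R] Λ), β.comp α = φ ∧
        ∀ r : R, (∀ x : R, π ^ 2 * x = 0 → π * (r * x) = 0) →
          algebraMap R B r ∈ _root_.Smoothing.singularIdeal R B := by
  classical
  have hss := hπ
  obtain ⟨P, hmem, hk⟩ := hπ
  obtain ⟨M', hM'⟩ := Standard.exists_mul_eq_smul_one P hmem
  choose a ha using fun i => Ideal.Quotient.mk_surjective (ρ (P.hom (X i)))
  have haev : ∀ p, Ideal.Quotient.mk (Ideal.span {π ^ 4}) (eval a p) = ρ (P.hom p) := by
    intro p
    suffices (Ideal.Quotient.mkₐ R (Ideal.span {π ^ 4})).comp (aeval a) = ρ.comp P.hom by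
      have := DFunLike.congr_fun this p
      simpa [aeval_eq_eval] using this
    apply algHom_ext
    intro i
    simp [ha i]
  have hfa : ∀ j, ∃ b, eval a (P.rel j) = π ^ 4 * b := fun j => by
    have h1 := haev (P.rel j)
    rw [show P.hom (P.rel j) = 0 from P.ker_eq.ge (Ideal.subset_span ⟨j, rfl⟩), map_zero,
      Ideal.Quotient.eq_zero_iff_mem, Ideal.mem_span_singleton] at h1
    exact h1
  choose b hb using hfa
  -- the Jacobian at `a` and its right inverse modulo `π⁴`
  let J : Fin P.c → Fin P.n → R := fun k i => eval a (pderiv i (P.rel (Fin.castLE P.hcm k)))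
  choose Mp hMp using fun i k => P.surj (M' i k)
  let M : Matrix (Fin P.n) (Fin P.c) R := Matrix.of fun i k => eval a (Mp i k)
  have hJM : ∀ k l, ∃ N, ∑ i, J k i * M i l = (if k = l then π else 0) + π ^ 4 * N := by
    intro k l
    have h1 : P.hom (∑ i, pderiv i (P.rel (Fin.castLE P.hcm k)) * Mp i l -
        (if k = l then MvPolynomial.C π else 0)) = 0 := by
      have h2 := congrFun (congrFun hM' k) l
      simp only [Matrix.mul_apply, Standard.jac, Matrix.of_apply, Matrix.smul_apply, Matrix.one_apply,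
        smul_eq_mul, mul_ite, mul_one, mul_zero] at h2
      simp only [map_sub, map_sum, map_mul, hMp, h2, apply_ite P.hom, map_zero]
      rw [show P.hom (MvPolynomial.C π) = algebraMap R A π from P.hom.commutes π, sub_self]
    have h3 := haev (∑ i, pderiv i (P.rel (Fin.castLE P.hcm k)) * Mp i l -
      (if k = l then MvPolynomial.C π else 0))
    rw [h1, map_zero, Ideal.Quotient.eq_zero_iff_mem, Ideal.mem_span_singleton] at h3
    obtain ⟨N, hN⟩ := h3
    refine ⟨N, ?_⟩
    simp only [map_sub, map_sum, map_mul, apply_ite (eval a), eval_C, map_zero] at hN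
    simp only [J, M, Matrix.of_apply]
    linear_combination hN
  choose N hN using hJM
  let V := MvPolynomial (Fin (P.c + P.n)) R
  let y : Fin P.c → MvPolynomial (Fin (P.c + P.n)) R := fun k => X (Fin.castAdd P.n k)
  let v : Fin P.n → MvPolynomial (Fin (P.c + P.n)) R := fun i => X (Fin.natAdd P.c i)
  let x : Fin P.n → MvPolynomial (Fin (P.c + P.n)) R := xPoly π M a
  let F : Fin P.m → MvPolynomial (Fin (P.c + P.n)) R := fun j => aeval x (P.rel j)
  have htay : ∀ j, ∃ q, F j = MvPolynomial.C (eval a (P.rel j)) + MvPolynomial.C π ^ 2 *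
      ∑ i, MvPolynomial.C (eval a (pderiv i (P.rel j))) * wPoly π M i + MvPolynomial.C π ^ 4 * q := by
    intro j
    obtain ⟨q, hq⟩ := exists_taylor a (π ^ 2) (wPoly π M) (P.rel j)
    simp only [MvPolynomial.algebraMap_eq, map_pow] at hq
    exact ⟨q, hq.trans (by ring)⟩
  choose q hq using htay
  let h : Fin P.c → MvPolynomial (Fin (P.c + P.n)) R := fun k =>
    MvPolynomial.C (b (Fin.castLE P.hcm k)) + MvPolynomial.C π ^ 2 * ∑ l, MvPolynomial.C (N k l) * y l +
      q (Fin.castLE P.hcm k)
  let g := rel π J h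
  have hFg : ∀ k, F (Fin.castLE P.hcm k) = MvPolynomial.C π ^ 3 * g k := by
    intro k
    rw [hq, hb, map_mul, map_pow]
    have h1 : ∑ i, MvPolynomial.C (J k i) * wPoly π M i = MvPolynomial.C π * y k +
        MvPolynomial.C π ^ 4 * (∑ l, MvPolynomial.C (N k l) * y l) +
          MvPolynomial.C π * ∑ i, MvPolynomial.C (J k i) * v i := by
      simp only [wPoly, mul_add, Finset.sum_add_distrib, Finset.mul_sum]
      congr 1
      · rw [Finset.sum_comm]
        have h2 : ∀ l, ∑ i, MvPolynomial.C (J k i) * (MvPolynomial.C (M i l) * y l) =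
            (if k = l then MvPolynomial.C π * y l else 0) +
              MvPolynomial.C π ^ 4 * (MvPolynomial.C (N k l) * y l) := by
          intro l
          simp only [← mul_assoc, ← map_mul, ← Finset.sum_mul, ← map_sum]
          rw [hN k l, map_add, map_mul, map_pow, apply_ite MvPolynomial.C, map_zero, add_mul, ite_mul,
            zero_mul]
        rw [Finset.sum_congr rfl fun l _ => h2 l, Finset.sum_add_distrib, Finset.sum_ite_eq,
          if_pos (Finset.mem_univ k)]
      · exact Finset.sum_congr rfl fun i _ => by ring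
    rw [show (∑ i, MvPolynomial.C (eval a (pderiv i (P.rel (Fin.castLE P.hcm k)))) * wPoly π M i) =
      ∑ i, MvPolynomial.C (J k i) * wPoly π M i from rfl, h1]
    simp only [g, rel, h, y, v]
    ring
  have hF2 : ∀ j, ∃ e, F j = MvPolynomial.C π ^ 2 * e := fun j =>
    ⟨MvPolynomial.C π ^ 2 * MvPolynomial.C (b j) +
      ∑ i, MvPolynomial.C (eval a (pderiv i (P.rel j))) * wPoly π M i + MvPolynomial.C π ^ 2 * q j, by
      rw [hq, hb, map_mul, map_pow]; ring⟩
  let P₀ := MvPolynomial (Fin (P.c + P.n)) R ⧸ Ideal.span (Set.range g)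
  let B := MvPolynomial (Fin (P.c + P.n)) R ⧸ Ideal.span (Set.range g ∪ Set.range F)
  have : Algebra.FinitePresentation R B := Algebra.FinitePresentation.quotient
    (Submodule.fg_span ((Set.finite_range g).union (Set.finite_range F)))
  have : Algebra.FinitePresentation R P₀ := Algebra.FinitePresentation.quotient
    (Submodule.fg_span (Set.finite_range g))
  let θ : P₀ →ₐ[R] B := Ideal.Quotient.factorₐ R (Ideal.span_mono Set.subset_union_left)
  have hθmk : ∀ p, θ (Ideal.Quotient.mk (Ideal.span (Set.range g)) p) = Ideal.Quotient.mk _ p :=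
    fun p => rfl
  have hθ : Function.Surjective θ := fun z => by
    obtain ⟨p, rfl⟩ := Ideal.Quotient.mk_surjective z
    exact ⟨_, hθmk p⟩
  -- the structure map
  let α₀ : MvPolynomial (Fin P.n) R →ₐ[R] B := (Ideal.Quotient.mkₐ R _).comp (aeval x)
  have hα₀ : ∀ p ∈ RingHom.ker (P.hom : MvPolynomial (Fin P.n) R →+* A), α₀ p = 0 := by
    intro p hp
    refine (Ideal.span_le (I := RingHom.ker α₀)).2 ?_ (P.ker_eq.le hp)
    rintro _ ⟨j, rfl⟩
    exact Ideal.Quotient.eq_zero_iff_mem.2 (Ideal.subset_span (Or.inr ⟨j, rfl⟩))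
  let α : A →ₐ[R] B :=
    (Ideal.Quotient.liftₐ (RingHom.ker P.hom) α₀ hα₀).comp
      (Ideal.quotientKerAlgEquivOfSurjective P.surj).symm.toAlgHom
  have hα : ∀ p, α (P.hom p) = Ideal.Quotient.mk _ (aeval x p) := fun p => by
    show Ideal.Quotient.liftₐ (RingHom.ker P.hom) α₀ hα₀
      ((Ideal.quotientKerAlgEquivOfSurjective P.surj).symm (P.hom p)) = _
    rw [show (Ideal.quotientKerAlgEquivOfSurjective P.surj).symm (P.hom p) =
      Ideal.Quotient.mk _ p from (AlgEquiv.symm_apply_eq _).2 rfl]
    rfl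
  -- the map to `Λ`
  have hmu : ∀ i, ∃ w, φ (P.hom (X i)) = algebraMap R Λ (a i) + algebraMap R Λ π ^ 4 * w := fun i => by
    obtain ⟨w, hw⟩ := Ideal.mem_span_singleton.1 (hρ (P.hom (X i)) (a i) (ha i))
    rw [map_pow] at hw
    exact ⟨-w, by linear_combination -hw⟩
  choose μ hμ using hmu
  let vals : Fin (P.c + P.n) → Λ := Fin.append (fun _ => 0) (fun i => algebraMap R Λ π * μ i)
  have hvals : ∀ p, aeval vals (aeval x p) = φ (P.hom p) := by
    intro p
    suffices (aeval vals).comp (aeval x) = φ.comp P.hom from DFunLike.congr_fun this p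
    apply algHom_ext
    intro i
    simp only [AlgHom.comp_apply, aeval_X, x, xPoly, wPoly, map_add, map_mul, map_pow, map_sum, aeval_C,
      vals, Fin.append_left, Fin.append_right, mul_zero, Finset.sum_const_zero, zero_add, hμ i]
    ring
  have hvF : ∀ j, aeval vals (F j) = 0 := fun j => by
    rw [hvals, show P.hom (P.rel j) = 0 from P.ker_eq.ge (Ideal.subset_span ⟨j, rfl⟩), map_zero]
  have hvg : ∀ k, aeval vals (g k) = 0 := by
    intro k
    have h1 := hvF (Fin.castLE P.hcm k)
    rw [hFg, map_mul, map_pow, aeval_C] at h1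
    have h2 : ∃ e, aeval vals (g k) = algebraMap R Λ π * e :=
      ⟨∑ i, algebraMap R Λ (J k i) * μ i + aeval vals (h k), by
        simp only [g, rel, map_add, map_mul, map_sum, aeval_C, aeval_X, vals, Fin.append_left,
          Fin.append_right, zero_add, mul_add, Finset.mul_sum]
        congr 1
        exact Finset.sum_congr rfl fun i _ => by ring⟩
    obtain ⟨e, he⟩ := h2
    rw [he] at h1 ⊢
    have s1 : π • (π ^ 2 • e) = 0 := hΛ _ (by
      simp only [Algebra.smul_def, map_pow]; linear_combination h1)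
    have s2 : π • (π • e) = 0 := hΛ _ (by
      simp only [Algebra.smul_def, map_pow] at s1 ⊢; linear_combination s1)
    have s3 : π • e = 0 := hΛ _ (by
      simp only [Algebra.smul_def, map_pow] at s2 ⊢; linear_combination s2)
    rwa [Algebra.smul_def] at s3
  let β : B →ₐ[R] Λ := Ideal.Quotient.liftₐ _ (aeval vals) fun p hp => by
    refine (Ideal.span_le (I := RingHom.ker (aeval (R := R) vals))).2 ?_ hp
    rintro _ (⟨k, rfl⟩ | ⟨j, rfl⟩)
    · exact hvg k
    · exact hvF j
  refine ⟨B, inferInstance, inferInstance, inferInstance, α, β, ?_, ?_⟩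
  · refine AlgHom.ext fun z => ?_
    obtain ⟨p, rfl⟩ := P.surj z
    show β (α (P.hom p)) = _
    rw [hα]
    exact hvals p
  intro r hr
  rw [_root_.Smoothing.singularIdeal, PrimeSpectrum.mem_vanishingIdeal]
  intro Q hQ
  by_contra hrQ
  refine hQ ?_
  show Algebra.IsSmoothAt R Q.asIdeal
  by_cases hπQ : algebraMap R B π ∈ Q.asIdeal
  · -- near `π = 0`
    let δ : P₀ := Ideal.Quotient.mk _ (jac π J h)
    let E := Localization.Away δ
    have : Algebra.Smooth R E := DesingularizeModel.smooth π J h
    let Q' : Ideal P₀ := Q.asIdeal.comap θ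
    have hπQ' : algebraMap R P₀ π ∈ Q' := by
      show θ (algebraMap R P₀ π) ∈ Q.asIdeal
      rwa [AlgHom.commutes]
    have hrQ' : algebraMap R P₀ r ∉ Q' := fun hr' => hrQ (by
      have := (show θ (algebraMap R P₀ r) ∈ Q.asIdeal from hr')
      rwa [AlgHom.commutes] at this)
    have hδQ' : δ ∉ Q' := fun hδ => by
      obtain ⟨e, he⟩ := Ideal.mem_span_singleton.1 (jac_sub_one_mem π J h)
      refine (inferInstance : Q'.IsPrime).ne_top ((Ideal.eq_top_iff_one _).2 ?_)
      have h1 : (1 : P₀) = δ - algebraMap R P₀ π * Ideal.Quotient.mk _ e := by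
        have h2 := congrArg (Ideal.Quotient.mk (Ideal.span (Set.range g))) he
        rw [map_sub, map_mul, map_one] at h2
        show _ = δ - Ideal.Quotient.mk _ (MvPolynomial.C π) * _
        linear_combination -h2
      rw [h1]
      exact Q'.sub_mem hδ (Q'.mul_mem_right _ hπQ')
    have hdisj : Disjoint (Submonoid.powers δ : Set P₀) (Q' : Set P₀) :=
      (Ideal.disjoint_powers_iff_notMem δ (inferInstance : Q'.IsPrime).isRadical).2 hδQ'
    let qE : Ideal E := Q'.map (algebraMap P₀ E)
    have hqE : qE.IsPrime :=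
      IsLocalization.isPrime_of_isPrime_disjoint (Submonoid.powers δ) E Q' inferInstance hdisj
    have hcomap : qE.comap (algebraMap P₀ E) = Q' :=
      IsLocalization.comap_map_of_isPrime_disjoint (Submonoid.powers δ) E inferInstance hdisj
    let ε : MvPolynomial (Fin (P.c + P.n)) R →ₐ[R] E :=
      (IsScalarTower.toAlgHom R P₀ E).comp (Ideal.Quotient.mkₐ R _)
    let Fb : Fin P.m → E := fun j => ε (F j)
    have hεC : ∀ t, ε (MvPolynomial.C t) = algebraMap R E t := fun t => ε.commutes t
    have hlead : ∀ k, Fb (Fin.castLE P.hcm k) = 0 := fun k => by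
      show ε (F (Fin.castLE P.hcm k)) = 0
      have h0 : Ideal.Quotient.mk (Ideal.span (Set.range g)) (g k) = 0 :=
        Ideal.Quotient.eq_zero_iff_mem.2 (Ideal.subset_span ⟨k, rfl⟩)
      rw [hFg, map_mul]
      show _ * algebraMap P₀ E (Ideal.Quotient.mk _ (g k)) = 0
      rw [h0, map_zero, mul_zero]
    have hmul : ∀ j, algebraMap R E r * Fb j ∈
        (⊥ : Ideal E) ⊔ qE * Ideal.span (Set.range Fb) := by
      intro j
      refine Ideal.mem_sup_right ?_
      by_cases hj : (j : ℕ) < P.c
      · have h1 : Fb j = 0 := hlead ⟨j, hj⟩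
        simp [h1]
      -- `π F_j ∈ (F)²`
      have h1 := Ideal.mem_map_of_mem (ε.comp (aeval x)).toRingHom
        (hk (MvPolynomial.C π) (P.hom.commutes π) j (not_lt.1 hj))
      rw [Ideal.map_sup, Ideal.map_span, Ideal.map_pow, Ideal.map_span, ← Set.range_comp] at h1
      have hbot : Ideal.span ((ε.comp (aeval x)).toRingHom '' (P.rel '' {j' : Fin P.m | (j' : ℕ) < P.c}))
          = ⊥ := by
        rw [Ideal.span_eq_bot]
        rintro _ ⟨_, ⟨j', hj', rfl⟩, rfl⟩
        exact hlead ⟨j', hj'⟩
      rw [hbot, bot_sup_eq, pow_two] at h1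
      have hsub : Ideal.span (Set.range ((ε.comp (aeval x)).toRingHom ∘ P.rel)) ≤
          Ideal.span {algebraMap R E π ^ 2} := by
        rw [Ideal.span_le]
        rintro _ ⟨j', rfl⟩
        obtain ⟨e, he⟩ := hF2 j'
        refine Ideal.mem_span_singleton.2 ⟨ε e, ?_⟩
        show ε (F j') = _
        rw [he, map_mul, map_pow, hεC]
      obtain ⟨z, hz, hzeq⟩ := Ideal.mem_span_singleton_mul.1 ((Ideal.mul_mono_left hsub) h1)
      have hzeq' : algebraMap R E π ^ 2 * z = algebraMap R E π * Fb j := by
        rw [hzeq, ← hεC]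
        show ε (aeval x (MvPolynomial.C π * P.rel j)) = _
        rw [map_mul, aeval_C, MvPolynomial.algebraMap_eq, map_mul]
      obtain ⟨z', hz'⟩ := Ideal.mem_span_singleton.1 (hsub hz)
      obtain ⟨e, he⟩ := hF2 j
      have he' : Fb j = algebraMap R E π ^ 2 * ε e := by
        show ε (F j) = _
        rw [he, map_mul, map_pow, hεC]
      have h2 := mul_eq_zero_of_flat (E := E) hr (e := ε e - algebraMap R E π * z') (by
        linear_combination (algebraMap R E π ^ 2) * hz' - hzeq' - algebraMap R E π * he')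
      have h3 : algebraMap R E r * Fb j = algebraMap R E π * (algebraMap R E r * z) := by
        linear_combination h2 + algebraMap R E r * he' - (algebraMap R E π * algebraMap R E r) * hz'
      rw [h3]
      refine Ideal.mul_mem_mul ?_ (Ideal.mul_mem_left _ _ hz)
      rw [IsScalarTower.algebraMap_apply R P₀ E]
      exact Ideal.mem_map_of_mem _ hπQ'
    obtain ⟨u, hu, huF⟩ := LocalJacobian.exists_mul_mem Fb ⊥ qE (algebraMap R E r) (fun h' => hrQ' (by
      rw [← hcomap]
      show algebraMap P₀ E (algebraMap R P₀ r) ∈ qE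
      rwa [← IsScalarTower.algebraMap_apply])) hmul
    obtain ⟨⟨u₀, d, hd⟩, hu₀⟩ := IsLocalization.surj (Submonoid.powers δ) u
    have hu₀Q : u₀ ∉ Q' := fun h' => by
      rw [← hcomap] at h'
      have h2 : u * algebraMap P₀ E d ∈ qE := by rw [hu₀]; exact h'
      rcases hqE.mem_or_mem h2 with h3 | h3
      · exact hu h3
      · exact hqE.ne_top (Ideal.eq_top_of_isUnit_mem _ h3 (IsLocalization.map_units E ⟨d, hd⟩))
    have hkill : ∀ j, ∃ l : ℕ, δ ^ l * (u₀ * Ideal.Quotient.mk _ (F j)) = 0 := fun j => by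
      have h1 : algebraMap P₀ E (u₀ * Ideal.Quotient.mk _ (F j)) = 0 := by
        rw [map_mul, ← hu₀]
        have h2 : u * Fb j = 0 := huF j
        show u * algebraMap P₀ E d * Fb j = 0
        linear_combination algebraMap P₀ E d * h2
      obtain ⟨⟨_, l, rfl⟩, hl⟩ := (IsLocalization.map_eq_zero_iff (Submonoid.powers δ) E _).1 h1
      exact ⟨l, hl⟩
    choose l hl using hkill
    let w : P₀ := δ * (δ ^ (∑ j, l j) * u₀)
    have hwQ : θ w ∉ Q.asIdeal := fun h' => by
      rcases (inferInstance : Q'.IsPrime).mem_or_mem (show δ * (δ ^ (∑ j, l j) * u₀) ∈ Q' from h')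
        with h1 | h1
      · exact hδQ' h1
      · rcases (inferInstance : Q'.IsPrime).mem_or_mem h1 with h2 | h2
        · exact hδQ' (Ideal.IsPrime.mem_of_pow_mem inferInstance _ h2)
        · exact hu₀Q h2
    have hwker : ∀ z, θ z = 0 → w * z = 0 := by
      intro z hz
      obtain ⟨p, rfl⟩ := Ideal.Quotient.mk_surjective z
      rw [hθmk, Ideal.Quotient.eq_zero_iff_mem] at hz
      suffices Ideal.span (Set.range g ∪ Set.range F) ≤
          ((⊥ : Ideal P₀).colon (Ideal.span {w})).comap (Ideal.Quotient.mk _) by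
        have h1 := Submodule.mem_colon.1 (this hz) w (Ideal.subset_span rfl)
        rwa [Submodule.mem_bot, smul_eq_mul, mul_comm] at h1
      rw [Ideal.span_le]
      rintro p (⟨k, rfl⟩ | ⟨j, rfl⟩)
      · refine Submodule.mem_colon.2 fun t _ => ?_
        have h0 : Ideal.Quotient.mk (Ideal.span (Set.range g)) (g k) = 0 :=
          Ideal.Quotient.eq_zero_iff_mem.2 (Ideal.subset_span ⟨k, rfl⟩)
        simp [h0]
      · refine Submodule.mem_colon.2 fun t ht => ?_
        obtain ⟨t, rfl⟩ := Ideal.mem_span_singleton'.1 ht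
        rw [Submodule.mem_bot, smul_eq_mul]
        have h1 : δ ^ (∑ j', l j') = δ ^ (l j) * δ ^ (∑ j' ∈ Finset.univ.erase j, l j') := by
          rw [← pow_add, ← Finset.add_sum_erase _ _ (Finset.mem_univ j)]
        simp only [w, h1]
        linear_combination (t * δ * δ ^ (∑ j' ∈ Finset.univ.erase j, l j')) * hl j
    have : Algebra.Smooth R (Localization.Away w) := smooth_away_mul δ _
    have := smooth_away_of_killed θ hθ w hwker
    exact isSmoothAt_of_smooth_away Q.asIdeal hwQ
  · -- away from `π`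
    let Aπ := Localization.Away (algebraMap R A π)
    have : Algebra.Smooth R Aπ := (Standard.smooth_stablyFree _ hss).1
    let T := MvPolynomial (Fin P.c) Aπ
    have : Algebra.Smooth Aπ T := ⟨inferInstance, inferInstance⟩
    have : Algebra.Smooth R T := Algebra.Smooth.comp R Aπ T
    let inv : Aπ := IsLocalization.Away.invSelf (algebraMap R A π)
    have hinv : algebraMap R T π * MvPolynomial.C inv = 1 := by
      rw [IsScalarTower.algebraMap_apply R Aπ T, MvPolynomial.algebraMap_eq, ← map_mul,
        IsScalarTower.algebraMap_apply R A Aπ, IsLocalization.Away.mul_invSelf, map_one]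
    let cA : A →ₐ[R] T := (IsScalarTower.toAlgHom R Aπ T).comp (IsScalarTower.toAlgHom R A Aπ)
    let tv : Fin P.n → T := fun i => MvPolynomial.C inv ^ 3 * (cA (P.hom (X i)) - algebraMap R T (a i) -
      algebraMap R T π ^ 2 * ∑ k, algebraMap R T (M i k) * X k)
    let tvals : Fin (P.c + P.n) → T := Fin.append X tv
    have htx : ∀ p, aeval tvals (aeval x p) = cA (P.hom p) := by
      intro p
      suffices (aeval tvals).comp (aeval x) = cA.comp P.hom from DFunLike.congr_fun this p
      apply algHom_ext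
      intro i
      simp only [AlgHom.comp_apply, aeval_X, x, xPoly, wPoly, map_add, map_mul, map_pow, map_sum,
        aeval_C, tvals, Fin.append_left, Fin.append_right, tv]
      linear_combination ((cA (P.hom (X i)) - algebraMap R T (a i) -
        algebraMap R T π ^ 2 * ∑ k, algebraMap R T (M i k) * X k) *
          ((algebraMap R T π * MvPolynomial.C inv) ^ 2 + algebraMap R T π * MvPolynomial.C inv + 1)) * hinv
    have htF : ∀ j, aeval tvals (F j) = 0 := fun j => by
      rw [htx, show P.hom (P.rel j) = 0 from P.ker_eq.ge (Ideal.subset_span ⟨j, rfl⟩), map_zero]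
    have htg : ∀ k, aeval tvals (g k) = 0 := fun k => by
      have h1 := htF (Fin.castLE P.hcm k)
      rw [hFg, map_mul, map_pow, aeval_C] at h1
      exact ((IsUnit.of_mul_eq_one _ hinv).pow 3).mul_right_eq_zero.1 h1
    let Φ : B →ₐ[R] T := Ideal.Quotient.liftₐ _ (aeval tvals) fun p hp => by
      refine (Ideal.span_le (I := RingHom.ker (aeval (R := R) tvals))).2 ?_ hp
      rintro _ (⟨k, rfl⟩ | ⟨j, rfl⟩)
      · exact htg k
      · exact htF j
    let Bπ := Localization.Away (algebraMap R B π)
    have hu : ∀ z : Submonoid.powers (algebraMap R B π), IsUnit (Φ z) := by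
      rintro ⟨_, k, rfl⟩
      rw [map_pow, AlgHom.commutes]
      exact (IsUnit.of_mul_eq_one _ hinv).pow k
    let Φ' : Bπ →ₐ[R] T := IsLocalization.liftAlgHom (S := Bπ) hu
    have hΦ : ∀ z, Φ' (algebraMap B Bπ z) = Φ z := fun z => IsLocalization.lift_eq hu z
    let ι : B →ₐ[R] Bπ := IsScalarTower.toAlgHom R B Bπ
    have hu' : ∀ z : Submonoid.powers (algebraMap R A π), IsUnit ((ι.comp α) z) := by
      rintro ⟨_, k, rfl⟩
      rw [map_pow, AlgHom.commutes, IsScalarTower.algebraMap_apply R B Bπ]
      exact (IsLocalization.Away.algebraMap_isUnit _).pow k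
    let κ : Aπ →ₐ[R] Bπ := IsLocalization.liftAlgHom (S := Aπ) hu'
    have hκ : ∀ z, κ (algebraMap A Aπ z) = ι (α z) := fun z => IsLocalization.lift_eq hu' z
    let Ψ : T →ₐ[R] Bπ :=
      { eval₂Hom κ.toRingHom (fun k => ι (Ideal.Quotient.mk _ (y k))) with
        commutes' := fun t => by
          show eval₂Hom _ _ (algebraMap R T t) = _
          rw [IsScalarTower.algebraMap_apply R Aπ T, MvPolynomial.algebraMap_eq, eval₂Hom_C]
          exact κ.commutes t }
    have hΨC : ∀ z, Ψ (MvPolynomial.C z) = κ z := fun z => eval₂Hom_C _ _ z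
    have hΨX : ∀ k, Ψ (X k) = ι (Ideal.Quotient.mk _ (y k)) := fun k => eval₂Hom_X' _ _ k
    have hΨcA : ∀ z, Ψ (cA z) = ι (α z) := fun z => (hΨC _).trans (hκ z)
    have hΨinv : algebraMap R Bπ π * Ψ (MvPolynomial.C inv) = 1 := by
      rw [← Ψ.commutes, ← map_mul, hinv, map_one]
    have := Algebra.Smooth.of_equiv (R := R) (A := T) (AlgEquiv.ofAlgHom Ψ Φ' (by
      apply IsLocalization.algHom_ext (Submonoid.powers (algebraMap R B π))
      apply Ideal.Quotient.algHom_ext
      apply algHom_ext
      intro i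
      refine Fin.addCases (fun k => ?_) (fun i => ?_) i
      · show Ψ (Φ' (algebraMap B Bπ (Ideal.Quotient.mk _ (y k)))) = ι (Ideal.Quotient.mk _ (y k))
        rw [hΦ, show Φ (Ideal.Quotient.mk _ (y k)) = X k from
          (aeval_X tvals _).trans (Fin.append_left _ _ k), hΨX]
      · show Ψ (Φ' (algebraMap B Bπ (Ideal.Quotient.mk _ (v i)))) = ι (Ideal.Quotient.mk _ (v i))
        rw [hΦ, show Φ (Ideal.Quotient.mk _ (v i)) = tv i from
          (aeval_X tvals _).trans (Fin.append_right _ _ i)]
        simp only [tv, map_mul, map_pow, map_sub, map_sum, hΨcA, hΨX, AlgHom.commutes, hα, aeval_X]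
        have h1 : ι (Ideal.Quotient.mk _ (x i)) = algebraMap R Bπ (a i) + algebraMap R Bπ π ^ 2 *
            (∑ k, algebraMap R Bπ (M i k) * ι (Ideal.Quotient.mk _ (y k)) +
              algebraMap R Bπ π * ι (Ideal.Quotient.mk _ (v i))) := by
          let μB : MvPolynomial (Fin (P.c + P.n)) R →ₐ[R] Bπ := ι.comp (Ideal.Quotient.mkₐ R _)
          show μB (xPoly π M a i) = _
          simp only [xPoly, wPoly, map_add, map_mul, map_pow, map_sum,
            show ∀ t, μB (MvPolynomial.C t) = algebraMap R Bπ t from fun t => μB.commutes t]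
          rfl
        rw [h1]
        linear_combination (ι (Ideal.Quotient.mk _ (v i)) * ((algebraMap R Bπ π * Ψ (MvPolynomial.C inv)) ^ 2
          + algebraMap R Bπ π * Ψ (MvPolynomial.C inv) + 1)) * hΨinv) (by
      apply AlgHom.coe_ringHom_injective
      apply MvPolynomial.ringHom_ext'
      · apply IsLocalization.ringHom_ext (Submonoid.powers (algebraMap R A π))
        refine RingHom.ext fun z => ?_
        obtain ⟨p, rfl⟩ := P.surj z
        show Φ' (Ψ (MvPolynomial.C (algebraMap A Aπ (P.hom p)))) = MvPolynomial.C (algebraMap A Aπ (P.hom p))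
        rw [hΨC, hκ, hα]
        exact (hΦ _).trans (htx p)
      · intro k
        show Φ' (Ψ (X k)) = X k
        rw [hΨX]
        exact (hΦ _).trans ((aeval_X tvals _).trans (Fin.append_left _ _ k))))
    exact isSmoothAt_of_smooth_away (h := algebraMap R B π) Q.asIdeal hπQ

end Groth.Agent.Lib.Smoothing.Desingularize
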