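import Groth.Agent.Lib.Smoothing.DesingularizeLift
import Groth.Agent.S6829

/-!
# Lifting factorisations modulo eighth powers of several elements
-/

universe u

open TensorProduct

namespace Groth.Agent.Lib.Smoothing.DesingularizeIter

theorem singularIdeal_quotient {R A : Type u} [CommRing R] [CommRing A] [Algebra R A]
    [Algebra.FinitePresentation R A] (K : Ideal R) [Algebra.FinitePresentation (R ⧸ K) (A ⧸ K.map (algebraMap R A))]
    {a : A} (ha : a ∈ _root_.Smoothing.singularIdeal R A) :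
    Ideal.Quotient.mk (K.map (algebraMap R A)) a ∈
      _root_.Smoothing.singularIdeal (R ⧸ K) (A ⧸ K.map (algebraMap R A)) := by
  let Ab := A ⧸ K.map (algebraMap R A)
  let ab : Ab := Ideal.Quotient.mk _ a
  have := SingularComp.smooth_away_of_mem ha
  let Aa := Localization.Away a
  let T := Localization.Away ab
  have hfs : Algebra.FormallySmooth (R ⧸ K) T := by
    refine .of_comp_surjective fun Q _ _ I hI f => ?_
    let _ : Algebra R Q := ((algebraMap (R ⧸ K) Q).comp (Ideal.Quotient.mk K)).toAlgebra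
    have : IsScalarTower R (R ⧸ K) Q := IsScalarTower.of_algebraMap_eq' rfl
    have hu : ∀ y : Submonoid.powers a,
        IsUnit (((IsScalarTower.toAlgHom R Ab T).comp (Ideal.Quotient.mkₐ R _)) y) := by
      rintro ⟨_, k, rfl⟩
      rw [map_pow]
      exact (IsLocalization.Away.algebraMap_isUnit ab).pow k
    let j : Aa →ₐ[R] T := IsLocalization.liftAlgHom (S := Aa) hu
    have hj : ∀ x, j (algebraMap A Aa x) = algebraMap Ab T (Ideal.Quotient.mk _ x) := fun x =>
      IsLocalization.lift_eq hu x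
    let l := Algebra.FormallySmooth.lift I ⟨2, hI⟩ ((f.restrictScalars R).comp j)
    have hl : ∀ x, Ideal.Quotient.mk I (l x) = f (j x) := fun x =>
      Algebra.FormallySmooth.mk_lift I ⟨2, hI⟩ _ x
    let ψ : A →ₐ[R] Q := l.comp (IsScalarTower.toAlgHom R A Aa)
    have hψ : ∀ x ∈ K.map (algebraMap R A), ψ x = 0 := fun x hx => by
      refine (Ideal.map_le_iff_le_comap (K := RingHom.ker ψ)).2 ?_ hx
      intro r hr
      show ψ (algebraMap R A r) = 0
      rw [AlgHom.commutes, IsScalarTower.algebraMap_apply R (R ⧸ K) Q, Ideal.Quotient.algebraMap_eq,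
        Ideal.Quotient.eq_zero_iff_mem.2 hr, map_zero]
    let ψb : Ab →ₐ[R ⧸ K] Q :=
      { (Ideal.Quotient.liftₐ _ ψ hψ).toRingHom with
        commutes' := fun r => by
          obtain ⟨r, rfl⟩ := Ideal.Quotient.mk_surjective r
          exact (Ideal.Quotient.liftₐ _ ψ hψ).commutes r }
    have hψb : ∀ x, ψb (Ideal.Quotient.mk _ x) = ψ x := fun x => rfl
    have hu' : ∀ y : Submonoid.powers ab, IsUnit (ψb y) := by
      rintro ⟨_, k, rfl⟩
      rw [map_pow, hψb]
      exact ((IsLocalization.Away.algebraMap_isUnit a).map l).pow k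
    refine ⟨IsLocalization.liftAlgHom (S := T) hu', ?_⟩
    apply IsLocalization.algHom_ext (Submonoid.powers ab)
    refine AlgHom.ext fun z => ?_
    obtain ⟨x, rfl⟩ := Ideal.Quotient.mk_surjective z
    show Ideal.Quotient.mk I (IsLocalization.lift hu' (algebraMap Ab T (Ideal.Quotient.mk _ x))) = _
    rw [IsLocalization.lift_eq hu']
    show Ideal.Quotient.mk I (l (algebraMap A Aa x)) = f (algebraMap Ab T (Ideal.Quotient.mk _ x))
    rw [hl, hj]
  rw [SingularComp.mem_singularIdeal_iff]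
  intro Q _ hQ
  exact Algebra.basicOpen_subset_smoothLocus_iff.2 hfs
    (show (⟨Q, ‹_›⟩ : PrimeSpectrum Ab) ∈ PrimeSpectrum.basicOpen ab from hQ)

set_option maxHeartbeats 800000 in
theorem exists_iterated (r : ℕ) : ∀ {R R' Λ A C : Type u} [CommRing R] [IsNoetherianRing R]
    [CommRing R'] [Algebra R R'] [CommRing Λ] [Algebra R Λ] (π : Fin r → R)
    (_hsurj : Function.Surjective (algebraMap R R'))
    (_hker : RingHom.ker (algebraMap R R') = Ideal.span (Set.range fun i => π i ^ 8))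
    (_hR : ∀ i : Fin r, ∀ x : R ⧸ Ideal.span (Set.range fun j : {j : Fin r // (j : ℕ) < (i : ℕ)} => π j ^ 8),
      Ideal.Quotient.mk _ (π i) ^ 2 * x = 0 → Ideal.Quotient.mk _ (π i) * x = 0)
    (_hΛ : ∀ i : Fin r, ∀ x : Λ ⧸ Ideal.span (Set.range fun j : {j : Fin r // (j : ℕ) < (i : ℕ)} =>
        algebraMap R Λ (π j) ^ 8),
      Ideal.Quotient.mk _ (algebraMap R Λ (π i)) ^ 2 * x = 0 →
        Ideal.Quotient.mk _ (algebraMap R Λ (π i)) * x = 0)
    [CommRing A] [Algebra R A] [Algebra.FinitePresentation R A] (φ : A →ₐ[R] Λ)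
    (_hstd : ∀ i, _root_.Smoothing.IsStrictlyStandard R A (algebraMap R A (π i)))
    [CommRing C] [Algebra R C] [Algebra R' C] [IsScalarTower R R' C]
    [Algebra.FinitePresentation R' C]
    (γ : A →ₐ[R] C) (g : C →ₐ[R] Λ ⧸ Ideal.span (Set.range fun i => algebraMap R Λ (π i) ^ 8))
    (_hfac : ∀ a : A, g (γ a) = Ideal.Quotient.mk _ (φ a)),
    ∃ (B : Type u) (_ : CommRing B) (_ : Algebra R B), Algebra.FinitePresentation R B ∧
      ∃ (α : A →ₐ[R] B) (β : B →ₐ[R] Λ), β.comp α = φ ∧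
        (∀ i, algebraMap R Λ (π i) ∈ _root_.Smoothing.singRad R β) ∧
        (_root_.Smoothing.singularIdeal R' C).map g ≤
          (_root_.Smoothing.singRad R β).map (Ideal.Quotient.mk _) := by
  induction r with
  | zero =>
    intro R R' Λ A C _ _ _ _ _ _ π hsurj hker _ _ _ _ _ φ _ _ _ _ _ _ γ g hfac
    have h0 : Set.range (fun i => π i ^ 8) = ∅ := Set.range_eq_empty _
    rw [h0, Ideal.span_empty] at hker
    have hbij : Function.Bijective (algebraMap R R') :=
      ⟨(RingHom.injective_iff_ker_eq_bot _).2 hker, hsurj⟩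
    have : Algebra.FinitePresentation R R' :=
      Algebra.FinitePresentation.equiv (AlgEquiv.ofBijective (Algebra.ofId R R') hbij)
    have hJ : Ideal.span (Set.range fun i => algebraMap R Λ (π i) ^ 8) = ⊥ := by
      rw [Set.range_eq_empty]; exact Ideal.span_empty
    let q : (Λ ⧸ Ideal.span (Set.range fun i => algebraMap R Λ (π i) ^ 8)) →ₐ[R] Λ :=
      Ideal.Quotient.liftₐ _ (AlgHom.id R Λ) fun x hx => by rw [hJ] at hx; exact hx
    refine ⟨C, inferInstance, inferInstance, Algebra.FinitePresentation.trans R R' C, γ, q.comp g,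
      ?_, fun i => Fin.elim0 i, ?_⟩
    · refine AlgHom.ext fun a => ?_
      show q (g (γ a)) = φ a
      rw [hfac]
      rfl
    · rw [Ideal.map_le_iff_le_comap]
      intro c hc
      rw [Ideal.mem_comap]
      obtain ⟨l, hl⟩ := Ideal.Quotient.mk_surjective (g c)
      rw [← hl]
      refine Ideal.mem_map_of_mem _ (Ideal.le_radical ?_)
      have h1 : (q.comp g) c = l := by show q (g c) = l; rw [← hl]; rfl
      rw [← h1]
      refine Ideal.mem_map_of_mem _ ?_
      rwa [SingularComp.singularIdeal_eq_of_bijective (R' := R') hbij]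
  | succ r ih =>
    intro R R' Λ A C _ _ _ _ _ _ π hsurj hker hR hΛ _ _ _ φ hstd _ _ _ _ _ γ g hfac
    let π' : Fin r → R := fun i => π i.castSucc
    let pl := π (Fin.last r)
    let J : Ideal R := Ideal.span (Set.range fun i => π' i ^ 8)
    let JΛ : Ideal Λ := Ideal.span (Set.range fun i => algebraMap R Λ (π' i) ^ 8)
    let R₁ := R ⧸ J
    let Λ₁ := Λ ⧸ JΛ
    have hJΛ : ∀ x ∈ J, algebraMap R Λ x ∈ JΛ := fun x hx => by
      refine (Ideal.span_le (I := JΛ.comap (algebraMap R Λ))).2 ?_ hx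
      rintro _ ⟨i, rfl⟩
      show algebraMap R Λ (π' i ^ 8) ∈ JΛ
      rw [map_pow]
      exact Ideal.subset_span ⟨i, rfl⟩
    let _ : Algebra R₁ Λ₁ := (Ideal.Quotient.lift J (algebraMap R Λ₁) fun x hx =>
      Ideal.Quotient.eq_zero_iff_mem.2 (hJΛ x hx)).toAlgebra
    have : IsScalarTower R R₁ Λ₁ := IsScalarTower.of_algebraMap_eq fun x => rfl
    have hJker : ∀ x ∈ J, algebraMap R R' x = 0 := fun x hx => by
      rw [← RingHom.mem_ker, hker]
      refine (Ideal.span_le).2 ?_ hx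
      rintro _ ⟨i, rfl⟩
      exact Ideal.subset_span ⟨i.castSucc, rfl⟩
    let e : R₁ →+* R' := Ideal.Quotient.lift J (algebraMap R R') hJker
    let _ : Algebra R₁ R' := e.toAlgebra
    have : IsScalarTower R R₁ R' := IsScalarTower.of_algebraMap_eq fun x => rfl
    let _ : Algebra R₁ C := ((algebraMap R' C).comp e).toAlgebra
    have : IsScalarTower R₁ R' C := IsScalarTower.of_algebraMap_eq' rfl
    have : IsScalarTower R R₁ C := IsScalarTower.of_algebraMap_eq fun x =>
      IsScalarTower.algebraMap_apply R R' C x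
    have hKΛ : ∀ x, x ∈ Ideal.span (Set.range fun i => algebraMap R Λ (π i) ^ 8) →
        Ideal.Quotient.mk JΛ x ∈
          Ideal.span {algebraMap R₁ Λ₁ (Ideal.Quotient.mk J pl ^ 8)} := fun x hx => by
      suffices Ideal.span (Set.range fun i => algebraMap R Λ (π i) ^ 8) ≤
          (Ideal.span {algebraMap R₁ Λ₁ (Ideal.Quotient.mk J pl ^ 8)}).comap (Ideal.Quotient.mk JΛ) from
        this hx
      rw [Ideal.span_le]
      rintro _ ⟨i, rfl⟩
      refine Fin.lastCases ?_ (fun i => ?_) i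
      · refine Ideal.subset_span ?_
        rw [map_pow (algebraMap R₁ Λ₁)]
        show _ = (algebraMap R₁ Λ₁ (Ideal.Quotient.mk J pl)) ^ 8
        rw [map_pow]
        rfl
      · rw [SetLike.mem_coe, Ideal.mem_comap]
        show Ideal.Quotient.mk JΛ (algebraMap R Λ (π' i) ^ 8) ∈ Ideal.span {algebraMap R₁ Λ₁ (Ideal.Quotient.mk J pl ^ 8)}
        have hmem : algebraMap R Λ (π' i) ^ 8 ∈ JΛ := Ideal.subset_span ⟨i, rfl⟩
        rw [Ideal.Quotient.eq_zero_iff_mem.2 hmem]
        exact zero_mem _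
    let q₀ : Λ →ₐ[R] Λ₁ ⧸ Ideal.span {algebraMap R₁ Λ₁ (Ideal.Quotient.mk J pl ^ 8)} :=
      (Ideal.Quotient.mkₐ R _).comp (Ideal.Quotient.mkₐ R JΛ)
    let q : (Λ ⧸ Ideal.span (Set.range fun i => algebraMap R Λ (π i) ^ 8)) →ₐ[R]
        Λ₁ ⧸ Ideal.span {algebraMap R₁ Λ₁ (Ideal.Quotient.mk J pl ^ 8)} :=
      Ideal.Quotient.liftₐ _ q₀ fun x hx => Ideal.Quotient.eq_zero_iff_mem.2 (hKΛ x hx)
    let g₁ : C →ₐ[R₁] Λ₁ ⧸ Ideal.span {algebraMap R₁ Λ₁ (Ideal.Quotient.mk J pl ^ 8)} :=
      { (q.comp g).toRingHom with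
        commutes' := fun x => by
          obtain ⟨x, rfl⟩ := Ideal.Quotient.mk_surjective x
          show q (g (algebraMap R₁ C (algebraMap R R₁ x))) =
            algebraMap R₁ (Λ₁ ⧸ Ideal.span {algebraMap R₁ Λ₁ (Ideal.Quotient.mk J pl ^ 8)})
              (algebraMap R R₁ x)
          rw [← IsScalarTower.algebraMap_apply R R₁ C, ← IsScalarTower.algebraMap_apply R R₁ (Λ₁ ⧸ _),
            g.commutes, q.commutes] }
    let φ₁ : R₁ ⊗[R] A →ₐ[R₁] Λ₁ := Algebra.TensorProduct.lift (Algebra.ofId R₁ Λ₁)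
      ((Ideal.Quotient.mkₐ R JΛ).comp φ) fun _ _ => Commute.all _ _
    let γ₁ : R₁ ⊗[R] A →ₐ[R₁] C := Algebra.TensorProduct.lift (Algebra.ofId R₁ C) γ
      fun _ _ => Commute.all _ _
    have hfac₁ : ∀ z, g₁ (γ₁ z) = Ideal.Quotient.mk _ (φ₁ z) := by
      intro z
      suffices g₁.comp γ₁ = (Ideal.Quotient.mkₐ R₁ _).comp φ₁ from DFunLike.congr_fun this z
      refine Algebra.TensorProduct.ext (AlgHom.ext fun x => ?_) (AlgHom.ext fun a => ?_)
      · rw [show x = algebraMap R₁ R₁ x from rfl, AlgHom.commutes, AlgHom.commutes]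
      · show q (g (γ₁ (1 ⊗ₜ a))) = Ideal.Quotient.mk _ (φ₁ (1 ⊗ₜ a))
        simp only [γ₁, φ₁, Algebra.TensorProduct.lift_tmul, map_one, one_mul]
        rw [hfac]
        rfl
    have hlast_range : Set.range (fun j : {j : Fin (r + 1) // (j : ℕ) < ((Fin.last r : Fin (r + 1)) : ℕ)} =>
        π j ^ 8) = Set.range fun i => π' i ^ 8 := by
      ext x
      constructor
      · rintro ⟨⟨j, hj⟩, rfl⟩
        exact ⟨⟨j, by simpa using hj⟩, rfl⟩
      · rintro ⟨i, rfl⟩
        exact ⟨⟨i.castSucc, by simp⟩, rfl⟩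
    have hlast_range' : Set.range (fun j : {j : Fin (r + 1) // (j : ℕ) < ((Fin.last r : Fin (r + 1)) : ℕ)} =>
        algebraMap R Λ (π j) ^ 8) = Set.range fun i => algebraMap R Λ (π' i) ^ 8 := by
      ext x
      constructor
      · rintro ⟨⟨j, hj⟩, rfl⟩
        exact ⟨⟨j, by simpa using hj⟩, rfl⟩
      · rintro ⟨i, rfl⟩
        exact ⟨⟨i.castSucc, by simp⟩, rfl⟩
    have hR₁ : ∀ x : R₁, Ideal.Quotient.mk J pl ^ 2 * x = 0 → Ideal.Quotient.mk J pl * x = 0 := by
      have h1 := hR (Fin.last r)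
      rw [hlast_range] at h1
      exact h1
    have hΛ₁ : ∀ x : Λ₁, Ideal.Quotient.mk J pl ^ 2 • x = 0 → Ideal.Quotient.mk J pl • x = 0 := by
      have h1 := hΛ (Fin.last r)
      rw [hlast_range'] at h1
      intro x hx
      rw [Algebra.smul_def] at hx ⊢
      rw [map_pow] at hx
      exact h1 x hx
    have hker₁ : RingHom.ker e = Ideal.span {Ideal.Quotient.mk J pl ^ 8} := by
      refine le_antisymm (fun x hx => ?_) ?_
      · obtain ⟨x, rfl⟩ := Ideal.Quotient.mk_surjective x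
        have h1 : x ∈ Ideal.span (Set.range fun i => π i ^ 8) := hker.le hx
        suffices Ideal.span (Set.range fun i => π i ^ 8) ≤
            (Ideal.span {Ideal.Quotient.mk J pl ^ 8}).comap (Ideal.Quotient.mk J) from this h1
        rw [Ideal.span_le]
        rintro _ ⟨i, rfl⟩
        refine Fin.lastCases ?_ (fun i => ?_) i
        · exact Ideal.subset_span (by rw [Set.mem_singleton_iff, map_pow])
        · rw [SetLike.mem_coe, Ideal.mem_comap]
          show Ideal.Quotient.mk J (π' i ^ 8) ∈ Ideal.span {Ideal.Quotient.mk J pl ^ 8}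
          have hmem : π' i ^ 8 ∈ J := Ideal.subset_span ⟨i, rfl⟩
          rw [Ideal.Quotient.eq_zero_iff_mem.2 hmem]
          exact zero_mem _
      · rw [Ideal.span_singleton_le_iff_mem, ← map_pow]
        exact hker.ge (Ideal.subset_span ⟨Fin.last r, rfl⟩)
    have hstd₁ : _root_.Smoothing.IsStrictlyStandard R₁ (R₁ ⊗[R] A)
        (algebraMap R₁ (R₁ ⊗[R] A) (Ideal.Quotient.mk J pl)) := by
      have h1 := (Groth.Agent.S6829.result (R' := R₁) (algebraMap R A pl)).2 (hstd (Fin.last r))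
      have h2 : ((1 : R₁) ⊗ₜ[R] algebraMap R A pl : R₁ ⊗[R] A) =
          algebraMap R₁ (R₁ ⊗[R] A) (Ideal.Quotient.mk J pl) :=
        ((Algebra.TensorProduct.includeRight : A →ₐ[R] R₁ ⊗[R] A).commutes pl).trans
          (IsScalarTower.algebraMap_apply R R₁ _ pl)
      rwa [h2] at h1
    obtain ⟨B₁, _, _, hB₁, α₁, β₁, hαβ₁, hsm₁, hsing₁⟩ :=
      DesingularizeLift.exists_desingularize_lift (R := R₁) (R' := R') (Λ := Λ₁) (Ideal.Quotient.mk J pl)
        (fun y => (hsurj y).elim fun x hx => ⟨Ideal.Quotient.mk J x, hx⟩) hker₁ hR₁ hΛ₁ φ₁ hstd₁ γ₁ g₁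
        hfac₁
    let _ : Algebra R B₁ := ((algebraMap R₁ B₁).comp (Ideal.Quotient.mk J)).toAlgebra
    have : IsScalarTower R R₁ B₁ := IsScalarTower.of_algebraMap_eq' rfl
    obtain ⟨B, _, _, hB, α, β, hαβ, hπB, hsingB⟩ := ih (R := R) (R' := R₁) (Λ := Λ) (C := B₁) π'
      Ideal.Quotient.mk_surjective Ideal.mk_ker
      (fun i => by
        have h1 := hR i.castSucc
        have h2 : Set.range (fun j : {j : Fin (r + 1) // (j : ℕ) < ((i.castSucc : Fin (r + 1)) : ℕ)} =>
            π j ^ 8) = Set.range fun j : {j : Fin r // (j : ℕ) < (i : ℕ)} => π' j ^ 8 := by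
          ext x
          constructor
          · rintro ⟨⟨j, hj⟩, rfl⟩
            have hj' : (j : ℕ) < (i : ℕ) := by simpa using hj
            exact ⟨⟨⟨j, hj'.trans i.2⟩, hj'⟩, rfl⟩
          · rintro ⟨⟨j, hj⟩, rfl⟩
            exact ⟨⟨j.castSucc, by simpa using hj⟩, rfl⟩
        rw [h2] at h1
        exact h1)
      (fun i => by
        have h1 := hΛ i.castSucc
        have h2 : Set.range (fun j : {j : Fin (r + 1) // (j : ℕ) < ((i.castSucc : Fin (r + 1)) : ℕ)} =>
            algebraMap R Λ (π j) ^ 8) = Set.range fun j : {j : Fin r // (j : ℕ) < (i : ℕ)} =>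
              algebraMap R Λ (π' j) ^ 8 := by
          ext x
          constructor
          · rintro ⟨⟨j, hj⟩, rfl⟩
            have hj' : (j : ℕ) < (i : ℕ) := by simpa using hj
            exact ⟨⟨⟨j, hj'.trans i.2⟩, hj'⟩, rfl⟩
          · rintro ⟨⟨j, hj⟩, rfl⟩
            exact ⟨⟨j.castSucc, by simpa using hj⟩, rfl⟩
        rw [h2] at h1
        exact h1)
      φ (fun i => hstd i.castSucc) ((α₁.restrictScalars R).comp Algebra.TensorProduct.includeRight)
      (β₁.restrictScalars R) (fun a => by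
        show β₁ (α₁ (1 ⊗ₜ a)) = _
        rw [show β₁ (α₁ (1 ⊗ₜ a)) = φ₁ (1 ⊗ₜ a) from DFunLike.congr_fun hαβ₁ _]
        simp only [φ₁, Algebra.TensorProduct.lift_tmul, map_one, one_mul]
        rfl)
    set rad := _root_.Smoothing.singRad R β with hrad
    have hJrad : JΛ ≤ rad := by
      rw [Ideal.span_le]
      rintro _ ⟨i, rfl⟩
      exact Ideal.pow_mem_of_mem _ (hπB i) 8 (by norm_num)
    have hpre : ∀ l : Λ, Ideal.Quotient.mk JΛ l ∈ rad.map (Ideal.Quotient.mk JΛ) → l ∈ rad := by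
      intro l hl
      have h1 : l ∈ (rad.map (Ideal.Quotient.mk JΛ)).comap (Ideal.Quotient.mk JΛ) := hl
      rwa [Ideal.comap_map_of_surjective' _ Ideal.Quotient.mk_surjective, Ideal.mk_ker,
        sup_eq_left.2 hJrad] at h1
    have hrad₁ : ((_root_.Smoothing.singularIdeal R₁ B₁).map β₁).radical ≤
        rad.map (Ideal.Quotient.mk JΛ) := by
      intro x hx
      obtain ⟨k, hk⟩ := hx
      obtain ⟨l, rfl⟩ := Ideal.Quotient.mk_surjective x
      rw [← map_pow] at hk
      refine Ideal.mem_map_of_mem _ ?_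
      obtain ⟨k', hk'⟩ := hpre _ (hsingB hk)
      exact ⟨k * k', by rwa [pow_mul]⟩
    have hpl : algebraMap R Λ pl ∈ rad := by
      refine hpre _ (hrad₁ (Ideal.le_radical ?_))
      rw [show Ideal.Quotient.mk JΛ (algebraMap R Λ pl) = β₁ (algebraMap R₁ B₁ (Ideal.Quotient.mk J pl))
        from (β₁.commutes (Ideal.Quotient.mk J pl)).symm]
      refine Ideal.mem_map_of_mem _ ?_
      rw [SingularComp.mem_singularIdeal_iff]
      exact fun Q _ hQ => hsm₁ Q hQ
    refine ⟨B, inferInstance, inferInstance, hB, α, β, hαβ, fun i => Fin.lastCases hpl hπB i, ?_⟩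
    rw [Ideal.map_le_iff_le_comap]
    intro c hc
    rw [Ideal.mem_comap]
    obtain ⟨l, hl⟩ := Ideal.Quotient.mk_surjective (g c)
    rw [← hl]
    refine Ideal.mem_map_of_mem _ (hpre _ ?_)
    have h1 := hsing₁ (Ideal.mem_map_of_mem g₁ hc)
    have h2 : g₁ c = Ideal.Quotient.mk _ (Ideal.Quotient.mk JΛ l) := by
      show q (g c) = _
      rw [← hl]
      rfl
    rw [h2] at h1
    have h3 : Ideal.Quotient.mk JΛ l ∈
        (((_root_.Smoothing.singularIdeal R₁ B₁).map β₁).radical.map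
          (Ideal.Quotient.mk (Ideal.span {algebraMap R₁ Λ₁ (Ideal.Quotient.mk J pl ^ 8)}))).comap
            (Ideal.Quotient.mk _) := h1
    rw [Ideal.comap_map_of_surjective' _ Ideal.Quotient.mk_surjective, Ideal.mk_ker] at h3
    refine SetLike.le_def.1 (sup_le hrad₁ ?_) h3
    rw [Ideal.span_singleton_le_iff_mem, map_pow]
    refine Ideal.pow_mem_of_mem _ ?_ 8 (by norm_num)
    exact Ideal.mem_map_of_mem (Ideal.Quotient.mk JΛ) hpl

end Groth.Agent.Lib.Smoothing.DesingularizeIter
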