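import Groth.Prelude.Def_Smoothing
import Groth.Agent.Lib.Smoothing.Standard
import Mathlib.RingTheory.Smooth.Flat
import Mathlib.RingTheory.Flat.EquationalCriterion
import Mathlib.LinearAlgebra.Matrix.Adjugate

/-!
# The smooth local model for the lifting lemma
-/

universe u

open MvPolynomial

namespace Groth.Agent.Lib.Smoothing.LiftingModel

variable {R : Type u} [CommRing R]

/-- In a flat algebra the annihilators of `π` and `π²` agree if they do in the base, so an element
which is killed by `π` and is a multiple of `π` vanishes. -/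
theorem eq_zero_of_mul_eq_zero {E : Type*} [CommRing E] [Algebra R E] [Module.Flat R E] {π : R}
    (hR : ∀ r : R, π ^ 2 * r = 0 → π * r = 0) {e : E} (h0 : algebraMap R E π * e = 0)
    (h1 : ∃ e', e = algebraMap R E π * e') : e = 0 := by
  obtain ⟨e', rfl⟩ := h1
  have h2 : ∑ i : Fin 1, (fun _ => π ^ 2) i • (fun _ => e') i = 0 := by
    simpa [Algebra.smul_def, pow_two, mul_assoc] using h0
  obtain ⟨k, a, y, hy, ha⟩ := Module.Flat.isTrivialRelation_of_sum_smul_eq_zero h2
  simp only [Fin.sum_univ_one] at ha
  rw [show e' = ∑ j, a 0 j • y j from hy 0, Finset.mul_sum]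
  refine Finset.sum_eq_zero fun j _ => ?_
  rw [← Algebra.smul_def, smul_smul, hR _ (ha j), zero_smul]

variable {n c : ℕ} (π : R) (g : Fin c → MvPolynomial (Fin n) R)

/-- A syzygy modulo `π²` of relations with invertible Jacobian gives a relation between the `z`'s. -/
theorem sum_mul_eq {E : Type*} [CommRing E] [Algebra R E] [Module.Flat R E]
    (hR : ∀ r : R, π ^ 2 * r = 0 → π * r = 0) (cols : Fin c → Fin n) (x : Fin n → E) (z : Fin c → E)
    (hg : ∀ k, aeval x (g k) = algebraMap R E π * z k)
    (hΔ : IsUnit (aeval x (_root_.Smoothing.jacobianMinor g id cols)))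
    (b : Fin c → MvPolynomial (Fin n) R) (s : MvPolynomial (Fin n) R)
    (hb : ∑ k, b k * g k = MvPolynomial.C (π ^ 2) * s) :
    ∑ k, aeval x (b k) * z k = algebraMap R E π * aeval x s := by
  classical
  let J : Matrix (Fin c) (Fin c) E :=
    Matrix.of fun k l => aeval x (pderiv (cols l) (g k))
  have hdet : IsUnit J.det := by
    convert hΔ
    rw [_root_.Smoothing.jacobianMinor, AlgHom.map_det]
    rfl
  have hbJ : ∀ l, ∃ w, Matrix.vecMul (fun k => aeval x (b k)) J l = algebraMap R E π * w := by
    intro l
    have h1 := congrArg (fun p => aeval x (pderiv (cols l) p)) hb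
    simp only [map_sum, Derivation.leibniz, smul_eq_mul, map_add, map_mul, pderiv_pow, pderiv_C, mul_zero,
      add_zero, aeval_C, map_pow, hg, map_zero] at h1
    refine ⟨algebraMap R E π * aeval x (pderiv (cols l) s) - ∑ k, z k * aeval x (pderiv (cols l) (b k)),
      ?_⟩
    simp only [Matrix.vecMul, dotProduct, J, Matrix.of_apply]
    rw [Finset.sum_add_distrib] at h1
    have h2 : ∑ k, algebraMap R E π * z k * aeval x (pderiv (cols l) (b k)) =
        algebraMap R E π * ∑ k, z k * aeval x (pderiv (cols l) (b k)) := by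
      rw [Finset.mul_sum]
      exact Finset.sum_congr rfl fun k _ => by ring
    rw [h2] at h1
    linear_combination h1
  choose w hw using hbJ
  obtain ⟨d, hd⟩ := hdet.exists_left_inv
  have hbk : ∀ k, aeval x (b k) = algebraMap R E π * (d * Matrix.vecMul w J.adjugate k) := by
    intro k
    have h1 : Matrix.vecMul (Matrix.vecMul (fun k => aeval x (b k)) J) J.adjugate =
        J.det • fun k => aeval x (b k) := by
      rw [Matrix.vecMul_vecMul, Matrix.mul_adjugate, Matrix.vecMul_smul, Matrix.vecMul_one]
    have h2 := congrFun h1 k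
    rw [show Matrix.vecMul (fun k => aeval x (b k)) J = algebraMap R E π • w from funext hw,
      Matrix.smul_vecMul] at h2
    simp only [Pi.smul_apply, smul_eq_mul] at h2
    linear_combination (-aeval x (b k)) * hd - d * h2
  rw [← sub_eq_zero]
  refine eq_zero_of_mul_eq_zero hR ?_
    ⟨∑ k, d * Matrix.vecMul w J.adjugate k * z k - aeval x s, ?_⟩
  · have h1 := congrArg (aeval x) hb
    simp only [map_sum, map_mul, aeval_C, hg, map_pow] at h1
    rw [mul_sub, Finset.mul_sum, ← mul_assoc, ← pow_two, ← h1, sub_eq_zero]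
    exact Finset.sum_congr rfl fun k _ => by ring
  · rw [mul_sub, Finset.mul_sum]
    congr 1
    refine Finset.sum_congr rfl fun k _ => ?_
    rw [hbk k]; ring

/-- The relations `g_k(x) - π z_k`. -/
noncomputable def rel (k : Fin c) : MvPolynomial (Fin (n + c)) R :=
  rename (Fin.castAdd c) (g k) - MvPolynomial.C π * X (Fin.natAdd n k)

variable (h : MvPolynomial (Fin n) R)

/-- `R[x, z] / (g(x) - π z)`. -/
abbrev Model₀ : Type u := MvPolynomial (Fin (n + c)) R ⧸ Ideal.span (Set.range (rel π g))

/-- `(R[x, z] / (g(x) - π z))_h`. -/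
abbrev Model : Type u :=
  Localization.Away
    (Ideal.Quotient.mk (Ideal.span (Set.range (rel π g))) (rename (Fin.castAdd c) h))

/-- The coordinates `x` of the model. -/
noncomputable def mx (i : Fin n) : Model π g h :=
  algebraMap (Model₀ π g) _ (Ideal.Quotient.mk _ (X (Fin.castAdd c i)))

/-- The coordinates `z` of the model. -/
noncomputable def mz (k : Fin c) : Model π g h :=
  algebraMap (Model₀ π g) _ (Ideal.Quotient.mk _ (X (Fin.natAdd n k)))

theorem aeval_mx (p : MvPolynomial (Fin n) R) :
    aeval (mx π g h) p =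
      algebraMap (Model₀ π g) (Model π g h) (Ideal.Quotient.mk _ (rename (Fin.castAdd c) p)) := by
  suffices aeval (mx π g h) =
      ((IsScalarTower.toAlgHom R (Model₀ π g) (Model π g h)).comp
        (Ideal.Quotient.mkₐ R _)).comp (rename (Fin.castAdd c)) from DFunLike.congr_fun this p
  apply algHom_ext
  intro i
  simp [mx]

theorem aeval_mx_rel (k : Fin c) :
    aeval (mx π g h) (g k) = algebraMap R (Model π g h) π * mz π g h k := by
  rw [aeval_mx, IsScalarTower.algebraMap_apply R (Model₀ π g) (Model π g h), mz, ← map_mul]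
  congr 1
  rw [IsScalarTower.algebraMap_apply R (MvPolynomial (Fin (n + c)) R) (Model₀ π g),
    Ideal.Quotient.algebraMap_eq, ← map_mul, Ideal.Quotient.eq]
  exact Ideal.subset_span ⟨k, rfl⟩

theorem isUnit_aeval_mx : IsUnit (aeval (mx π g h) h) := by
  rw [aeval_mx]
  exact IsLocalization.Away.algebraMap_isUnit _

theorem isUnit_jacobianMinor (cols : Fin c → Fin n)
    (hh : _root_.Smoothing.jacobianMinor g id cols ∣ h) :
    IsUnit (aeval (mx π g h) (_root_.Smoothing.jacobianMinor g id cols)) :=
  isUnit_of_dvd_unit (map_dvd _ hh) (isUnit_aeval_mx π g h)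

/-- The model is smooth when `h` is a multiple of a maximal minor of the Jacobian of `g`. -/
theorem smooth (cols : Fin c → Fin n) (hh : _root_.Smoothing.jacobianMinor g id cols ∣ h) :
    Algebra.Smooth R (Model π g h) := by
  let P : _root_.Smoothing.MarkedPresentation R (Model₀ π g) :=
    { n := n + c
      m := c
      c := c
      hcn := Nat.le_add_left c n
      hcm := le_rfl
      rel := rel π g
      hom := Ideal.Quotient.mkₐ R _
      surj := Ideal.Quotient.mk_surjective
      ker_eq := Ideal.mk_ker }
  refine (Standard.smooth_stablyFree _ ⟨P, ?_, fun _ _ j hj => absurd j.2 (not_lt.2 hj)⟩).1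
  obtain ⟨h', rfl⟩ := hh
  have hJ : _root_.Smoothing.jacobianMinor (rel π g) (Fin.castLE le_rfl)
      (fun k => Fin.castAdd c (cols k)) =
        rename (Fin.castAdd c) (_root_.Smoothing.jacobianMinor g id cols) := by
    rw [_root_.Smoothing.jacobianMinor, _root_.Smoothing.jacobianMinor, AlgHom.map_det]
    congr 1
    ext j k : 2
    have hne : Fin.natAdd n j ≠ Fin.castAdd c (cols k) := fun h => by
      have := congrArg Fin.val h
      simp at this
      have := (cols k).2
      omega
    simp [rel, pderiv_rename (Fin.castAdd_injective n c), Pi.single_eq_of_ne hne]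
  rw [map_mul, map_mul]
  refine Ideal.mul_mem_right _ _ (Ideal.subset_span ⟨fun k => Fin.castAdd c (cols k), ?_⟩)
  exact congrArg (Ideal.Quotient.mk _) hJ

end Groth.Agent.Lib.Smoothing.LiftingModel
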