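import Groth.Prelude.Def_Smoothing
import Mathlib.RingTheory.Smooth.Locus
import Mathlib.RingTheory.Smooth.Flat
import Mathlib.RingTheory.Unramified.Basic
import Mathlib.RingTheory.Localization.AtPrime.Basic
import Mathlib.RingTheory.Noetherian.Basic
import Groth.Agent.Lib.Smoothing.LiftingModel

/-!
# The singular ideal: composition, surjective base change, annihilators
-/

universe u

namespace Groth.Agent.Lib.Smoothing.SingularComp

variable {R D B : Type u} [CommRing R] [CommRing D] [CommRing B] [Algebra R D] [Algebra R B]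

theorem mem_singularIdeal_iff {d : D} :
    d ∈ _root_.Smoothing.singularIdeal R D ↔
      ∀ (Q : Ideal D) [Q.IsPrime], d ∉ Q → Algebra.IsSmoothAt R Q := by
  rw [_root_.Smoothing.singularIdeal, PrimeSpectrum.mem_vanishingIdeal]
  constructor
  · intro h Q _ hd
    by_contra hQ
    exact hd (h ⟨Q, ‹_›⟩ hQ)
  · intro h x hx
    by_contra hd
    exact hx (h x.asIdeal hd)

theorem isSmoothAt_comp [Algebra D B] [IsScalarTower R D B] (Q : Ideal B) [Q.IsPrime]
    (h1 : Algebra.IsSmoothAt R (Q.comap (algebraMap D B))) (h2 : Algebra.IsSmoothAt D Q) :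
    Algebra.IsSmoothAt R Q := by
  let p : Ideal D := Q.comap (algebraMap D B)
  let Dp := Localization.AtPrime p
  let BQ := Localization.AtPrime Q
  have hu : ∀ y : p.primeCompl, IsUnit (algebraMap D BQ y) := fun y => by
    rw [IsScalarTower.algebraMap_apply D B BQ]
    exact IsLocalization.map_units BQ (⟨algebraMap D B y, y.2⟩ : Q.primeCompl)
  let _ : Algebra Dp BQ := (IsLocalization.lift (S := Dp) hu).toAlgebra
  have : IsScalarTower D Dp BQ :=
    IsScalarTower.of_algebraMap_eq fun d => (IsLocalization.lift_eq hu d).symm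
  have : IsScalarTower R Dp BQ := IsScalarTower.of_algebraMap_eq fun r => by
    rw [IsScalarTower.algebraMap_apply R D BQ, IsScalarTower.algebraMap_apply R D Dp,
      ← IsScalarTower.algebraMap_apply D Dp BQ]
  have : Algebra.FormallySmooth D BQ := h2
  have : Algebra.FormallySmooth R Dp := h1
  have : Algebra.FormallySmooth Dp BQ := Algebra.FormallySmooth.localization_base p.primeCompl
  exact Algebra.FormallySmooth.comp R Dp BQ

theorem mem_singularIdeal_comp [Algebra D B] [IsScalarTower R D B] {d : D}
    (hd : d ∈ _root_.Smoothing.singularIdeal R D)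
    (hdB : algebraMap D B d ∈ _root_.Smoothing.singularIdeal D B) :
    algebraMap D B d ∈ _root_.Smoothing.singularIdeal R B := by
  rw [mem_singularIdeal_iff] at hd hdB ⊢
  intro Q _ hQ
  exact isSmoothAt_comp Q (hd _ hQ) (hdB Q hQ)

theorem smooth_away_of_mem [Algebra.FinitePresentation R D] {d : D}
    (hd : d ∈ _root_.Smoothing.singularIdeal R D) :
    Algebra.Smooth R (Localization.Away d) := by
  rw [← Algebra.basicOpen_subset_smoothLocus_iff_smooth]
  exact fun x hx => mem_singularIdeal_iff.1 hd x.asIdeal hx

/-- A power of an element of the singular ideal carries `Ann(π²)` into `Ann(π)`. -/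
theorem exists_pow_mul_ann [IsNoetherianRing R] [Algebra.FinitePresentation R D] (π : R)
    (hR : ∀ r : R, π ^ 2 * r = 0 → π * r = 0) {d : D}
    (hd : d ∈ _root_.Smoothing.singularIdeal R D) :
    ∃ k : ℕ, ∀ x : D, algebraMap R D π ^ 2 * x = 0 → algebraMap R D π * (d ^ k * x) = 0 := by
  classical
  have := smooth_away_of_mem hd
  have : IsNoetherianRing D := Algebra.FiniteType.isNoetherianRing R D
  let N : Ideal D := LinearMap.ker (LinearMap.mulLeft D (algebraMap R D π ^ 2))
  obtain ⟨s, hs⟩ := IsNoetherian.noetherian N
  have hloc : ∀ x : D, algebraMap R D π ^ 2 * x = 0 →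
      ∃ k : ℕ, d ^ k * (algebraMap R D π * x) = 0 := fun x hx => by
    have h1 : algebraMap D (Localization.Away d) (algebraMap R D π * x) = 0 := by
      refine LiftingModel.eq_zero_of_mul_eq_zero (R := R) hR ?_ ⟨algebraMap D _ x, ?_⟩
      · rw [IsScalarTower.algebraMap_apply R D (Localization.Away d), ← map_mul, ← mul_assoc,
          ← pow_two, hx, map_zero]
      · rw [IsScalarTower.algebraMap_apply R D (Localization.Away d), ← map_mul]
    obtain ⟨⟨_, k, rfl⟩, hk⟩ := (IsLocalization.map_eq_zero_iff (Submonoid.powers d) _ _).1 h1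
    exact ⟨k, hk⟩
  have hgen : ∀ g : s, algebraMap R D π ^ 2 * (g : D) = 0 := fun g => by
    have : (g : D) ∈ N := hs ▸ Submodule.subset_span g.2
    exact this
  choose k hk using fun g : s => hloc _ (hgen g)
  refine ⟨∑ g, k g, fun x hx => ?_⟩
  have hxN : x ∈ Submodule.span D (s : Set D) := hs.symm ▸ (show x ∈ N from hx)
  refine Submodule.span_induction (fun g hg => ?_) (by simp) (fun a b _ _ ha hb => ?_)
    (fun c a _ ha => ?_) hxN
  · rw [← Finset.add_sum_erase _ _ (Finset.mem_univ ⟨g, hg⟩), pow_add]
    linear_combination (d ^ (∑ y ∈ Finset.univ.erase (⟨g, hg⟩ : s), k y)) * hk ⟨g, hg⟩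
  · linear_combination ha + hb
  · rw [smul_eq_mul]
    linear_combination c * ha

variable {R' C : Type u} [CommRing R'] [CommRing C] [Algebra R R'] [Algebra R C] [Algebra R' C]
  [IsScalarTower R R' C]

theorem formallyUnramified_of_surjective (h : Function.Surjective (algebraMap R R')) :
    Algebra.FormallyUnramified R R' :=
  Algebra.FormallyUnramified.of_surjective (Algebra.ofId R R') h

/-- Smoothness over a ring does not see isomorphisms of the base. -/
theorem singularIdeal_eq_of_bijective (h : Function.Bijective (algebraMap R R')) :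
    _root_.Smoothing.singularIdeal R C = _root_.Smoothing.singularIdeal R' C := by
  have := formallyUnramified_of_surjective h.2
  have : Algebra.FormallySmooth R R' :=
    Algebra.FormallySmooth.of_equiv (AlgEquiv.ofBijective (Algebra.ofId R R') h)
  ext c
  simp only [mem_singularIdeal_iff]
  constructor <;> intro H Q _ hQ
  · have : Algebra.FormallySmooth R (Localization.AtPrime Q) := H Q hQ
    exact Algebra.FormallySmooth.of_restrictScalars R R' (Localization.AtPrime Q)
  · have : Algebra.FormallySmooth R' (Localization.AtPrime Q) := H Q hQ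
    exact Algebra.FormallySmooth.comp R R' (Localization.AtPrime Q)

end Groth.Agent.Lib.Smoothing.SingularComp
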