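import Groth.Agent.Lib.Smoothing.Desingularize
import Groth.Agent.Lib.Smoothing.SingularComp
import Groth.Agent.Lib.Smoothing.BaseChange
import Groth.Agent.S6829
import Mathlib.RingTheory.TensorProduct.Basic

/-!
# Desingularization relative to an algebra `D`
-/

universe u

open TensorProduct

namespace Groth.Agent.Lib.Smoothing.DesingularizeStrict

theorem exists_desingularization_over {R Λ A D : Type u} [CommRing R] [IsNoetherianRing R]
    [CommRing Λ] [Algebra R Λ] (π : R) (hR : ∀ r : R, π ^ 2 * r = 0 → π * r = 0)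
    (hΛ : ∀ x : Λ, π ^ 2 • x = 0 → π • x = 0) [CommRing A] [Algebra R A]
    [Algebra.FinitePresentation R A] [CommRing D] [Algebra R D] [Algebra.FinitePresentation R D]
    (φ : A →ₐ[R] Λ) (δ : D →ₐ[R] Λ)
    (hπ : _root_.Smoothing.IsStrictlyStandard R A (algebraMap R A π))
    (ψ : A →ₐ[R] D ⧸ Ideal.span {algebraMap R D (π ^ 4)})
    (hψ : ∀ (a : A) (d : D), Ideal.Quotient.mk (Ideal.span {algebraMap R D (π ^ 4)}) d = ψ a →
      δ d - φ a ∈ Ideal.span {algebraMap R Λ (π ^ 4)}) :
    ∃ (B : Type u) (_ : CommRing B) (_ : Algebra R B) (_ : Algebra D B) (_ : IsScalarTower R D B),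
      Algebra.FinitePresentation R B ∧
      ∃ (α : A →ₐ[R] B) (β : B →ₐ[R] Λ), β.comp α = φ ∧
        β.comp (IsScalarTower.toAlgHom R D B) = δ ∧
        (_root_.Smoothing.singularIdeal R D).map (algebraMap D B) ≤ _root_.Smoothing.singularIdeal D B ∧
        (_root_.Smoothing.singularIdeal R D).map (algebraMap D B) ≤ _root_.Smoothing.singularIdeal R B := by
  classical
  let _ : Algebra D Λ := δ.toRingHom.toAlgebra
  have : IsScalarTower R D Λ := IsScalarTower.of_algebraMap_eq fun r => (δ.commutes r).symm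
  set πD : D := algebraMap R D π with hπD
  have hΛD : ∀ x : Λ, πD ^ 2 • x = 0 → πD • x = 0 := fun x hx => by
    rw [hπD, ← map_pow, algebraMap_smul] at hx
    rw [hπD, algebraMap_smul]
    exact hΛ x hx
  have hst : _root_.Smoothing.IsStrictlyStandard D (D ⊗[R] A) (algebraMap D (D ⊗[R] A) πD) := by
    have h1 := (Groth.Agent.S6829.result (R' := D) (algebraMap R A π)).2 hπ
    have h2 : ((1 : D) ⊗ₜ[R] algebraMap R A π : D ⊗[R] A) = algebraMap D (D ⊗[R] A) πD := by
      rw [hπD, ← IsScalarTower.algebraMap_apply]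
      exact ((Algebra.TensorProduct.includeRight : A →ₐ[R] D ⊗[R] A).commutes π)
    rwa [h2] at h1
  let φD : D ⊗[R] A →ₐ[D] Λ :=
    Algebra.TensorProduct.lift (Algebra.ofId D Λ) φ fun _ _ => Commute.all _ _
  have hspan : Ideal.span {algebraMap R D (π ^ 4)} = Ideal.span {πD ^ 4} := by rw [hπD, map_pow]
  let ψ' : A →ₐ[R] D ⧸ Ideal.span {πD ^ 4} := (Ideal.quotientEquivAlgOfEq R hspan).toAlgHom.comp ψ
  let ρ : D ⊗[R] A →ₐ[D] D ⧸ Ideal.span {πD ^ 4} :=
    Algebra.TensorProduct.lift (Algebra.ofId D _) ψ' fun _ _ => Commute.all _ _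
  let IL : Ideal Λ := Ideal.span {algebraMap D Λ (πD ^ 4)}
  have hIL : IL = Ideal.span {algebraMap R Λ (π ^ 4)} := by
    show Ideal.span {algebraMap D Λ (πD ^ 4)} = _
    rw [hπD, ← map_pow, ← IsScalarTower.algebraMap_apply]
  let red : D ⧸ Ideal.span {πD ^ 4} →+* Λ ⧸ IL :=
    Ideal.Quotient.lift _ ((Ideal.Quotient.mk IL).comp (algebraMap D Λ)) fun x hx => by
      obtain ⟨c, rfl⟩ := Ideal.mem_span_singleton.1 hx
      rw [RingHom.comp_apply, map_mul, Ideal.Quotient.eq_zero_iff_mem]
      exact Ideal.mul_mem_right _ _ (Ideal.subset_span rfl)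
  have hcompat : red.comp ρ.toRingHom = (Ideal.Quotient.mk IL).comp φD.toRingHom := by
    apply Algebra.TensorProduct.ringHom_ext
    · refine RingHom.ext fun d => ?_
      show red (ρ (d ⊗ₜ 1)) = Ideal.Quotient.mk IL (φD (d ⊗ₜ 1))
      simp [ρ, φD, red]
    · refine RingHom.ext fun a => ?_
      show red (ρ (1 ⊗ₜ a)) = Ideal.Quotient.mk IL (φD (1 ⊗ₜ a))
      simp only [ρ, φD, Algebra.TensorProduct.lift_tmul, map_one, one_mul]
      obtain ⟨d, hd⟩ := Ideal.Quotient.mk_surjective (ψ a)
      have h1 : ψ' a = Ideal.Quotient.mk _ d := by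
        show Ideal.quotientEquivAlgOfEq R hspan (ψ a) = _
        rw [← hd]
        exact Ideal.quotientEquivAlgOfEq_mk R hspan d
      rw [h1]
      show Ideal.Quotient.mk IL (δ d) = _
      rw [Ideal.Quotient.eq, hIL]
      exact hψ a d hd
  obtain ⟨B, _, _, hB, α, β, hαβ, hsing⟩ :=
    Desingularize.exists_desingularization (R := D) (Λ := Λ) πD hΛD φD hst ρ (fun z d hd => by
      have h1 : red (ρ z) = Ideal.Quotient.mk IL (φD z) := RingHom.congr_fun hcompat z
      rw [← hd] at h1
      exact Ideal.Quotient.eq.1 h1)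
  let _ : Algebra R B := ((algebraMap D B).comp (algebraMap R D)).toAlgebra
  have : IsScalarTower R D B := IsScalarTower.of_algebraMap_eq' rfl
  have : Algebra.FinitePresentation R B := Algebra.FinitePresentation.trans R D B
  have hDB : ∀ d, d ∈ _root_.Smoothing.singularIdeal R D →
      algebraMap D B d ∈ _root_.Smoothing.singularIdeal D B := fun d hd => by
    obtain ⟨k, hk⟩ := SingularComp.exists_pow_mul_ann π hR hd
    have h1 := hsing (d ^ (k + 1)) fun x hx => by
      have h2 := hk x hx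
      linear_combination d * h2
    rw [SingularComp.mem_singularIdeal_iff] at h1 ⊢
    intro Q _ hQ
    refine h1 Q fun h3 => hQ ?_
    rw [map_pow] at h3
    exact Ideal.IsPrime.mem_of_pow_mem inferInstance _ h3
  refine ⟨B, inferInstance, inferInstance, inferInstance, inferInstance, inferInstance,
    (α.restrictScalars R).comp Algebra.TensorProduct.includeRight, β.restrictScalars R, ?_, ?_, ?_, ?_⟩
  · refine AlgHom.ext fun a => ?_
    show β (α (1 ⊗ₜ a)) = φ a
    rw [show β (α (1 ⊗ₜ a)) = φD (1 ⊗ₜ a) from DFunLike.congr_fun hαβ _]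
    simp [φD]
  · refine AlgHom.ext fun d => ?_
    exact β.commutes d
  · exact Ideal.map_le_iff_le_comap.2 hDB
  · exact Ideal.map_le_iff_le_comap.2 fun d hd => SingularComp.mem_singularIdeal_comp hd (hDB d hd)

end Groth.Agent.Lib.Smoothing.DesingularizeStrict
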