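import Groth.Agent.Lib.Smoothing.Lifting
import Groth.Agent.Lib.Smoothing.DesingularizeStrict
import Mathlib.RingTheory.Ideal.Quotient.Operations

/-!
# Lifting a factorisation modulo `π⁸`
-/

universe u

namespace Groth.Agent.Lib.Smoothing.DesingularizeLift

theorem pow_ann_of_sq {M : Type*} [CommRing M] {p : M} (h : ∀ x, p ^ 2 * x = 0 → p * x = 0)
    (k : ℕ) : ∀ x, p ^ (k + 1) * x = 0 → p * x = 0 := by
  induction k with
  | zero => intro x hx; simpa using hx
  | succ k ih =>
    intro x hx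
    refine ih x ?_
    have h1 := h (p ^ k * x) (by linear_combination hx)
    linear_combination h1

theorem exists_desingularize_lift {R R' Λ A C : Type u} [CommRing R] [IsNoetherianRing R]
    [CommRing R'] [Algebra R R'] [CommRing Λ] [Algebra R Λ] (π : R)
    (hsurj : Function.Surjective (algebraMap R R'))
    (hker : RingHom.ker (algebraMap R R') = Ideal.span {π ^ 8})
    (hR : ∀ r : R, π ^ 2 * r = 0 → π * r = 0) (hΛ : ∀ x : Λ, π ^ 2 • x = 0 → π • x = 0)
    [CommRing A] [Algebra R A] [Algebra.FinitePresentation R A] (φ : A →ₐ[R] Λ)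
    (hπ : _root_.Smoothing.IsStrictlyStandard R A (algebraMap R A π))
    [CommRing C] [Algebra R C] [Algebra R' C] [IsScalarTower R R' C]
    [Algebra.FinitePresentation R' C]
    (γ : A →ₐ[R] C) (g : C →ₐ[R] Λ ⧸ Ideal.span {algebraMap R Λ (π ^ 8)})
    (hfac : ∀ a : A, g (γ a) = Ideal.Quotient.mk (Ideal.span {algebraMap R Λ (π ^ 8)}) (φ a)) :
    ∃ (B : Type u) (_ : CommRing B) (_ : Algebra R B), Algebra.FinitePresentation R B ∧
      ∃ (α : A →ₐ[R] B) (β : B →ₐ[R] Λ), β.comp α = φ ∧
        (∀ (Q : Ideal B) [Q.IsPrime], algebraMap R B π ∉ Q → Algebra.IsSmoothAt R Q) ∧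
        (_root_.Smoothing.singularIdeal R' C).map g ≤
          ((_root_.Smoothing.singularIdeal R B).map β).radical.map
            (Ideal.Quotient.mk (Ideal.span {algebraMap R Λ (π ^ 8)})) := by
  classical
  let p := π ^ 4
  have hp : π ^ 8 = p ^ 2 := by rw [← pow_mul]
  let R'' := R ⧸ Ideal.span {p ^ 2}
  let e : R'' →+* R' := Ideal.Quotient.lift _ (algebraMap R R') fun x hx => by
    rw [← RingHom.mem_ker, hker, hp]; exact hx
  have he : Function.Bijective e := by
    refine ⟨(injective_iff_map_eq_zero _).2 fun x hx => ?_, fun y => ?_⟩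
    · obtain ⟨r, rfl⟩ := Ideal.Quotient.mk_surjective x
      rw [Ideal.Quotient.eq_zero_iff_mem, ← hp, ← hker]
      exact hx
    · obtain ⟨r, rfl⟩ := hsurj y
      exact ⟨Ideal.Quotient.mk _ r, rfl⟩
  let _ : Algebra R'' R' := e.toAlgebra
  let _ : Algebra R'' C := ((algebraMap R' C).comp e).toAlgebra
  have : IsScalarTower R'' R' C := IsScalarTower.of_algebraMap_eq' rfl
  have : IsScalarTower R R'' C := IsScalarTower.of_algebraMap_eq fun r =>
    IsScalarTower.algebraMap_apply R R' C r
  have : Algebra.FinitePresentation R'' R' :=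
    Algebra.FinitePresentation.equiv (AlgEquiv.ofBijective (Algebra.ofId R'' R') he)
  have : Algebra.FinitePresentation R'' C := Algebra.FinitePresentation.trans R'' R' C
  have hsing : _root_.Smoothing.singularIdeal R'' C = _root_.Smoothing.singularIdeal R' C :=
    SingularComp.singularIdeal_eq_of_bijective he
  have hRp : ∀ r : R, p ^ 2 * r = 0 → p * r = 0 := fun r hr => by
    have h1 := pow_ann_of_sq hR 7 r (by rw [← hr, ← hp])
    show π ^ 4 * r = 0
    linear_combination π ^ 3 * h1
  have hΛp : ∀ x : Λ, p ^ 2 • x = 0 → p • x = 0 := fun x hx => by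
    simp only [Algebra.smul_def, map_pow, p] at hx ⊢
    have h1 := pow_ann_of_sq (p := algebraMap R Λ π)
      (fun y hy => by simpa [Algebra.smul_def] using hΛ y (by simpa [Algebra.smul_def] using hy))
      7 x (by linear_combination hx)
    linear_combination (algebraMap R Λ π) ^ 3 * h1
  have hIeq : Ideal.span {algebraMap R Λ (π ^ 8)} = Ideal.span {algebraMap R Λ (p ^ 2)} := by rw [hp]
  let g' : C →ₐ[R] Λ ⧸ Ideal.span {algebraMap R Λ (p ^ 2)} :=
    (Ideal.quotientEquivAlgOfEq R hIeq).toAlgHom.comp g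
  have hg' : ∀ c l, Ideal.Quotient.mk _ l = g c → Ideal.Quotient.mk _ l = g' c := fun c l hl => by
    show _ = Ideal.quotientEquivAlgOfEq R hIeq (g c)
    rw [← hl]
    exact (Ideal.quotientEquivAlgOfEq_mk R hIeq l).symm
  obtain ⟨D, _, _, hD, δ, ψ, hcompat, hsm1, hsm2⟩ :=
    Lifting.exists_lifting (Λ := Λ) (C := C) p hRp hΛp g'
  obtain ⟨B, _, _, _, _, hB, α, β, hαβ, hβδ, -, hB2⟩ :=
    DesingularizeStrict.exists_desingularization_over π hR hΛ φ δ hπ (ψ.comp γ) (fun a d hd => by
      exact hcompat (γ a) d (φ a) hd (hg' _ _ (hfac a).symm))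
  have hπD : algebraMap R D π ∈ _root_.Smoothing.singularIdeal R D := by
    rw [SingularComp.mem_singularIdeal_iff]
    intro Q _ hQ
    exact hsm1 Q fun h => hQ (Ideal.IsPrime.mem_of_pow_mem inferInstance 4 (by rwa [← map_pow]))
  refine ⟨B, inferInstance, inferInstance, hB, α, β, hαβ, ?_, ?_⟩
  · intro Q _ hQ
    have h1 := hB2 (Ideal.mem_map_of_mem _ hπD)
    rw [← IsScalarTower.algebraMap_apply, SingularComp.mem_singularIdeal_iff] at h1
    exact h1 Q hQ
  rw [Ideal.map_le_iff_le_comap]
  intro c hc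
  obtain ⟨d, hd⟩ := Ideal.Quotient.mk_surjective (ψ c)
  obtain ⟨l, hl⟩ := Ideal.Quotient.mk_surjective (g c)
  have hβ : ∀ x, β (algebraMap D B x) = δ x := fun x => DFunLike.congr_fun hβδ x
  have hdD : d ∈ _root_.Smoothing.singularIdeal R D := by
    rw [SingularComp.mem_singularIdeal_iff]
    intro Q hQp hdQ
    by_cases hπQ : algebraMap R D p ∈ Q
    · let Qb := Q.map (Ideal.Quotient.mk (Ideal.span {algebraMap R D p}))
      have hle : RingHom.ker (Ideal.Quotient.mk (Ideal.span {algebraMap R D p})) ≤ Q := by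
        rw [Ideal.mk_ker, Ideal.span_singleton_le_iff_mem]
        exact hπQ
      have hQb : Qb.IsPrime := Ideal.map_isPrime_of_surjective Ideal.Quotient.mk_surjective hle
      have hcomap : Qb.comap (Ideal.Quotient.mk (Ideal.span {algebraMap R D p})) = Q :=
        (Ideal.comap_map_of_surjective' _ Ideal.Quotient.mk_surjective Q).trans (sup_eq_left.2 hle)
      rw [← hsing, SingularComp.mem_singularIdeal_iff] at hc
      have h3 := hsm2 Qb (hc (Qb.comap ψ) fun h => hdQ (by
        rw [← hcomap]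
        show Ideal.Quotient.mk _ d ∈ Qb
        rw [hd]
        exact h))
      simp only [hcomap] at h3
      exact h3
    · exact hsm1 Q hπQ
  rw [Ideal.mem_comap]
  rw [← hl]
  refine Ideal.mem_map_of_mem _ ?_
  obtain ⟨t, ht⟩ := Ideal.mem_span_singleton.1 (hcompat c d l hd (hg' _ _ hl))
  rw [show l = δ d - algebraMap R Λ p * t by linear_combination -ht]
  refine Ideal.sub_mem _ ?_ (Ideal.mul_mem_right _ _ ?_)
  · rw [← hβ]
    exact Ideal.le_radical (Ideal.mem_map_of_mem β (hB2 (Ideal.mem_map_of_mem _ hdD)))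
  · rw [show algebraMap R Λ p = (algebraMap R Λ π) ^ 4 from map_pow _ _ _]
    refine Ideal.pow_mem_of_mem _ ?_ 4 (by norm_num)
    rw [show algebraMap R Λ π = β (algebraMap D B (algebraMap R D π)) by rw [hβ, AlgHom.commutes]]
    exact Ideal.le_radical (Ideal.mem_map_of_mem β (hB2 (Ideal.mem_map_of_mem _ hπD)))

end Groth.Agent.Lib.Smoothing.DesingularizeLift
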