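import Groth.Prelude.Def_Smoothing
import Groth.Agent.Lib.Smoothing.Minors
import Mathlib.RingTheory.Smooth.Locus
import Mathlib.RingTheory.Localization.Integer
import Mathlib.LinearAlgebra.Basis.VectorSpace
import Mathlib.RingTheory.LocalRing.ResidueField.Ideal
import Mathlib.LinearAlgebra.Matrix.Adjugate

/-!
# The Jacobian criterion for a given presentation
-/

universe u

open MvPolynomial

namespace Groth.Agent.Lib.Smoothing.LocalJacobian

variable {R : Type u} [CommRing R] {C : Type u} [CommRing C] [Algebra R C] {n m : ℕ}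

theorem exists_derivation_identity (I : Ideal R) [Algebra (R ⧸ I) C] [IsScalarTower R (R ⧸ I) C]
    [Algebra.FinitePresentation (R ⧸ I) C] (f : Fin m → MvPolynomial (Fin n) R)
    (φ : MvPolynomial (Fin n) R →ₐ[R] C) (hφ : Function.Surjective φ)
    (hker : RingHom.ker φ.toRingHom = Ideal.span (Set.range f))
    (q : Ideal C) [q.IsPrime] [Algebra.IsSmoothAt (R ⧸ I) q] :
    ∃ H, φ H ∉ q ∧ ∃ W : Fin n → MvPolynomial (Fin n) R, (∀ i, W i ∈ Ideal.span (Set.range f)) ∧
      ∀ j, H * f j - ∑ i, pderiv i (f j) * W i ∈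
        Ideal.span (Set.range f) ^ 2 ⊔ I.map MvPolynomial.C := by
  classical
  set J := Ideal.span (Set.range f) with hJ
  let P := MvPolynomial (Fin n) R
  obtain ⟨h₀, hh₀, hsm⟩ := Algebra.IsSmoothAt.exists_notMem_smooth (R := R ⧸ I) q
  obtain ⟨H₀, rfl⟩ := hφ h₀
  let B := Localization.Away H₀
  let Ch := Localization.Away (φ H₀)
  let ι := algebraMap P B
  have hu : ∀ y : Submonoid.powers H₀, IsUnit (((IsScalarTower.toAlgHom R C Ch).comp φ) y) := by
    rintro ⟨_, k, rfl⟩
    rw [map_pow]
    exact (IsLocalization.Away.algebraMap_isUnit (φ H₀)).pow k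
  let π : B →ₐ[R] Ch := IsLocalization.liftAlgHom (S := B) hu
  have hπ : ∀ p, π (ι p) = algebraMap C Ch (φ p) := fun p => by
    simp only [π, ι, IsLocalization.liftAlgHom_apply]
    exact IsLocalization.lift_eq hu p
  have hπsurj : Function.Surjective π := by
    intro y
    obtain ⟨⟨c, ⟨_, k, rfl⟩⟩, hy⟩ := IsLocalization.surj (Submonoid.powers (φ H₀)) y
    obtain ⟨p, rfl⟩ := hφ c
    refine ⟨ι p * (IsLocalization.Away.invSelf H₀) ^ k, ?_⟩
    simp only [map_mul, hπ, map_pow]
    rw [← hy, map_pow]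
    have h1 : algebraMap C Ch (φ H₀) * π (IsLocalization.Away.invSelf H₀) = 1 := by
      rw [← hπ, ← map_mul, IsLocalization.Away.mul_invSelf, map_one]
    rw [mul_assoc, ← mul_pow, h1, one_pow, mul_one]
  have hIJ : I.map (MvPolynomial.C : R →+* P) ≤ J := by
    rw [← hker, Ideal.map_le_iff_le_comap]
    intro r hr
    show φ (MvPolynomial.C r) = 0
    rw [← MvPolynomial.algebraMap_eq, AlgHom.commutes, IsScalarTower.algebraMap_apply R (R ⧸ I) C,
      Ideal.Quotient.algebraMap_eq, Ideal.Quotient.eq_zero_iff_mem.2 hr, map_zero]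
  have hkerπ : RingHom.ker π.toRingHom = J.map ι := by
    refine le_antisymm (fun b hb => ?_) (Ideal.map_le_iff_le_comap.2 fun p hp => ?_)
    · obtain ⟨⟨p, ⟨_, k, rfl⟩⟩, hy⟩ := IsLocalization.surj (Submonoid.powers H₀) b
      have h1 : algebraMap C Ch (φ p) = 0 := by
        rw [← hπ, ← hy, map_mul, show π b = 0 from hb, zero_mul]
      obtain ⟨⟨_, l, rfl⟩, hl⟩ := (IsLocalization.map_eq_zero_iff (Submonoid.powers (φ H₀)) Ch _).1 h1
      have h2 : H₀ ^ l * p ∈ J := hker.le (by simpa [RingHom.mem_ker] using hl)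
      rw [IsLocalization.mem_map_algebraMap_iff (Submonoid.powers H₀)]
      refine ⟨⟨⟨_, h2⟩, ⟨H₀ ^ (l + k), l + k, rfl⟩⟩, ?_⟩
      simp only [map_mul, map_pow, pow_add] at hy ⊢
      rw [← hy]; ring
    · show π (ι p) = 0
      rw [hπ, show φ p = 0 from hker.ge hp, map_zero]
  set T := (J ^ 2 ⊔ I.map (MvPolynomial.C : R →+* P)).map ι with hT
  have hTker : T ≤ RingHom.ker π.toRingHom := by
    rw [hkerπ, hT]
    exact Ideal.map_mono (sup_le (Ideal.pow_le_self two_ne_zero) hIJ)
  let B'' := B ⧸ T
  let π₀ : B'' →ₐ[R] Ch := Ideal.Quotient.liftₐ T π fun b hb => hTker hb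
  letI : Algebra (R ⧸ I) B'' := (Ideal.Quotient.lift I (algebraMap R B'') fun r hr => by
    rw [IsScalarTower.algebraMap_apply R B B'', Ideal.Quotient.algebraMap_eq,
      Ideal.Quotient.eq_zero_iff_mem, IsScalarTower.algebraMap_apply R P B, MvPolynomial.algebraMap_eq]
    exact Ideal.mem_map_of_mem _ (Ideal.mem_sup_right (Ideal.mem_map_of_mem _ hr))).toAlgebra
  let π'' : B'' →ₐ[R ⧸ I] Ch :=
    { π₀.toRingHom with
      commutes' := fun r => by
        obtain ⟨r, rfl⟩ := Ideal.Quotient.mk_surjective r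
        exact (π₀.commutes r).trans (IsScalarTower.algebraMap_apply R (R ⧸ I) Ch r) }
  have hπ'' : ∀ b, π'' (Ideal.Quotient.mk T b) = π b := fun b => rfl
  have hsurj'' : Function.Surjective π'' := fun y => by
    obtain ⟨b, rfl⟩ := hπsurj y
    exact ⟨_, hπ'' b⟩
  have hker'' : RingHom.ker (π'' : B'' →+* Ch) = (J.map ι).map (Ideal.Quotient.mk T) := by
    refine le_antisymm (fun x hx => ?_) (Ideal.map_le_iff_le_comap.2 fun b hb => ?_)
    · obtain ⟨b, rfl⟩ := Ideal.Quotient.mk_surjective x
      exact Ideal.mem_map_of_mem _ (hkerπ.le hx)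
    · exact hkerπ.ge hb
  have hnil : IsNilpotent (RingHom.ker (π'' : B'' →+* Ch)) := by
    refine ⟨2, ?_⟩
    rw [hker'', ← Ideal.map_pow, ← Ideal.map_pow, Submodule.zero_eq_bot,
      Ideal.map_eq_bot_iff_le_ker, Ideal.mk_ker]
    exact Ideal.map_mono le_sup_left
  let σ := Algebra.FormallySmooth.liftOfSurjective (AlgHom.id (R ⧸ I) Ch) π'' hsurj'' hnil
  have hσ : ∀ y, π'' (σ y) = y := fun y =>
    Algebra.FormallySmooth.liftOfSurjective_apply _ _ hsurj'' hnil y
  let mk : P →+* B'' := (Ideal.Quotient.mk T).comp ι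
  let s : P →+* B'' := (σ : Ch →+* B'').comp ((algebraMap C Ch).comp φ.toRingHom)
  have hs : ∀ p, mk p - s p ∈ RingHom.ker (π'' : B'' →+* Ch) := fun p => by
    show π'' (mk p - s p) = 0
    have h1 : π'' (s p) = algebraMap C Ch (φ p) := hσ _
    rw [map_sub, h1]
    exact sub_eq_zero.2 ((hπ'' _).trans (hπ p))
  have hsq : ∀ x ∈ RingHom.ker (π'' : B'' →+* Ch), ∀ y ∈ RingHom.ker (π'' : B'' →+* Ch),
      x * y = 0 := by
    intro x hx y hy
    have h1 := Ideal.mul_mem_mul hx hy
    rw [hker'', ← Ideal.map_mul, ← Ideal.map_mul, ← pow_two, Ideal.map_eq_bot_iff_le_ker _ |>.2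
      (by rw [Ideal.mk_ker]; exact Ideal.map_mono le_sup_left)] at h1
    exact h1
  -- the derivation `p ↦ p - σ p`
  have hD : ∀ p, mk p - s p = ∑ i, mk (pderiv i p) * (mk (X i) - s (X i)) := by
    intro p
    induction p using MvPolynomial.induction_on with
    | C r =>
      have h1 : mk (MvPolynomial.C r) = algebraMap R B'' r := by
        rw [← MvPolynomial.algebraMap_eq]; rfl
      have h2 : s (MvPolynomial.C r) = algebraMap R B'' r := by
        show σ (algebraMap C Ch (φ (MvPolynomial.C r))) = _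
        rw [← MvPolynomial.algebraMap_eq, AlgHom.commutes, IsScalarTower.algebraMap_apply R (R ⧸ I) C,
          ← IsScalarTower.algebraMap_apply (R ⧸ I) C Ch, AlgHom.commutes]
        rfl
      simp [h1, h2]
    | add p q hp hq =>
      simp only [map_add, add_mul, Finset.sum_add_distrib, ← hp, ← hq]
      ring
    | mul_X p i hp =>
      have h2 := hsq _ (hs p) _ (hs (X i))
      have hsum : ∑ k, mk (pderiv k (p * X i)) * (mk (X k) - s (X k)) =
          mk (X i) * ∑ k, mk (pderiv k p) * (mk (X k) - s (X k)) +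
            mk p * (mk (X i) - s (X i)) := by
        simp only [Derivation.leibniz, smul_eq_mul, map_add, map_mul, add_mul, Finset.sum_add_distrib,
          Finset.mul_sum]
        rw [Finset.sum_eq_single i]
        · simp only [pderiv_X_self, map_one, mul_one]
          rw [add_comm]
          refine congrArg (· + _) (Finset.sum_congr rfl fun k _ => ?_)
          ring
        · intro k _ hk
          simp [pderiv_X_of_ne (Ne.symm hk)]
        · simp
      rw [hsum, ← hp, map_mul, map_mul]
      linear_combination -h2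
  choose w hw hw' using fun i => (Ideal.mem_map_iff_of_surjective (Ideal.Quotient.mk T)
    Ideal.Quotient.mk_surjective).1 (hker''.le (hs (X i)))
  -- clear the denominators
  choose z hz using fun i => (IsLocalization.mem_map_algebraMap_iff (Submonoid.powers H₀) B).1 (hw i)
  let M : P := ∏ i, ((z i).2 : P)
  let W : Fin n → P := fun i => ((z i).1 : P) * ∏ k ∈ Finset.univ.erase i, ((z k).2 : P)
  have hW : ∀ i, ι (W i) = ι M * w i := fun i => by
    have h1 : M = ((z i).2 : P) * ∏ k ∈ Finset.univ.erase i, ((z k).2 : P) :=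
      (Finset.mul_prod_erase Finset.univ (fun k => ((z k).2 : P)) (Finset.mem_univ i)).symm
    simp only [W, map_mul, h1, ι]
    rw [← hz i]
    ring
  have hWJ : ∀ i, W i ∈ J := fun i => J.mul_mem_right _ (z i).1.2
  have hx : ∀ j, ι (M * f j - ∑ i, pderiv i (f j) * W i) ∈ T := fun j => by
    have hfj : s (f j) = 0 := by
      show σ (algebraMap C Ch (φ (f j))) = 0
      rw [show φ (f j) = 0 from hker.ge (Ideal.subset_span ⟨j, rfl⟩), map_zero, map_zero]
    have h1 := hD (f j)
    rw [hfj, sub_zero] at h1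
    rw [← Ideal.Quotient.eq_zero_iff_mem]
    simp only [map_sub, map_sum, map_mul, hW]
    rw [sub_eq_zero]
    calc Ideal.Quotient.mk T (ι M) * Ideal.Quotient.mk T (ι (f j))
        = Ideal.Quotient.mk T (ι M) * mk (f j) := rfl
      _ = _ := by
        rw [h1, Finset.mul_sum]
        refine Finset.sum_congr rfl fun i _ => ?_
        rw [hw' i]
        show _ * (Ideal.Quotient.mk T (ι (pderiv i (f j))) * _) = _
        ring
  choose l hl using fun j => (IsLocalization.algebraMap_mem_map_algebraMap_iff (Submonoid.powers H₀) B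
    _ _).1 (hx j)
  refine ⟨(∏ j, l j) * M, ?_, fun i => (∏ j, l j) * W i, fun i => J.mul_mem_left _ (hWJ i),
    fun j => ?_⟩
  · have hpow : ∀ y ∈ Submonoid.powers H₀, φ y ∉ q := by
      rintro _ ⟨k, rfl⟩
      rw [map_pow]
      exact fun h => hh₀ (Ideal.IsPrime.mem_of_pow_mem inferInstance k h)
    exact hpow _ (mul_mem (prod_mem fun j _ => (hl j).1) (prod_mem fun i _ => (z i).2.2))
  · have h1 : (∏ j, l j) * M * f j - ∑ i, pderiv i (f j) * ((∏ j, l j) * W i) =
        (∏ k ∈ Finset.univ.erase j, l k) * (l j * (M * f j - ∑ i, pderiv i (f j) * W i)) := by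
      rw [← Finset.mul_prod_erase Finset.univ l (Finset.mem_univ j)]
      simp only [mul_sub, Finset.mul_sum]
      congr 1
      · ring
      · refine Finset.sum_congr rfl fun i _ => ?_
        ring
    rw [h1]
    exact Ideal.mul_mem_left _ _ (hl j).2

/-- A determinant trick. -/
theorem exists_mul_mem {P : Type*} [CommRing P] {ι : Type*} [Fintype ι] (f : ι → P)
    (N q : Ideal P) [q.IsPrime] (x : P) (hx : x ∉ q)
    (h : ∀ j, x * f j ∈ N ⊔ q * Ideal.span (Set.range f)) :
    ∃ u, u ∉ q ∧ ∀ j, u * f j ∈ N := by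
  classical
  have hmem : ∀ y ∈ q * Ideal.span (Set.range f), ∃ Q : ι → P, (∀ k, Q k ∈ q) ∧
      y = ∑ k, Q k * f k := by
    intro y hy
    refine Submodule.mul_induction_on hy (fun a ha b hb => ?_) ?_
    · obtain ⟨c, rfl⟩ := (Submodule.mem_span_range_iff_exists_fun P).1 hb
      refine ⟨fun k => a * c k, fun k => q.mul_mem_right _ ha, ?_⟩
      simp [Finset.mul_sum, mul_assoc]
    · rintro _ _ ⟨Q, hQ, rfl⟩ ⟨Q', hQ', rfl⟩
      exact ⟨Q + Q', fun k => q.add_mem (hQ k) (hQ' k), by simp [add_mul, Finset.sum_add_distrib]⟩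
  choose a ha y hy hay using fun j => Submodule.mem_sup.1 (h j)
  choose Q hQ hQy using fun j => hmem (y j) (hy j)
  let A : Matrix ι ι P := x • (1 : Matrix ι ι P) - Matrix.of Q
  have hA : A.mulVec f = a := by
    funext j
    rw [Matrix.sub_mulVec, Matrix.smul_mulVec, Matrix.one_mulVec]
    simp only [Pi.sub_apply, Pi.smul_apply, smul_eq_mul, Matrix.mulVec, dotProduct, Matrix.of_apply]
    rw [← hQy j, ← hay j]
    ring
  refine ⟨A.det, fun hmem' => ?_, fun j => ?_⟩
  · rw [← Ideal.Quotient.eq_zero_iff_mem, RingHom.map_det] at hmem'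
    have h2 : (Ideal.Quotient.mk q).mapMatrix A =
        Ideal.Quotient.mk q x • (1 : Matrix ι ι (P ⧸ q)) := by
      ext i k
      simp [A, Matrix.one_apply, Ideal.Quotient.eq_zero_iff_mem.2 (hQ i k),
        apply_ite (Ideal.Quotient.mk q)]
    rw [h2, Matrix.det_smul, Matrix.det_one, mul_one] at hmem'
    exact hx (Ideal.Quotient.eq_zero_iff_mem.1 (eq_zero_of_pow_eq_zero hmem'))
  · have h2 : A.det • f = A.adjugate.mulVec a := by
      rw [← hA, Matrix.mulVec_mulVec, Matrix.adjugate_mul, Matrix.smul_mulVec, Matrix.one_mulVec]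
    rw [show A.det * f j = _ from congrFun h2 j]
    exact N.sum_mem fun k _ => N.mul_mem_left _ (ha k)

/-- At a prime where `R/I → C` is smooth, some of the given relations have an invertible square minor
and generate all of them modulo `I`. -/
theorem exists_good_minor (I : Ideal R) [Algebra (R ⧸ I) C] [IsScalarTower R (R ⧸ I) C]
    [Algebra.FinitePresentation (R ⧸ I) C] (f : Fin m → MvPolynomial (Fin n) R)
    (φ : MvPolynomial (Fin n) R →ₐ[R] C) (hφ : Function.Surjective φ)
    (hker : RingHom.ker φ.toRingHom = Ideal.span (Set.range f))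
    (q : Ideal C) [q.IsPrime] [Algebra.IsSmoothAt (R ⧸ I) q] :
    ∃ (c : ℕ) (s : Fin c → Fin m) (cols : Fin c → Fin n) (h : MvPolynomial (Fin n) R), φ h ∉ q ∧
      _root_.Smoothing.jacobianMinor f s cols ∣ h ∧
      ∀ j, h * f j ∈ Ideal.span (Set.range fun k => f (s k)) ⊔ I.map MvPolynomial.C := by
  classical
  obtain ⟨H, hH, W, hW, hHW⟩ := exists_derivation_identity I f φ hφ hker q
  let q' : Ideal (MvPolynomial (Fin n) R) := q.comap φ
  let K := q'.ResidueField
  let e := algebraMap (MvPolynomial (Fin n) R) K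
  have he : ∀ p, e p = 0 ↔ p ∈ q' := fun p => Ideal.algebraMap_residueField_eq_zero
  let v : Fin m → Fin n → K := fun j i => e (pderiv i (f j))
  obtain ⟨κ, a, hinj, hspan, hli⟩ := exists_linearIndependent' K v
  haveI := Fintype.ofInjective a hinj
  let ε := Fintype.equivFin κ
  let s : Fin (Fintype.card κ) → Fin m := fun k => a (ε.symm k)
  have hli' : LinearIndependent K fun k => v (s k) := hli.comp _ ε.symm.injective
  have hT : ∀ j, ∃ c : Fin (Fintype.card κ) → K, ∑ k, c k • v (s k) = v j := fun j => by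
    rw [← Submodule.mem_span_range_iff_exists_fun]
    have : Set.range (fun k => v (s k)) = Set.range (v ∘ a) := by
      show Set.range ((v ∘ a) ∘ ε.symm) = _
      rw [EquivLike.range_comp]
    rw [this, hspan]
    exact Submodule.subset_span ⟨j, rfl⟩
  choose T hT using hT
  -- a minor which is nonzero at `q`
  obtain ⟨g, hg⟩ := (Fintype.linearCombination K fun k => v (s k)).exists_leftInverse_of_injective
    (LinearMap.ker_eq_bot.2 hli'.fintypeLinearCombination_injective)
  let L : Matrix (Fin n) (Fin (Fintype.card κ)) K := Matrix.of fun i l => g (Pi.single i 1) l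
  have hL : (Matrix.of fun k => v (s k)) * L = 1 := by
    ext k l
    have h1 : g (v (s k)) = Pi.single k 1 := by
      have h2 := LinearMap.congr_fun hg (Pi.single k 1)
      simpa [Fintype.linearCombination_apply, Pi.single_apply, ite_smul] using h2
    have h2 : g (v (s k)) = ∑ i, v (s k) i • g (Pi.single i 1) := by
      conv_lhs => rw [pi_eq_sum_univ' (v (s k))]
      simp
    rw [Matrix.one_apply, Matrix.mul_apply]
    have h3 := congrFun (h2.symm.trans h1) l
    simp only [Finset.sum_apply, Pi.smul_apply, smul_eq_mul, Pi.single_apply] at h3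
    simpa [L, eq_comm] using h3
  have hmin := Minors.span_minors_eq_top _ L hL
  obtain ⟨cols, hcols⟩ : ∃ cols : Fin (Fintype.card κ) → Fin n,
      ((Matrix.of fun k => v (s k)).submatrix id cols).det ≠ 0 := by
    by_contra hc
    simp only [not_exists, ne_eq, not_not] at hc
    refine bot_ne_top (α := Ideal K) ?_
    rw [← hmin, eq_comm, Ideal.span_eq_bot]
    rintro _ ⟨cols, rfl⟩
    exact hc cols
  set Δ := _root_.Smoothing.jacobianMinor f s cols with hΔ
  have hΔq : Δ ∉ q' := fun h => hcols (by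
    rw [← (he Δ).2 h, hΔ, _root_.Smoothing.jacobianMinor, RingHom.map_det]
    rfl)
  -- denominators of the coefficients
  obtain ⟨⟨b, hb⟩, hbT⟩ := IsLocalization.exist_integer_multiples_of_finite
    (nonZeroDivisors ((MvPolynomial (Fin n) R) ⧸ q')) fun x : Fin m × Fin (Fintype.card κ) => T x.1 x.2
  choose t ht using hbT
  obtain ⟨E, rfl⟩ := Ideal.Quotient.mk_surjective b
  choose T' hT' using fun x => Ideal.Quotient.mk_surjective (t x)
  have hE : E ∉ q' := fun h =>
    nonZeroDivisors.ne_zero hb (Ideal.Quotient.eq_zero_iff_mem.2 h)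
  have heT : ∀ j k, e (T' (j, k)) = e E * T j k := fun j k => by
    have h1 := ht (j, k)
    rw [← hT' (j, k), Algebra.smul_def] at h1
    exact h1
  set N := Ideal.span (Set.range fun k => f (s k)) ⊔ I.map (MvPolynomial.C : R →+* (MvPolynomial (Fin n) R))
  have hJq : Ideal.span (Set.range f) ≤ q' := fun p hp => by
    show φ p ∈ q
    rw [show φ p = 0 from hker.ge hp]
    exact q.zero_mem
  obtain ⟨u, hu, huf⟩ := exists_mul_mem f N q' (E * H)
    (fun h => (Ideal.IsPrime.mem_or_mem inferInstance h).elim hE hH) (fun j => by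
      let rest := fun j => H * f j - ∑ i, pderiv i (f j) * W i
      have hrest : ∀ j, rest j ∈ N ⊔ q' * Ideal.span (Set.range f) := fun j => by
        refine SetLike.le_def.1 ?_ (hHW j)
        rw [pow_two]
        exact sup_le ((Ideal.mul_mono_left hJq).trans le_sup_right)
          ((le_sup_right (a := Ideal.span (Set.range fun k => f (s k)))).trans le_sup_left)
      have hkey : E * H * f j = ∑ k, T' (j, k) * H * f (s k) +
          ∑ i, (E * pderiv i (f j) - ∑ k, T' (j, k) * pderiv i (f (s k))) * W i +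
          (E * rest j - ∑ k, T' (j, k) * rest (s k)) := by
        have h1 : ∑ k, T' (j, k) * ∑ i, pderiv i (f (s k)) * W i =
            ∑ i, (∑ k, T' (j, k) * pderiv i (f (s k))) * W i := by
          simp only [Finset.sum_mul, Finset.mul_sum]
          rw [Finset.sum_comm]
          exact Finset.sum_congr rfl fun i _ => Finset.sum_congr rfl fun k _ => by ring
        have h2 : E * ∑ i, pderiv i (f j) * W i = ∑ i, E * pderiv i (f j) * W i := by
          rw [Finset.mul_sum]
          exact Finset.sum_congr rfl fun i _ => by ring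
        have h3 : ∑ k, T' (j, k) * (H * f (s k)) = ∑ k, T' (j, k) * H * f (s k) :=
          Finset.sum_congr rfl fun k _ => by ring
        simp only [rest, mul_sub, sub_mul, Finset.sum_sub_distrib]
        rw [h1, h2, h3]
        ring
      rw [hkey]
      refine Ideal.add_mem _ (Ideal.add_mem _ ?_ ?_) (Ideal.sub_mem _ (Ideal.mul_mem_left _ _ (hrest j))
        (Ideal.sum_mem _ fun k _ => Ideal.mul_mem_left _ _ (hrest _)))
      · exact Ideal.sum_mem _ fun k _ => Ideal.mem_sup_left (Ideal.mem_sup_left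
          (Ideal.mul_mem_left _ _ (Ideal.subset_span ⟨k, rfl⟩)))
      · refine Ideal.sum_mem _ fun i _ => Ideal.mem_sup_right (Ideal.mul_mem_mul ?_ (hW i))
        rw [← he, map_sub, map_mul, map_sum]
        simp only [map_mul, heT]
        rw [show e (pderiv i (f j)) = v j i from rfl, ← hT j, Finset.sum_apply, Finset.mul_sum,
          sub_eq_zero]
        refine Finset.sum_congr rfl fun k _ => ?_
        rw [Pi.smul_apply, smul_eq_mul, mul_assoc])
  refine ⟨_, s, cols, Δ * u, fun h => (Ideal.IsPrime.mem_or_mem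
    (inferInstance : q'.IsPrime) (show Δ * u ∈ q' from h)).elim hΔq hu, dvd_mul_right _ _,
    fun j => ?_⟩
  rw [mul_assoc]
  exact N.mul_mem_left _ (huf j)

end Groth.Agent.Lib.Smoothing.LocalJacobian
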