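import Groth.Agent.Lib.Smoothing.Standard
import Groth.Agent.Lib.Smoothing.LocalJacobian
import Mathlib.RingTheory.Smooth.Flat
import Mathlib.RingTheory.Flat.EquationalCriterion

/-!
# The smooth model of the desingularization lemma
-/

universe u

open MvPolynomial

namespace Groth.Agent.Lib.Smoothing.DesingularizeModel

variable {R : Type u} [CommRing R]

/-- First order Taylor expansion. -/
theorem exists_taylor {P : Type*} [CommRing P] [Algebra R P] {n : ℕ} (a : Fin n → R) (t : R)
    (W : Fin n → P) (p : MvPolynomial (Fin n) R) :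
    ∃ q : P, aeval (fun i => algebraMap R P (a i) + algebraMap R P t * W i) p =
      algebraMap R P (eval a p) + algebraMap R P t * ∑ i, algebraMap R P (eval a (pderiv i p)) * W i +
        algebraMap R P t ^ 2 * q := by
  induction p using MvPolynomial.induction_on with
  | C r => exact ⟨0, by simp⟩
  | add p q hp hq =>
    obtain ⟨u, hu⟩ := hp
    obtain ⟨v, hv⟩ := hq
    refine ⟨u + v, ?_⟩
    simp only [map_add, hu, hv, add_mul, Finset.sum_add_distrib]
    ring
  | mul_X p i hp =>
    obtain ⟨u, hu⟩ := hp
    refine ⟨(∑ k, algebraMap R P (eval a (pderiv k p)) * W k) * W i +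
      u * (algebraMap R P (a i) + algebraMap R P t * W i), ?_⟩
    have hsum : ∑ k, algebraMap R P (eval a (pderiv k (p * X i))) * W k =
        algebraMap R P (a i) * (∑ k, algebraMap R P (eval a (pderiv k p)) * W k) +
          algebraMap R P (eval a p) * W i := by
      simp only [Derivation.leibniz, smul_eq_mul, map_add, map_mul, eval_X, add_mul,
        Finset.sum_add_distrib, Finset.mul_sum]
      rw [Finset.sum_eq_single i]
      · simp only [pderiv_X_self, map_one, mul_one]
        rw [add_comm]
        exact congrArg (· + _) (Finset.sum_congr rfl fun k _ => mul_assoc _ _ _)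
      · intro k _ hk
        simp [pderiv_X_of_ne (Ne.symm hk)]
      · simp
    rw [hsum, map_mul, hu, aeval_X, map_mul, eval_X, map_mul]
    ring

variable {c n : ℕ}

/-- The relations `g_k = y_k + (J v)_k + π h_k`. -/
noncomputable def rel (π : R) (J : Fin c → Fin n → R) (h : Fin c → MvPolynomial (Fin (c + n)) R)
    (k : Fin c) : MvPolynomial (Fin (c + n)) R :=
  X (Fin.castAdd n k) + ∑ i, MvPolynomial.C (J k i) * X (Fin.natAdd c i) + MvPolynomial.C π * h k

variable (π : R) (J : Fin c → Fin n → R) (h : Fin c → MvPolynomial (Fin (c + n)) R)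

/-- The Jacobian determinant of `g` with respect to `y`. -/
noncomputable def jac : MvPolynomial (Fin (c + n)) R :=
  _root_.Smoothing.jacobianMinor (rel π J h) id (Fin.castAdd n)

theorem jac_sub_one_mem : jac π J h - 1 ∈ Ideal.span {MvPolynomial.C π} := by
  classical
  rw [← Ideal.Quotient.eq, jac, _root_.Smoothing.jacobianMinor, RingHom.map_det, map_one]
  have hone : (Ideal.Quotient.mk (Ideal.span {(MvPolynomial.C π : MvPolynomial (Fin (c + n)) R)})).mapMatrix
      (Matrix.of fun j k : Fin c => pderiv (Fin.castAdd n k) (rel π J h (id j))) = 1 := by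
    refine Matrix.ext fun j k => ?_
    have hne : ∀ i, pderiv (Fin.castAdd n k) (X (Fin.natAdd c i) : MvPolynomial (Fin (c + n)) R) = 0 := by
      intro i
      refine pderiv_X_of_ne fun h => ?_
      have := congrArg Fin.val h
      simp at this
      have := k.2
      omega
    have hπ : Ideal.Quotient.mk (Ideal.span {(MvPolynomial.C π : MvPolynomial (Fin (c + n)) R)})
        (MvPolynomial.C π) = 0 :=
      Ideal.Quotient.eq_zero_iff_mem.2 (Ideal.subset_span rfl)
    simp only [RingHom.mapMatrix_apply, Matrix.map_apply, Matrix.of_apply, id, rel, map_add, map_sum,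
      Derivation.leibniz, smul_eq_mul, hne, pderiv_C, mul_zero, add_zero, Finset.sum_const_zero,
      map_mul, hπ, zero_mul]
    by_cases hjk : j = k
    · subst hjk
      simp
    · rw [pderiv_X_of_ne fun h => hjk (Fin.castAdd_injective c n h), map_zero,
        Matrix.one_apply_ne hjk]
  rw [hone, Matrix.det_one]

/-- `R[y, v] / (g)` is smooth where the Jacobian determinant is invertible. -/
theorem smooth : Algebra.Smooth R (Localization.Away
    (Ideal.Quotient.mk (Ideal.span (Set.range (rel π J h))) (jac π J h))) := by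
  let P : _root_.Smoothing.MarkedPresentation R
      (MvPolynomial (Fin (c + n)) R ⧸ Ideal.span (Set.range (rel π J h))) :=
    { n := c + n
      m := c
      c := c
      hcn := Nat.le_add_right c n
      hcm := le_rfl
      rel := rel π J h
      hom := Ideal.Quotient.mkₐ R _
      surj := Ideal.Quotient.mk_surjective
      ker_eq := Ideal.mk_ker }
  exact (Standard.smooth_stablyFree _ ⟨P, Ideal.subset_span ⟨Fin.castAdd n, rfl⟩,
    fun _ _ j hj => absurd j.2 (not_lt.2 hj)⟩).1

/-- In a flat algebra, multiples of `π²` killed by `π` are killed by every `r` with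
`r · Ann(π²) ⊆ Ann(π)`. -/
theorem mul_eq_zero_of_flat {E : Type*} [CommRing E] [Algebra R E] [Module.Flat R E] {π r : R}
    (hr : ∀ x : R, π ^ 2 * x = 0 → π * (r * x) = 0) {e : E}
    (he : algebraMap R E π * (algebraMap R E π ^ 2 * e) = 0) :
    algebraMap R E r * (algebraMap R E π ^ 2 * e) = 0 := by
  have h2 : ∑ i : Fin 1, (fun _ => π ^ 3) i • (fun _ => e) i = 0 := by
    rw [Fin.sum_univ_one, Algebra.smul_def, map_pow, ← he]
    ring
  obtain ⟨k, a, y, hy, ha⟩ := Module.Flat.isTrivialRelation_of_sum_smul_eq_zero h2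
  simp only [Fin.sum_univ_one] at ha
  rw [show e = ∑ j, a 0 j • y j from hy 0, Finset.mul_sum, Finset.mul_sum]
  refine Finset.sum_eq_zero fun j _ => ?_
  have h3 : r * (π ^ 2 * a 0 j) = 0 := by
    have h4 := hr (π * a 0 j) (by linear_combination ha j)
    linear_combination h4
  rw [Algebra.smul_def]
  have h5 := congrArg (algebraMap R E) h3
  simp only [map_mul, map_pow, map_zero] at h5
  linear_combination (y j) * h5

variable {P₀ B : Type u} [CommRing P₀] [CommRing B] [Algebra R P₀] [Algebra R B]

/-- If `w` kills the kernel of a surjection, inverting `w` gives the same algebra. -/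
theorem smooth_away_of_killed (θ : P₀ →ₐ[R] B) (hθ : Function.Surjective θ) (w : P₀)
    (hw : ∀ x, θ x = 0 → w * x = 0) [Algebra.Smooth R (Localization.Away w)] :
    Algebra.Smooth R (Localization.Away (θ w)) := by
  let U := Localization.Away w
  let V := Localization.Away (θ w)
  have hu : ∀ y : Submonoid.powers w, IsUnit (((IsScalarTower.toAlgHom R B V).comp θ) y) := by
    rintro ⟨_, k, rfl⟩
    rw [map_pow]
    exact (IsLocalization.Away.algebraMap_isUnit (θ w)).pow k
  let Φ : U →ₐ[R] V := IsLocalization.liftAlgHom (S := U) hu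
  have hΦ : ∀ x, Φ (algebraMap P₀ U x) = algebraMap B V (θ x) := fun x => IsLocalization.lift_eq hu x
  have hker : ∀ x ∈ RingHom.ker θ, IsScalarTower.toAlgHom R P₀ U x = 0 := fun x hx =>
    (IsLocalization.Away.algebraMap_isUnit (S := U) w).mul_right_eq_zero.1
      (show algebraMap P₀ U w * algebraMap P₀ U x = 0 by rw [← map_mul, hw x hx, map_zero])
  let ψ₀ : B →ₐ[R] U :=
    (Ideal.Quotient.liftₐ (RingHom.ker θ) (IsScalarTower.toAlgHom R P₀ U) hker).comp
      (Ideal.quotientKerAlgEquivOfSurjective hθ).symm.toAlgHom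
  have hψ₀ : ∀ x, ψ₀ (θ x) = algebraMap P₀ U x := fun x => by
    show Ideal.Quotient.liftₐ (RingHom.ker θ) (IsScalarTower.toAlgHom R P₀ U) hker
      ((Ideal.quotientKerAlgEquivOfSurjective hθ).symm (θ x)) = _
    rw [show (Ideal.quotientKerAlgEquivOfSurjective hθ).symm (θ x) =
      Ideal.Quotient.mk _ x from (AlgEquiv.symm_apply_eq _).2 rfl]
    rfl
  have hu' : ∀ y : Submonoid.powers (θ w), IsUnit (ψ₀ y) := by
    rintro ⟨_, k, rfl⟩
    rw [map_pow, hψ₀]
    exact (IsLocalization.Away.algebraMap_isUnit w).pow k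
  let Ψ : V →ₐ[R] U := IsLocalization.liftAlgHom (S := V) hu'
  have hΨ : ∀ b, Ψ (algebraMap B V b) = ψ₀ b := fun b => IsLocalization.lift_eq hu' b
  refine Algebra.Smooth.of_equiv (A := U) (AlgEquiv.ofAlgHom Φ Ψ ?_ ?_)
  · apply IsLocalization.algHom_ext (Submonoid.powers (θ w))
    refine AlgHom.ext fun b => ?_
    obtain ⟨x, rfl⟩ := hθ b
    show Φ (Ψ (algebraMap B V (θ x))) = algebraMap B V (θ x)
    rw [hΨ, hψ₀, hΦ]
  · apply IsLocalization.algHom_ext (Submonoid.powers w)
    refine AlgHom.ext fun x => ?_
    show Ψ (Φ (algebraMap P₀ U x)) = algebraMap P₀ U x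
    rw [hΦ, hΨ, hψ₀]

end Groth.Agent.Lib.Smoothing.DesingularizeModel
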