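import Mathlib.RingTheory.Etale.Kaehler
import Mathlib.RingTheory.Smooth.Basic
import Mathlib.RingTheory.Extension.Cotangent.Basic
import Mathlib.LinearAlgebra.InvariantBasisNumber

/-!
# A presentation whose localised cotangent module is free

Adding variables killed by the presentation turns a stably free cotangent module into a free one.
-/

universe u

open TensorProduct

namespace Groth.Agent.Lib.Smoothing.FreeCotangent

variable {R : Type u} [CommRing R] {A : Type u} [CommRing A] [Algebra R A]

section Split

variable {S : Type*} [CommRing S] {M N : Type*} [AddCommGroup M] [Module S M] [AddCommGroup N]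
  [Module S N]

/-- A surjection onto a projective module splits off its kernel. -/
theorem exists_equiv_ker_prod [Module.Projective S N] (π : M →ₗ[S] N)
    (hπ : Function.Surjective π) : Nonempty ((LinearMap.ker π × N) ≃ₗ[S] M) := by
  obtain ⟨s, hs⟩ := Module.projective_lifting_property π LinearMap.id hπ
  have hs' : ∀ y, π (s y) = y := fun y => LinearMap.congr_fun hs y
  refine ⟨LinearEquiv.ofBijective ((LinearMap.ker π).subtype.coprod s) ⟨?_, fun x => ?_⟩⟩
  · rw [injective_iff_map_eq_zero]
    rintro ⟨⟨k, hk⟩, y⟩ h
    have hy : y = 0 := by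
      have := congrArg π h
      simpa [hs', LinearMap.mem_ker.1 hk] using this
    subst hy
    have : k = 0 := by simpa using h
    subst this
    rfl
  · exact ⟨(⟨x - s (π x), by simp [hs']⟩, π x), by simp⟩

end Split

variable (T : Type u) [CommRing T] [Algebra A T] [Algebra R T] [IsScalarTower R A T]

/-- The cotangent complex of a formally smooth localisation is split injective. -/
theorem exists_retraction {ι : Type} (G : Algebra.Generators R A ι) (M : Submonoid A)
    [IsLocalization M T] [Algebra.FormallySmooth R T] :
    ∃ r : T ⊗[A] G.toExtension.CotangentSpace →ₗ[T] T ⊗[A] G.toExtension.Cotangent,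
      ∀ z, r (G.toExtension.cotangentComplex.baseChange T z) = z := by
  have hflat : Module.Flat A T := IsLocalization.flat T M
  let d := G.toExtension.cotangentComplex.baseChange T
  let π := G.toExtension.toKaehler.baseChange T
  have hsub : Subsingleton (T ⊗[A] G.toExtension.H1Cotangent) := by
    have : Subsingleton (T ⊗[A] Algebra.H1Cotangent R A) :=
      (Algebra.tensorH1CotangentOfIsLocalization R T M).toEquiv.subsingleton
    exact (TensorProduct.congr (LinearEquiv.refl A T) G.equivH1Cotangent).toEquiv.subsingleton
  have hd : Function.Injective d := by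
    rw [injective_iff_map_eq_zero]
    intro z hz
    obtain ⟨w, rfl⟩ := (Module.Flat.lTensor_exact T
      (Algebra.Extension.exact_hCotangentι_cotangentComplex (P := G.toExtension)) z).1 hz
    rw [Subsingleton.elim w 0, map_zero]
  have hex : Function.Exact d π :=
    Module.Flat.lTensor_exact T G.toExtension.exact_cotangentComplex_toKaehler
  have hπ : Function.Surjective π :=
    LinearMap.lTensor_surjective T G.toExtension.toKaehler_surjective
  have : Algebra.FormallyEtale A T := Algebra.FormallyEtale.of_isLocalization M
  have : Module.Projective T (T ⊗[A] Ω[A⁄R]) :=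
    Module.Projective.of_equiv (KaehlerDifferential.tensorKaehlerEquivOfFormallyEtale R A T).symm
  obtain ⟨s, hs⟩ := Module.projective_lifting_property π LinearMap.id hπ
  let u : T ⊗[A] G.toExtension.CotangentSpace →ₗ[T] T ⊗[A] G.toExtension.CotangentSpace :=
    LinearMap.id - s.comp π
  have hmem : ∀ x, u x ∈ LinearMap.range d := by
    intro x
    refine (hex _).1 ?_
    show π (x - s (π x)) = 0
    rw [map_sub, show π (s (π x)) = π x from LinearMap.congr_fun hs _, sub_self]
  refine ⟨(LinearEquiv.ofInjective d hd).symm.toLinearMap.comp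
    (u.codRestrict (LinearMap.range d) hmem), fun z => ?_⟩
  apply (LinearEquiv.ofInjective d hd).injective
  rw [LinearMap.comp_apply, LinearEquiv.coe_coe, LinearEquiv.apply_symm_apply]
  ext1
  show d z - s (π (d z)) = d z
  rw [hex.apply_apply_eq_zero, map_zero, sub_zero]

/-- Padding the generators with `q` zeros makes the localised cotangent module free of rank `n + p`,
given `Ω ⊕ T^p ≅ T^q`. -/
theorem nonempty_basis {n p q : ℕ} (G : Algebra.Generators R A (Fin (n + q)))
    (hG : ∀ j : Fin q, G.val (Fin.natAdd n j) = 0) (M : Submonoid A) [IsLocalization M T]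
    [Algebra.FormallySmooth R T] (e : (Ω[T⁄R] × (Fin p → T)) ≃ₗ[T] (Fin q → T)) :
    Nonempty (Module.Basis (Fin (n + p)) T (T ⊗[A] G.toExtension.Cotangent)) := by
  have hflat : Module.Flat A T := IsLocalization.flat T M
  obtain ⟨r, hr⟩ := exists_retraction T G M
  let d := G.toExtension.cotangentComplex.baseChange T
  let π := G.toExtension.toKaehler.baseChange T
  have hd : Function.Injective d := Function.LeftInverse.injective hr
  have hex : Function.Exact d π :=
    Module.Flat.lTensor_exact T G.toExtension.exact_cotangentComplex_toKaehler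
  have hπ : Function.Surjective π :=
    LinearMap.lTensor_surjective T G.toExtension.toKaehler_surjective
  have : Algebra.FormallyEtale A T := Algebra.FormallyEtale.of_isLocalization M
  let eΩ : T ⊗[A] Ω[A⁄R] ≃ₗ[T] Ω[T⁄R] := KaehlerDifferential.tensorKaehlerEquivOfFormallyEtale R A T
  have : Module.Projective T (T ⊗[A] Ω[A⁄R]) := Module.Projective.of_equiv eΩ.symm
  let B := (G.cotangentSpaceBasis.baseChange T)
  let σ : (Fin (n + q) → T) ≃ₗ[T] (Fin n → T) × (Fin q → T) :=
    (LinearEquiv.funCongrLeft T T finSumFinEquiv).trans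
      (LinearEquiv.sumArrowLequivProdArrow (Fin n) (Fin q) T T)
  let π' : (Fin (n + q) → T) →ₗ[T] T ⊗[A] Ω[A⁄R] := π.comp B.equivFun.symm.toLinearMap
  have hπ'surj : Function.Surjective π' := hπ.comp B.equivFun.symm.surjective
  let πn : (Fin n → T) →ₗ[T] T ⊗[A] Ω[A⁄R] :=
    (π'.comp σ.symm.toLinearMap).comp (LinearMap.inl T _ _)
  have hzero : ∀ v : Fin q → T, π' (σ.symm (0, v)) = 0 := by
    intro v
    show π (B.equivFun.symm _) = 0
    rw [Module.Basis.equivFun_symm_apply, map_sum]
    refine Finset.sum_eq_zero fun i _ => ?_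
    rw [map_smul]
    obtain ⟨i | i, rfl⟩ := finSumFinEquiv.surjective i
    · simp [σ, LinearEquiv.funCongrLeft, LinearEquiv.sumArrowLequivProdArrow,
        Equiv.sumArrowEquivProdArrow]
    · have : π (B (finSumFinEquiv (Sum.inr i))) = 0 := by
        show G.toExtension.toKaehler.baseChange T _ = 0
        rw [Module.Basis.baseChange_apply, LinearMap.baseChange_tmul,
          Algebra.Generators.toKaehler_cotangentSpaceBasis, finSumFinEquiv_apply_right, hG,
          map_zero, TensorProduct.tmul_zero]
      rw [this, smul_zero]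
  have hsplit : ∀ w, π' w = πn (σ w).1 := by
    intro w
    have : σ.symm ((σ w).1, 0) + σ.symm (0, (σ w).2) = w := by
      rw [← map_add, Prod.mk_add_mk, add_zero, zero_add, Prod.mk.eta, LinearEquiv.symm_apply_apply]
    conv_lhs => rw [← this]
    rw [map_add, hzero, add_zero]
    rfl
  have hπn : Function.Surjective πn := fun y => by
    obtain ⟨w, rfl⟩ := hπ'surj y
    exact ⟨(σ w).1, (hsplit w).symm⟩
  -- the kernel of the padded map
  let K : LinearMap.ker π' ≃ₗ[T] LinearMap.ker πn × (Fin q → T) :=
    { toFun := fun w => (⟨(σ w.1).1, by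
        show πn (σ w.1).1 = 0
        rw [← hsplit]; exact w.2⟩, (σ w.1).2)
      invFun := fun kv => ⟨σ.symm (kv.1.1, kv.2), by
        show π' _ = 0
        rw [hsplit, LinearEquiv.apply_symm_apply]; exact kv.1.2⟩
      map_add' := fun a b => by ext <;> simp
      map_smul' := fun c a => by ext <;> simp
      left_inv := fun w => by ext1; simp
      right_inv := fun kv => by ext <;> simp }
  obtain ⟨E⟩ := exists_equiv_ker_prod πn hπn
  let e1 : (T ⊗[A] Ω[A⁄R] × (Fin p → T)) ≃ₗ[T] (Fin q → T) :=
    (eΩ.prodCongr (LinearEquiv.refl T (Fin p → T))).trans e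
  let C1 : T ⊗[A] G.toExtension.Cotangent ≃ₗ[T] LinearMap.range d := LinearEquiv.ofInjective d hd
  let C2 : LinearMap.range d ≃ₗ[T] LinearMap.ker π' :=
    { toFun := fun w => ⟨B.equivFun w.1, by
        show π (B.equivFun.symm (B.equivFun w.1)) = 0
        rw [LinearEquiv.symm_apply_apply]; exact (hex w.1).2 w.2⟩
      invFun := fun w => ⟨B.equivFun.symm w.1, (hex _).1 w.2⟩
      map_add' := fun a b => by ext1; simp
      map_smul' := fun c a => by ext1; simp
      left_inv := fun w => Subtype.ext (B.equivFun.symm_apply_apply w.1)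
      right_inv := fun w => Subtype.ext (B.equivFun.apply_symm_apply w.1) }
  let C3 : LinearMap.ker π' ≃ₗ[T] (Fin n → T) × (Fin p → T) :=
    ((K.trans ((LinearEquiv.refl T (LinearMap.ker πn)).prodCongr e1.symm)).trans
      (LinearEquiv.prodAssoc T (LinearMap.ker πn) (T ⊗[A] Ω[A⁄R]) (Fin p → T)).symm).trans
      (E.prodCongr (LinearEquiv.refl T (Fin p → T)))
  exact ⟨Module.Basis.ofEquivFun (((C1.trans C2).trans C3).trans
    ((LinearEquiv.funCongrLeft T T finSumFinEquiv).trans
      (LinearEquiv.sumArrowLequivProdArrow (Fin n) (Fin p) T T)).symm)⟩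

end Groth.Agent.Lib.Smoothing.FreeCotangent
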