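import Groth.Prelude.Def_Smoothing
import Groth.Agent.Lib.Smoothing.FreeCotangent
import Groth.Agent.Lib.Smoothing.Standard
import Mathlib.RingTheory.Smooth.StandardSmoothOfFree
import Mathlib.RingTheory.Localization.BaseChange
import Mathlib.RingTheory.Localization.Integer
import Mathlib.LinearAlgebra.Basis.SMul

/-!
# Elementary standard elements and the singular ideal
-/

universe u

open MvPolynomial TensorProduct

namespace Groth.Agent.Lib.Smoothing.Elementary

variable {R A : Type u} [CommRing R] [CommRing A] [Algebra R A]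

section LocalBasis

/-- A map which is an isomorphism up to powers of `f` gives a basis of `Ω` of `A_f`. -/
theorem bijective_away (f : A) {q : ℕ} (s : Fin q → A)
    (hs : ∀ y : Ω[A⁄R], ∃ k, f ^ k • y ∈
      LinearMap.range (Fintype.linearCombination A fun i => KaehlerDifferential.D R A (s i)))
    (hi : ∀ u, Fintype.linearCombination A (fun i => KaehlerDifferential.D R A (s i)) u = 0 →
      ∃ k, f ^ k • u = 0) :
    Function.Bijective (Fintype.linearCombination (Localization.Away f) fun i =>
      KaehlerDifferential.D R (Localization.Away f) (algebraMap A (Localization.Away f) (s i))) := by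
  set e := Fintype.linearCombination A fun i => KaehlerDifferential.D R A (s i)
  let T := Localization.Away f
  have hloc : IsLocalizedModule (Submonoid.powers f) (KaehlerDifferential.map R R A T) :=
    inferInstance
  let eT := Fintype.linearCombination T fun i => KaehlerDifferential.D R T (algebraMap A T (s i))
  have hcomp : ∀ u : Fin q → A, eT (fun i => algebraMap A T (u i)) =
      KaehlerDifferential.map R R A T (e u) := by
    intro u
    simp [eT, e, Fintype.linearCombination_apply, algebraMap_smul]
  constructor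
  · rw [injective_iff_map_eq_zero]
    intro u hu
    obtain ⟨⟨c, hc⟩, hint⟩ := IsLocalization.exist_integer_multiples_of_finite (Submonoid.powers f) u
    choose u' hu' using hint
    have h1 : KaehlerDifferential.map R R A T (e u') = 0 := by
      rw [← hcomp, show (fun i => algebraMap A T (u' i)) = c • u from funext hu',
        LinearMap.map_smul_of_tower]
      show c • eT u = 0
      rw [show eT u = 0 from hu, smul_zero]
    obtain ⟨⟨_, k, rfl⟩, hk⟩ := (IsLocalizedModule.eq_zero_iff (Submonoid.powers f) _).1 h1
    have h2 : e (f ^ k • u') = 0 := by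
      rw [map_smul]; exact hk
    obtain ⟨k', hk'⟩ := hi _ h2
    funext i
    have hf : IsUnit (algebraMap A T f) := IsLocalization.Away.algebraMap_isUnit f
    have h4 := congrArg (algebraMap A T) (congrFun hk' i)
    simp only [Pi.smul_apply, smul_eq_mul, map_mul, map_pow, Pi.zero_apply, map_zero] at h4
    rw [(hf.pow k').mul_right_eq_zero, (hf.pow k).mul_right_eq_zero, hu' i, Algebra.smul_def] at h4
    exact (IsLocalization.map_units T ⟨c, hc⟩).mul_right_eq_zero.1 h4
  · intro ω
    obtain ⟨⟨w, c⟩, hw⟩ := IsLocalizedModule.surj (Submonoid.powers f)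
      (KaehlerDifferential.map R R A T) ω
    obtain ⟨k, u', hu'⟩ := hs w
    have hu : IsUnit (algebraMap A T (f ^ k * (c : A))) :=
      IsLocalization.map_units T (⟨f ^ k, k, rfl⟩ * c)
    refine ⟨(hu.unit⁻¹ : Tˣ) • fun i => algebraMap A T (u' i), ?_⟩
    have : eT (fun i => algebraMap A T (u' i)) = algebraMap A T (f ^ k * (c : A)) • ω := by
      rw [hcomp, hu', map_smul, algebraMap_smul T, mul_smul]
      exact congrArg (f ^ k • ·) hw.symm
    rw [Units.smul_def, map_smul]
    show _ • eT _ = ω
    rw [this, smul_smul]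
    conv_rhs => rw [← one_smul T ω]
    exact congrArg (· • ω) hu.val_inv_mul

/-- Near a point of smoothness, `Ω` is free on the differentials of elements of `A`. -/
theorem exists_local_basis [Algebra.FinitePresentation R A] (p : Ideal A) [p.IsPrime]
    [Algebra.IsSmoothAt R p] :
    ∃ f, f ∉ p ∧ Algebra.Smooth R (Localization.Away f) ∧ ∃ (q : ℕ) (s : Fin q → A),
      Function.Bijective (Fintype.linearCombination (Localization.Away f) fun i =>
        KaehlerDifferential.D R (Localization.Away f) (algebraMap A (Localization.Away f) (s i))) := by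
  classical
  obtain ⟨f₀, hf₀, hsm⟩ := Algebra.IsSmoothAt.exists_notMem_smooth R p
  let Ap := Localization.AtPrime p
  obtain ⟨κ, a, b, hb⟩ := Module.exists_basis_of_span_of_flat _
    (KaehlerDifferential.span_range_map_derivation_of_isLocalization R _ Ap p.primeCompl)
  have : Finite κ := Module.Finite.finite_basis b
  obtain ⟨q, ⟨σ⟩⟩ := Finite.exists_equiv_fin κ
  let b' := b.reindex σ
  let s : Fin q → A := fun i => a (σ.symm i)
  let e := Fintype.linearCombination A fun i => KaehlerDifferential.D R A (s i)
  let l₁ : (Fin q → A) →ₗ[A] (Fin q → Ap) :=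
    LinearMap.pi fun i => (Algebra.linearMap A Ap).comp (LinearMap.proj i)
  have hl₁ : IsLocalizedModule p.primeCompl l₁ := IsLocalizedModule.pi _ _
  let l₂ : Ω[A⁄R] →ₗ[A] Ω[Ap⁄R] := KaehlerDifferential.map R R A Ap
  have heq : IsLocalizedModule.map p.primeCompl l₁ l₂ e =
      (b'.equivFun.symm.toLinearMap).restrictScalars A := by
    apply IsLocalizedModule.linearMap_ext p.primeCompl l₁ l₂
    refine LinearMap.ext fun u => ?_
    simp [l₁, l₂, e, b', s, Fintype.linearCombination_apply, Module.Basis.equivFun_symm_apply, hb,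
      algebraMap_smul]
  obtain ⟨g, hg, h⟩ := Module.FinitePresentation.exists_notMem_bijective e p l₁ l₂ (by
    rw [heq]; exact b'.equivFun.symm.bijective)
  have hgs : ∀ y : Ω[A⁄R], ∃ k, g ^ k • y ∈ LinearMap.range e := by
    intro y
    obtain ⟨z, hz⟩ := h.2 (LocalizedModule.mk y 1)
    induction z using LocalizedModule.induction_on with
    | h u t =>
      rw [LocalizedModule.map_mk, LocalizedModule.mk_eq] at hz
      obtain ⟨⟨_, k, rfl⟩, hk⟩ := hz
      obtain ⟨_, k', rfl⟩ := t
      refine ⟨k + k', g ^ k • u, ?_⟩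
      simp only [one_smul, Submonoid.smul_def] at hk
      rw [map_smul, pow_add, mul_smul]
      exact hk
  have hgi : ∀ u, e u = 0 → ∃ k, g ^ k • u = 0 := by
    intro u hu
    have : LocalizedModule.mk u (1 : Submonoid.powers g) = LocalizedModule.mk 0 1 := by
      apply h.1
      rw [LocalizedModule.map_mk, LocalizedModule.map_mk, hu, map_zero]
    rw [LocalizedModule.mk_eq] at this
    obtain ⟨⟨_, k, rfl⟩, hk⟩ := this
    exact ⟨k, by simpa [Submonoid.smul_def] using hk⟩
  refine ⟨f₀ * g, Ideal.IsPrime.mul_notMem ‹_› hf₀ hg, ?_, q, s, bijective_away _ s ?_ ?_⟩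
  · rw [← Algebra.basicOpen_subset_smoothLocus_iff_smooth]
    refine subset_trans ?_ (Algebra.basicOpen_subset_smoothLocus_iff_smooth.2 hsm)
    exact PrimeSpectrum.basicOpen_mul_le_left f₀ g
  · intro y
    obtain ⟨k, hk⟩ := hgs y
    refine ⟨k, ?_⟩
    rw [mul_pow, mul_smul]
    exact Submodule.smul_mem _ _ hk
  · intro u hu
    obtain ⟨k, hk⟩ := hgi u hu
    exact ⟨k, by rw [mul_pow, mul_smul, hk, smul_zero]⟩

end LocalBasis

set_option maxHeartbeats 800000 in
/-- If `Ω` of `A_f` is free on differentials of elements of `A`, then powers of `f` are elementary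
standard. -/
theorem pow_isElementaryStandard [Algebra.FinitePresentation R A] (f : A)
    [Algebra.Smooth R (Localization.Away f)] {q : ℕ} (s : Fin q → A)
    (hbij : Function.Bijective (Fintype.linearCombination (Localization.Away f) fun i =>
      KaehlerDifferential.D R (Localization.Away f) (algebraMap A (Localization.Away f) (s i)))) :
    ∃ N₀ : ℕ, ∀ N, N₀ ≤ N → _root_.Smoothing.IsElementaryStandard R A (f ^ N) := by
  classical
  obtain ⟨n, φ₀, hφ₀, -⟩ := ‹Algebra.FinitePresentation R A›.out
  let T := Localization.Away f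
  let v : Fin (n + q) → A := Fin.append (fun i => φ₀ (X i)) s
  let φ : MvPolynomial (Fin (n + q)) R →ₐ[R] A := aeval v
  have hφ : Function.Surjective φ := by
    intro x
    obtain ⟨P, rfl⟩ := hφ₀ x
    refine ⟨rename (Fin.castAdd q) P, ?_⟩
    have h2 : (φ.comp (rename (Fin.castAdd q))) = φ₀ :=
      algHom_ext fun i => by simp [φ, v]
    exact DFunLike.congr_fun h2 P
  have hfg : (RingHom.ker φ.toRingHom).FG := Algebra.FinitePresentation.ker_fG_of_surjective φ hφ
  obtain ⟨m, g, hgen⟩ := Submodule.fg_iff_exists_fin_generating_family.1 hfg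
  let G : Algebra.Generators R A (Fin (n + q)) := Algebra.Generators.ofSurjective v hφ
  have hmap : ∀ P : G.Ring, algebraMap G.Ring A P = φ P := fun P => by
    rw [Algebra.Generators.algebraMap_apply]; rfl
  have hkerG : ∀ P : G.Ring, P ∈ G.toExtension.ker ↔ φ P = 0 := fun P => by
    show algebraMap G.Ring A P = 0 ↔ _
    rw [hmap]
  obtain ⟨r, hr⟩ := FreeCotangent.exists_retraction T G (Submonoid.powers f)
  let d := G.toExtension.cotangentComplex.baseChange T
  let π := G.toExtension.toKaehler.baseChange T
  have hd : Function.Injective d := Function.LeftInverse.injective hr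
  have hflat : Module.Flat A T := IsLocalization.flat T (Submonoid.powers f)
  have hex : Function.Exact d π :=
    Module.Flat.lTensor_exact T G.toExtension.exact_cotangentComplex_toKaehler
  have : Algebra.FormallyEtale A T := Algebra.FormallyEtale.of_isLocalization (Submonoid.powers f)
  let eΩ : T ⊗[A] Ω[A⁄R] ≃ₗ[T] Ω[T⁄R] := KaehlerDifferential.tensorKaehlerEquivOfFormallyEtale R A T
  let BT := G.cotangentSpaceBasis.baseChange T
  -- the coordinates on the first `n` variables identify the cotangent module
  let E : T ⊗[A] G.toExtension.Cotangent →ₗ[T] (Fin n → T) :=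
    LinearMap.pi fun i => (BT.coord (Fin.castAdd q i)).comp d
  let π' := eΩ.toLinearMap.comp π
  have hπB : ∀ i, π' (BT i) = KaehlerDifferential.D R T (algebraMap A T (v i)) := by
    intro i
    show eΩ (G.toExtension.toKaehler.baseChange T (BT i)) = _
    rw [Module.Basis.baseChange_apply, LinearMap.baseChange_tmul,
      Algebra.Generators.toKaehler_cotangentSpaceBasis,
      KaehlerDifferential.tensorKaehlerEquivOfFormallyEtale_apply]
    simp [G, Algebra.Generators.ofSurjective]
  let eT := Fintype.linearCombination T fun i => KaehlerDifferential.D R T (algebraMap A T (s i))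
  have hsum : ∀ w, π' w = (∑ i, BT.repr w (Fin.castAdd q i) •
      KaehlerDifferential.D R T (algebraMap A T (φ₀ (X i)))) +
      eT (fun j => BT.repr w (Fin.natAdd n j)) := by
    intro w
    conv_lhs => rw [← BT.sum_repr w]
    rw [map_sum, Fin.sum_univ_add, Fintype.linearCombination_apply]
    simp [hπB, v]
  have hEbij : Function.Bijective E := by
    constructor
    · rw [injective_iff_map_eq_zero]
      intro z hz
      have h0 : π' (d z) = 0 := by
        show eΩ (π (d z)) = 0
        rw [hex.apply_apply_eq_zero, map_zero]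
      have hz' : ∀ i, BT.repr (d z) (Fin.castAdd q i) = 0 := fun i => congrFun hz i
      rw [hsum, Finset.sum_eq_zero (fun i _ => by rw [hz', zero_smul]), zero_add] at h0
      have h1 := hbij.1 (h0.trans (map_zero eT).symm)
      refine hd ?_
      rw [map_zero]
      refine BT.ext_elem fun i => ?_
      rw [map_zero]
      obtain ⟨i | i, rfl⟩ := finSumFinEquiv.surjective i
      · simpa using hz' i
      · simpa using congrFun h1 i
    · intro x
      obtain ⟨y, hy⟩ := hbij.2 (-∑ i, x i • KaehlerDifferential.D R T (algebraMap A T (φ₀ (X i))))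
      let w := BT.equivFun.symm (Fin.append x y)
      have hw : ∀ i, BT.repr w i = Fin.append x y i := fun i => by
        rw [← Module.Basis.equivFun_apply, LinearEquiv.apply_symm_apply]
      have h0 : π' w = 0 := by
        rw [hsum]
        simp only [hw, Fin.append_left, Fin.append_right]
        show _ + eT y = 0
        rw [show eT y = _ from hy, add_neg_cancel]
      obtain ⟨z, hz⟩ := (hex w).1 (eΩ.map_eq_zero_iff.1 h0)
      refine ⟨z, funext fun i => ?_⟩
      show BT.repr (d z) (Fin.castAdd q i) = x i
      rw [hz, hw, Fin.append_left]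
  let b : Module.Basis (Fin n) T (T ⊗[A] G.toExtension.Cotangent) :=
    Module.Basis.ofEquivFun (LinearEquiv.ofBijective E hEbij)
  let j : G.toExtension.Cotangent →ₗ[A] T ⊗[A] G.toExtension.Cotangent :=
    TensorProduct.mk A T _ 1
  have hj : IsLocalizedModule (Submonoid.powers f) j :=
    (isLocalizedModule_iff_isBaseChange (Submonoid.powers f) T _).2 (TensorProduct.isBaseChange _ _ _)
  choose z hz using fun k => IsLocalizedModule.surj (Submonoid.powers f) j (b k)
  let w : Fin n → T := fun k => algebraMap A T ((z k).2 : A)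
  have hw : ∀ k, IsUnit (w k) := fun k => IsLocalization.map_units T (z k).2
  let b' := b.isUnitSMul hw
  have hb' : ∀ k, b' k = 1 ⊗ₜ (z k).1 := fun k => by
    rw [Module.Basis.isUnitSMul_apply, algebraMap_smul]
    exact hz k
  choose h hh using fun k => Algebra.Extension.Cotangent.mk_surjective (z k).1
  let rel : Fin (n + m) → MvPolynomial (Fin (n + q)) R := Fin.append (fun k => (h k).1) g
  have hrelL : ∀ k, rel (Fin.castAdd m k) = (h k).1 := fun k => Fin.append_left _ _ k
  have hrelR : ∀ k, rel (Fin.natAdd n k) = g k := fun k => Fin.append_right _ _ k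
  have hrelker : ∀ i, rel i ∈ RingHom.ker φ.toRingHom := by
    intro i
    induction i using Fin.addCases with
    | left k => exact (hrelL k).symm ▸ (hkerG _).1 (h k).2
    | right k =>
      have : g k ∈ RingHom.ker φ.toRingHom := hgen ▸ Ideal.subset_span ⟨k, rfl⟩
      exact (hrelR k).symm ▸ this
  have hrel : RingHom.ker φ.toRingHom = Ideal.span (Set.range rel) := by
    refine le_antisymm ?_ (Ideal.span_le.2 (by rintro _ ⟨i, rfl⟩; exact hrelker i))
    rw [← hgen]
    exact Ideal.span_le.2 (by rintro _ ⟨k, rfl⟩; exact Ideal.subset_span ⟨Fin.natAdd _ k, hrelR k⟩)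
  let P : _root_.Smoothing.MarkedPresentation R A :=
    ⟨n + q, n + m, n, Nat.le_add_right _ _, Nat.le_add_right _ _, rel, φ, hφ, hrel⟩
  let D := φ (_root_.Smoothing.jacobianMinor rel (Fin.castLE (Nat.le_add_right n m))
    (Fin.castLE (Nat.le_add_right n q)))
  -- the minor is a unit after inverting `f`
  let J : Matrix (Fin n) (Fin n) A := Matrix.of fun k i => φ (pderiv (Fin.castAdd q i) (h k).1)
  let L : Matrix (Fin n) (Fin n) T :=
    Matrix.of fun i k => b'.repr ((LinearEquiv.ofBijective E hEbij).symm (Pi.single i 1)) k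
  have hcoord : ∀ k i, E (b' k) i = algebraMap A T (J k i) := by
    intro k i
    show BT.repr (G.toExtension.cotangentComplex.baseChange T (b' k)) (Fin.castAdd q i) = _
    rw [hb', LinearMap.baseChange_tmul, Module.Basis.baseChange_repr_tmul, ← hh,
      Algebra.Extension.cotangentComplex_mk]
    erw [Algebra.Generators.cotangentSpaceBasis_repr_one_tmul]
    rw [← Algebra.algebraMap_eq_smul_one]
    rfl
  have hJL : J.map (algebraMap A T) * L = 1 := by
    ext k k'
    have h1 : b'.repr ((LinearEquiv.ofBijective E hEbij).symm (E (b' k))) k' =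
        (if k = k' then (1 : T) else 0) := by
      rw [show E (b' k) = LinearEquiv.ofBijective E hEbij (b' k) from rfl,
        LinearEquiv.symm_apply_apply, b'.repr_self, Finsupp.single_apply]
    rw [pi_eq_sum_univ' (E (b' k)), map_sum, map_sum, Finset.sum_apply'] at h1
    simp only [map_smul, Finsupp.smul_apply, smul_eq_mul, hcoord] at h1
    simp only [Matrix.mul_apply, Matrix.map_apply, L, Matrix.of_apply]
    rw [h1, Matrix.one_apply]
  have hD : IsUnit (algebraMap A T D) := by
    have hdet := congrArg Matrix.det hJL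
    rw [Matrix.det_mul, Matrix.det_one] at hdet
    have : algebraMap A T D = (J.map (algebraMap A T)).det := by
      show ((algebraMap A T).comp φ.toRingHom) (_root_.Smoothing.jacobianMinor rel _ _) = _
      rw [_root_.Smoothing.jacobianMinor, RingHom.map_det]
      congr 1
      ext k i
      exact congrArg (fun x => algebraMap A T (φ (pderiv (Fin.castAdd q i) x))) (hrelL k)
    rw [this]
    exact IsUnit.of_mul_eq_one _ hdet
  obtain ⟨k₀, c₀, hk₀⟩ : ∃ k c, f ^ k = c * D := by
    obtain ⟨u, hu⟩ := hD.exists_left_inv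
    obtain ⟨⟨u', _, k, rfl⟩, hu'⟩ := IsLocalization.surj (Submonoid.powers f) u
    have : algebraMap A T (f ^ k) = algebraMap A T (u' * D) := by
      rw [map_mul, ← hu', mul_right_comm, hu, one_mul]
    obtain ⟨⟨_, k', rfl⟩, hk'⟩ := (IsLocalization.eq_iff_exists (Submonoid.powers f) T).1 this
    refine ⟨k' + k, f ^ k' * u', ?_⟩
    rw [pow_add, mul_assoc]
    exact hk'
  -- a power of `f` kills the tail
  let S : Submodule A G.toExtension.Cotangent :=
    Submodule.span A (Set.range fun k => Algebra.Extension.Cotangent.mk (h k))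
  have hclear : ∀ x : G.toExtension.Cotangent, ∃ k, f ^ k • x ∈ S := by
    intro x
    obtain ⟨⟨d', hd'⟩, hint⟩ := IsLocalization.exist_integer_multiples_of_finite
      (Submonoid.powers f) (fun k => b'.repr (j x) k)
    obtain ⟨k₁, rfl⟩ := hd'
    choose c hc using hint
    have h2 : j (f ^ k₁ • x) = j (∑ k, c k • Algebra.Extension.Cotangent.mk (h k)) := by
      rw [map_smul, map_sum]
      conv_lhs => rw [← b'.sum_repr (j x), Finset.smul_sum]
      refine Finset.sum_congr rfl fun k _ => ?_
      rw [map_smul, hh, ← smul_assoc]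
      show (f ^ k₁ • b'.repr (j x) k) • b' k = c k • _
      rw [← hc k, algebraMap_smul, hb']
      rfl
    obtain ⟨⟨d, k₂, rfl⟩, hd'⟩ := IsLocalizedModule.exists_of_eq (S := Submonoid.powers f) h2
    refine ⟨k₂ + k₁, ?_⟩
    rw [pow_add, mul_smul]
    have : f ^ k₂ • f ^ k₁ • x = f ^ k₂ • ∑ k, c k • Algebra.Extension.Cotangent.mk (h k) := hd'
    rw [this]
    exact Submodule.smul_mem _ _ (Submodule.sum_mem _ fun k _ =>
      Submodule.smul_mem _ _ (Submodule.subset_span ⟨k, rfl⟩))
  choose K hK using fun k : Fin m =>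
    hclear (Algebra.Extension.Cotangent.mk ⟨g k, (hkerG _).2 (by
      have : g k ∈ RingHom.ker φ.toRingHom := hgen ▸ Ideal.subset_span ⟨k, rfl⟩
      exact this)⟩)
  refine ⟨max k₀ (Finset.univ.sup K), fun N hN => ⟨P, ⟨f ^ (N - k₀) * c₀, ?_⟩, ?_⟩⟩
  · show f ^ N = f ^ (N - k₀) * c₀ * D
    rw [mul_assoc, ← hk₀, ← pow_add, Nat.sub_add_cancel ((le_max_left _ _).trans hN)]
  · intro a' ha' i hi
    obtain ⟨k, rfl⟩ : ∃ k : Fin m, Fin.natAdd n k = i := by
      have hi' : n ≤ (i : ℕ) := hi
      have hi2 : (i : ℕ) < n + m := i.2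
      refine ⟨⟨i - n, by omega⟩, ?_⟩
      ext
      simp only [Fin.coe_natAdd]
      omega
    have hgk : g k ∈ G.toExtension.ker := (hkerG _).2 (by
      have : g k ∈ RingHom.ker φ.toRingHom := hgen ▸ Ideal.subset_span ⟨k, rfl⟩
      exact this)
    have hNk : K k ≤ N := (Finset.le_sup (Finset.mem_univ k)).trans ((le_max_right _ _).trans hN)
    let a'' : G.toExtension.Ring := a'
    have hmem : Algebra.Extension.Cotangent.mk (a'' • (⟨g k, hgk⟩ : G.toExtension.ker)) ∈ S := by
      rw [map_smul, ← algebraMap_smul A a'']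
      rw [show algebraMap G.toExtension.Ring A a'' = f ^ N from (hmap a').trans ha',
        ← Nat.sub_add_cancel hNk, pow_add, mul_smul]
      exact Submodule.smul_mem _ _ (hK k)
    obtain ⟨c, hc⟩ := Submodule.mem_span_range_iff_exists_fun A |>.1 hmem
    choose c' hc' using fun k' => hφ (c k')
    let c'' : Fin n → G.toExtension.Ring := c'
    let hP : Fin n → MvPolynomial (Fin (n + q)) R := fun k => (h k).1
    have heq : Algebra.Extension.Cotangent.mk
        (a'' • (⟨g k, hgk⟩ : G.toExtension.ker) - ∑ k', c'' k' • h k') = 0 := by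
      rw [map_sub, sub_eq_zero, map_sum, ← hc]
      refine Finset.sum_congr rfl fun k' _ => ?_
      rw [map_smul, ← algebraMap_smul A (c'' k'), show algebraMap G.toExtension.Ring A (c'' k') = c k'
        from (hmap _).trans (hc' k')]
    rw [Algebra.Extension.Cotangent.mk_eq_zero_iff] at heq
    have hkerle : G.toExtension.ker ≤ (Ideal.span (Set.range rel) : Ideal G.toExtension.Ring) :=
      fun x hx => hrel ▸ ((hkerG x).1 hx : φ x = 0)
    have h2 : a' * g k - ∑ k', c' k' * hP k' ∈ Ideal.span (Set.range rel) ^ 2 := by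
      have := Ideal.pow_right_mono hkerle 2 heq
      simp only [Submodule.coe_sub, AddSubmonoidClass.coe_finsetSum, Submodule.coe_smul,
        smul_eq_mul] at this
      exact this
    show a' * rel (Fin.natAdd n k) ∈ _
    rw [hrelR, ← sub_add_cancel (a' * g k) (∑ k', c' k' * hP k')]
    refine Ideal.add_mem _ (Ideal.mem_sup_right h2) (Ideal.mem_sup_left ?_)
    refine Submodule.sum_mem _ fun k' _ => Ideal.mul_mem_left _ _ (Ideal.subset_span ?_)
    exact ⟨Fin.castAdd m k', k'.2, hrelL k'⟩

theorem isStrictlyStandard_of_isElementaryStandard {a : A}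
    (h : _root_.Smoothing.IsElementaryStandard R A a) :
    _root_.Smoothing.IsStrictlyStandard R A a := by
  obtain ⟨P, ⟨a', rfl⟩, hk⟩ := h
  exact ⟨P, Ideal.mul_mem_left _ _ (Ideal.subset_span ⟨Fin.castLE P.hcn, rfl⟩), hk⟩

/-- The singular ideal is the radical of the ideal of standard elements of either kind. -/
theorem singularIdeal_eq [Algebra.FinitePresentation R A] :
    _root_.Smoothing.singularIdeal R A =
        (Ideal.span {a : A | _root_.Smoothing.IsStrictlyStandard R A a}).radical ∧
      _root_.Smoothing.singularIdeal R A =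
        (Ideal.span {a : A | _root_.Smoothing.IsElementaryStandard R A a}).radical := by
  have h1 : (Ideal.span {a : A | _root_.Smoothing.IsElementaryStandard R A a}).radical ≤
      (Ideal.span {a : A | _root_.Smoothing.IsStrictlyStandard R A a}).radical :=
    Ideal.radical_mono (Ideal.span_mono fun a => isStrictlyStandard_of_isElementaryStandard)
  have h2 : (Ideal.span {a : A | _root_.Smoothing.IsStrictlyStandard R A a}).radical ≤
      _root_.Smoothing.singularIdeal R A := by
    rw [_root_.Smoothing.singularIdeal]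
    rw [(PrimeSpectrum.isRadical_vanishingIdeal _).radical_le_iff]
    refine Ideal.span_le.2 fun a ha => ?_
    have hsub := Algebra.basicOpen_subset_smoothLocus_iff_smooth.2 (Standard.smooth_stablyFree a ha).1
    rw [SetLike.mem_coe, PrimeSpectrum.mem_vanishingIdeal]
    intro p hp
    by_contra hap
    exact hp (hsub hap)
  have h3 : _root_.Smoothing.singularIdeal R A ≤
      (Ideal.span {a : A | _root_.Smoothing.IsElementaryStandard R A a}).radical := by
    intro x hx
    rw [Ideal.radical_eq_sInf, Ideal.mem_sInf]
    rintro p ⟨hp, hprime⟩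
    by_contra hxp
    have : Algebra.IsSmoothAt R p := by
      by_contra hns
      exact hxp ((PrimeSpectrum.mem_vanishingIdeal _ _).1 hx ⟨p, hprime⟩ hns)
    obtain ⟨f, hf, hsm, q, s, hbij⟩ := exists_local_basis (R := R) p
    obtain ⟨N₀, hN⟩ := pow_isElementaryStandard f s hbij
    exact hf (hprime.mem_of_pow_mem N₀ (hp (Ideal.subset_span (hN N₀ le_rfl))))
  exact ⟨le_antisymm (h3.trans h1) h2, le_antisymm h3 (h1.trans h2)⟩

end Groth.Agent.Lib.Smoothing.Elementary
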