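import Mathlib.LinearAlgebra.SymmetricAlgebra.Basic
import Mathlib.RingTheory.Kaehler.Basic
import Mathlib.Algebra.TrivSqZeroExt.Basic

/-!
# The differentials of a symmetric algebra
-/

universe u

open TensorProduct

namespace Groth.Agent.Lib.Smoothing.SymKaehler

variable (A : Type u) [CommRing A] (M : Type u) [AddCommGroup M] [Module A M]

local notation "C" => SymmetricAlgebra A M

/-- The derivation of `Sym M` with values in `Sym M ⊗ M` sending `m` to `1 ⊗ m`. -/
theorem exists_derivation :
    ∃ δ : Derivation A C (C ⊗[A] M), ∀ m, δ (SymmetricAlgebra.ι A M m) = (1 : C) ⊗ₜ m := by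
  let X := C ⊗[A] M
  haveI : IsCentralScalar C X := ⟨fun c z => by
    induction z using TensorProduct.induction_on with
    | zero => rw [smul_zero, smul_zero]
    | add a b ha hb => rw [smul_add, smul_add, ha, hb]
    | tmul x m => rw [TensorProduct.smul_tmul', TensorProduct.smul_tmul', op_smul_eq_smul]⟩
  let j : M →ₗ[A] TrivSqZeroExt C X :=
    { toFun := fun m => (SymmetricAlgebra.ι A M m, (1 : C) ⊗ₜ m)
      map_add' := fun x y => by
        refine TrivSqZeroExt.ext ?_ ?_
        · exact map_add _ x y
        · exact TensorProduct.tmul_add _ _ _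
      map_smul' := fun a x => by
        refine TrivSqZeroExt.ext ?_ ?_
        · exact map_smul _ a x
        · exact TensorProduct.tmul_smul _ _ _ }
  let δ₁ : C →ₐ[A] TrivSqZeroExt C X := SymmetricAlgebra.lift j
  have hι : ∀ m, δ₁ (SymmetricAlgebra.ι A M m) = j m := fun m => SymmetricAlgebra.lift_ι_apply _ _
  have hfst : ∀ x, (δ₁ x).fst = x := by
    suffices (TrivSqZeroExt.fstHom A C X).comp δ₁ = AlgHom.id A C from
      fun x => DFunLike.congr_fun this x
    refine SymmetricAlgebra.algHom_ext (LinearMap.ext fun m => ?_)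
    show (δ₁ (SymmetricAlgebra.ι A M m)).fst = SymmetricAlgebra.ι A M m
    rw [hι]
    rfl
  refine ⟨Derivation.mk'
    { toFun := fun x => (δ₁ x).snd
      map_add' := fun x y => by rw [map_add]; rfl
      map_smul' := fun a x => by rw [map_smul]; rfl } fun x y => ?_, fun m => ?_⟩
  · show (δ₁ (x * y)).snd = x • (δ₁ y).snd + y • (δ₁ x).snd
    rw [map_mul, TrivSqZeroExt.snd_mul, hfst, hfst, op_smul_eq_smul]
  · show (δ₁ (SymmetricAlgebra.ι A M m)).snd = _
    rw [hι]
    rfl

/-- `Ω_{Sym M / A} = Sym M ⊗ M`. -/
theorem bijective_liftBaseChange :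
    Function.Bijective (LinearMap.liftBaseChange C
      ((KaehlerDifferential.D A C).toLinearMap.restrictScalars A ∘ₗ SymmetricAlgebra.ι A M)) := by
  obtain ⟨δ, hδ⟩ := exists_derivation A M
  set Φ := LinearMap.liftBaseChange C
      ((KaehlerDifferential.D A C).toLinearMap.restrictScalars A ∘ₗ SymmetricAlgebra.ι A M)
  have hΦ : ∀ (x : C) (m : M), Φ (x ⊗ₜ m) = x • KaehlerDifferential.D A C (SymmetricAlgebra.ι A M m) :=
    fun x m => LinearMap.liftBaseChange_tmul _ _ _ _
  constructor
  · intro z w hzw
    have key : ∀ z, δ.liftKaehlerDifferential (Φ z) = z := by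
      intro z
      induction z using TensorProduct.induction_on with
      | zero => simp
      | add a b ha hb => rw [map_add, map_add, ha, hb]
      | tmul x m =>
        rw [hΦ, map_smul, Derivation.liftKaehlerDifferential_comp_D, hδ, TensorProduct.smul_tmul',
          smul_eq_mul, mul_one]
    rw [← key z, ← key w, hzw]
  · intro ω
    have hmem : ω ∈ Submodule.span C (Set.range (KaehlerDifferential.D A C)) := by
      rw [KaehlerDifferential.span_range_derivation]; trivial
    revert hmem
    suffices Submodule.span C (Set.range (KaehlerDifferential.D A C)) ≤ LinearMap.range Φ from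
      fun h => this h
    rw [Submodule.span_le]
    rintro _ ⟨x, rfl⟩
    induction x using SymmetricAlgebra.induction with
    | algebraMap a => rw [Derivation.map_algebraMap]; exact zero_mem _
    | ι m => exact ⟨1 ⊗ₜ m, by rw [hΦ, one_smul]⟩
    | mul x y hx hy =>
      rw [Derivation.leibniz]
      exact add_mem (Submodule.smul_mem _ _ hy) (Submodule.smul_mem _ _ hx)
    | add x y hx hy => rw [map_add]; exact add_mem hx hy

end Groth.Agent.Lib.Smoothing.SymKaehler
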