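import Groth.Agent.Lib.Smoothing.FreeCotangent
import Groth.Agent.Lib.Smoothing.SymKaehler
import Mathlib.RingTheory.Kaehler.JacobiZariski
import Mathlib.RingTheory.Etale.Kaehler
import Mathlib.LinearAlgebra.TensorProduct.Prod

/-!
# An algebra over `A` with free differentials over every smooth basic open
-/

universe u

open TensorProduct

namespace Groth.Agent.Lib.Smoothing.FreeDiff

variable {R A : Type u} [CommRing R] [CommRing A] [Algebra R A]

set_option maxHeartbeats 800000 in
/-- `Ω` of `Sym(I/I²)` is free wherever the algebra is smooth. -/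
theorem free_away {n : ℕ} (G : Algebra.Generators R A (Fin n)) (a : A)
    [Algebra.FormallySmooth R (Localization.Away a)] :
    Module.Free
      (Localization.Away (algebraMap A (SymmetricAlgebra A G.toExtension.Cotangent) a))
      Ω[Localization.Away (algebraMap A (SymmetricAlgebra A G.toExtension.Cotangent) a)⁄R] := by
  let N := G.toExtension.Cotangent
  let C := SymmetricAlgebra A N
  haveI : IsScalarTower R A C := IsScalarTower.of_algebraMap_eq fun _ => rfl
  let T := Localization.Away a
  let Ca := Localization.Away (algebraMap A C a)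
  have hu : IsUnit (algebraMap A Ca a) := by
    rw [IsScalarTower.algebraMap_apply A C Ca]
    exact IsLocalization.Away.algebraMap_isUnit _
  letI : Algebra T Ca := (IsLocalization.Away.lift a hu).toAlgebra
  haveI : IsScalarTower A T Ca := IsScalarTower.of_algebraMap_eq fun x =>
    (IsLocalization.Away.lift_eq a hu x).symm
  -- the localised cotangent sequence splits
  have hflat : Module.Flat A T := IsLocalization.flat T (Submonoid.powers a)
  obtain ⟨r, hr⟩ := FreeCotangent.exists_retraction T G (Submonoid.powers a)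
  let d := G.toExtension.cotangentComplex.baseChange T
  let π := G.toExtension.toKaehler.baseChange T
  have hd : Function.Injective d := Function.LeftInverse.injective hr
  have hex : Function.Exact d π :=
    Module.Flat.lTensor_exact T G.toExtension.exact_cotangentComplex_toKaehler
  have hπ : Function.Surjective π :=
    LinearMap.lTensor_surjective T G.toExtension.toKaehler_surjective
  have : Algebra.FormallyEtale A T := Algebra.FormallyEtale.of_isLocalization (Submonoid.powers a)
  have : Module.Projective T (T ⊗[A] Ω[A⁄R]) :=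
    Module.Projective.of_equiv (KaehlerDifferential.tensorKaehlerEquivOfFormallyEtale R A T).symm
  have : Module.Free A G.toExtension.CotangentSpace := .of_basis G.cotangentSpaceBasis
  have : Module.Projective T (T ⊗[A] N) := Module.Projective.of_split d r (LinearMap.ext hr)
  obtain ⟨E₀⟩ := FreeCotangent.exists_equiv_ker_prod π hπ
  let E : ((T ⊗[A] N) × (T ⊗[A] Ω[A⁄R])) ≃ₗ[T] T ⊗[A] G.toExtension.CotangentSpace :=
    (((LinearEquiv.ofInjective d hd).trans
      (LinearEquiv.ofEq _ _ (LinearMap.exact_iff.1 hex).symm)).prodCongr (LinearEquiv.refl T _)).trans E₀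
  -- `C_a` is formally smooth over `A`
  have : Algebra.FormallySmooth A Ca := by
    refine Algebra.FormallySmooth.of_comp_surjective fun D _ _ I hI g => ?_
    have huD : IsUnit (algebraMap A D a) := by
      rw [← IsNilpotent.isUnit_quotient_mk_iff (I := I) ⟨2, hI⟩]
      show IsUnit (algebraMap A (D ⧸ I) a)
      rw [← g.commutes a]
      exact hu.map g
    letI : Algebra T D := (IsLocalization.Away.lift a huD).toAlgebra
    haveI : IsScalarTower A T D := IsScalarTower.of_algebraMap_eq fun x =>
      (IsLocalization.Away.lift_eq a huD x).symm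
    obtain ⟨l, hl⟩ := Module.projective_lifting_property (Ideal.Quotient.mkₐ T I).toLinearMap
      (LinearMap.liftBaseChange T
        (((g.comp (IsScalarTower.toAlgHom A C Ca)).toLinearMap).comp (SymmetricAlgebra.ι A N)))
      (Ideal.Quotient.mkₐ_surjective T I)
    let G' : C →ₐ[A] D :=
      SymmetricAlgebra.lift ((l.restrictScalars A).comp (TensorProduct.mk A T N 1))
    have hG' : ∀ y : Submonoid.powers (algebraMap A C a), IsUnit (G' y) := by
      rintro ⟨_, k, rfl⟩
      show IsUnit (G' (algebraMap A C a ^ k))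
      rw [map_pow, G'.commutes]
      exact huD.pow k
    let Lft : Ca →ₐ[A] D :=
      IsLocalization.liftAlgHom (M := Submonoid.powers (algebraMap A C a)) (f := G') hG'
    have hL : ∀ c, Lft (algebraMap C Ca c) = G' c := fun c => IsLocalization.lift_eq hG' c
    refine ⟨Lft, IsLocalization.algHom_ext (Submonoid.powers (algebraMap A C a)) ?_⟩
    refine SymmetricAlgebra.algHom_ext (LinearMap.ext fun m => ?_)
    have h1 := LinearMap.congr_fun hl ((1 : T) ⊗ₜ m)
    simp only [LinearMap.comp_apply, AlgHom.toLinearMap_apply, LinearMap.liftBaseChange_tmul,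
      one_smul] at h1
    show Ideal.Quotient.mk I (Lft (algebraMap C Ca (SymmetricAlgebra.ι A N m))) =
      g (algebraMap C Ca (SymmetricAlgebra.ι A N m))
    rw [hL, show G' (SymmetricAlgebra.ι A N m) = l ((1 : T) ⊗ₜ m) from
      SymmetricAlgebra.lift_ι_apply _ _]
    exact h1
  -- the cotangent sequence of `R → A → C_a` is split exact
  let φ := KaehlerDifferential.mapBaseChange R A Ca
  let ψ := KaehlerDifferential.map R A Ca Ca
  have hφ : Function.Injective φ := by
    rw [injective_iff_map_eq_zero]
    intro x hx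
    obtain ⟨y, rfl⟩ := (Algebra.H1Cotangent.exact_δ_mapBaseChange R A Ca x).1 hx
    rw [Subsingleton.elim y 0, map_zero]
  have hφψ : Function.Exact φ ψ := KaehlerDifferential.exact_mapBaseChange_map R A Ca
  obtain ⟨E₁⟩ := FreeCotangent.exists_equiv_ker_prod ψ (KaehlerDifferential.map_surjective R A Ca)
  let E₂ : (Ca ⊗[A] Ω[A⁄R] × Ω[Ca⁄A]) ≃ₗ[Ca] Ω[Ca⁄R] :=
    (((LinearEquiv.ofInjective φ hφ).trans
      (LinearEquiv.ofEq _ _ (LinearMap.exact_iff.1 hφψ).symm)).prodCongr (LinearEquiv.refl Ca _)).trans E₁
  have : Algebra.FormallyEtale C Ca :=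
    Algebra.FormallyEtale.of_isLocalization (Submonoid.powers (algebraMap A C a))
  let E₃ : Ω[Ca⁄A] ≃ₗ[Ca] Ca ⊗[A] N :=
    (KaehlerDifferential.tensorKaehlerEquivOfFormallyEtale A C Ca).symm.trans
      ((TensorProduct.AlgebraTensorModule.congr (LinearEquiv.refl Ca Ca)
        (LinearEquiv.ofBijective _ (SymKaehler.bijective_liftBaseChange A N)).symm).trans
        (TensorProduct.AlgebraTensorModule.cancelBaseChange A C Ca Ca N))
  let κ : ∀ (X : Type u) [AddCommGroup X] [Module A X], Ca ⊗[T] (T ⊗[A] X) ≃ₗ[Ca] Ca ⊗[A] X :=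
    fun X _ _ => TensorProduct.AlgebraTensorModule.cancelBaseChange A T Ca Ca X
  let E₄ : Ω[Ca⁄R] ≃ₗ[Ca] Ca ⊗[A] G.toExtension.CotangentSpace :=
    E₂.symm.trans <| ((LinearEquiv.refl Ca _).prodCongr E₃).trans <|
      (LinearEquiv.prodComm Ca _ _).trans <| ((κ N).symm.prodCongr (κ Ω[A⁄R]).symm).trans <|
      (TensorProduct.prodRight T Ca Ca _ _).symm.trans <|
      (TensorProduct.AlgebraTensorModule.congr (LinearEquiv.refl Ca Ca) E).trans (κ _)
  exact Module.Free.of_basis ((G.cotangentSpaceBasis.baseChange Ca).map E₄.symm)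

theorem exists_freeDiff [Algebra.FinitePresentation R A] :
    ∃ (C : Type u) (_ : CommRing C) (_ : Algebra A C) (_ : Algebra R C) (_ : IsScalarTower R A C),
      Algebra.FiniteType A C ∧ Nonempty (C →ₐ[A] A) ∧
      ∀ a : A, Algebra.Smooth R (Localization.Away a) →
        Module.Free (Localization.Away (algebraMap A C a)) Ω[Localization.Away (algebraMap A C a)⁄R] := by
  obtain ⟨n, φ₀, hφ₀, hfg⟩ := ‹Algebra.FinitePresentation R A›.out
  have haev : ∀ p, MvPolynomial.aeval (R := R) (φ₀ ∘ MvPolynomial.X) p = φ₀ p := fun p =>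
    (DFunLike.congr_fun (MvPolynomial.aeval_unique φ₀) p).symm
  let G : Algebra.Generators R A (Fin n) := Algebra.Generators.ofSurjective (φ₀ ∘ MvPolynomial.X)
    fun x => by
      obtain ⟨p, hp⟩ := hφ₀ x
      exact ⟨p, (haev p).trans hp⟩
  have hker : G.toExtension.ker.FG := by
    have : (G.toExtension.ker : Ideal G.toExtension.Ring) =
        (RingHom.ker φ₀.toRingHom : Ideal (MvPolynomial (Fin n) R)) := by
      have hmap : ∀ P : G.Ring, algebraMap G.Ring A P = φ₀ P := fun P => by
        rw [Algebra.Generators.algebraMap_apply]; exact haev P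
      ext p
      exact Iff.of_eq (congrArg (· = 0) (hmap p))
    rw [this]
    exact hfg
  have := Algebra.Extension.Cotangent.finite hker
  let N := G.toExtension.Cotangent
  let C := SymmetricAlgebra A N
  haveI : IsScalarTower R A C := IsScalarTower.of_algebraMap_eq fun _ => rfl
  refine ⟨C, inferInstance, inferInstance, inferInstance, inferInstance, ?_,
    ⟨SymmetricAlgebra.algebraMapInv⟩, fun a ha => ?_⟩
  · obtain ⟨k, p, hp⟩ := Module.Finite.exists_fin' A N
    let π : MvPolynomial (Fin k) A →ₐ[A] C :=
      MvPolynomial.aeval fun i => SymmetricAlgebra.ι A N (p (Pi.single i 1))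
    refine Algebra.FiniteType.of_surjective π ?_
    intro x
    induction x using SymmetricAlgebra.induction with
    | algebraMap r => exact ⟨algebraMap _ _ r, π.commutes r⟩
    | ι m =>
      obtain ⟨c, rfl⟩ := hp m
      refine ⟨∑ i, c i • MvPolynomial.X i, ?_⟩
      conv_rhs => rw [pi_eq_sum_univ' c]
      simp [π]
    | mul x y hx hy =>
      obtain ⟨u, rfl⟩ := hx; obtain ⟨v, rfl⟩ := hy
      exact ⟨u * v, map_mul π u v⟩
    | add x y hx hy =>
      obtain ⟨u, rfl⟩ := hx; obtain ⟨v, rfl⟩ := hy
      exact ⟨u + v, map_add π u v⟩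
  · have : Algebra.FormallySmooth R (Localization.Away a) := ha.formallySmooth
    exact free_away G a

end Groth.Agent.Lib.Smoothing.FreeDiff
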