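import Groth.Agent.Lib.Henselian.IdempotentScheme
import Mathlib.RingTheory.AdjoinRoot
import Mathlib.LinearAlgebra.Matrix.Charpoly.Basic
import Mathlib.LinearAlgebra.Matrix.ToLin

/-!
# Lifting an idempotent matrix over an étale algebra
-/

universe u

open TensorProduct Polynomial

namespace Groth.Agent.Lib.Smoothing.LiftIdem

/-- The polynomial turning an approximate idempotent into an idempotent. -/
noncomputable def idemPoly (R : Type*) [CommRing R] (k : ℕ) : R[X] :=
  1 - (1 - X ^ (k + 1)) ^ (k + 1)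

theorem idemPoly_mul_sub_dvd {R : Type*} [CommRing R] (k : ℕ) :
    (X * (1 - X)) ^ (k + 1) ∣ idemPoly R k ^ 2 - idemPoly R k := by
  obtain ⟨c, hc⟩ : (X : R[X]) ^ (k + 1) ∣ idemPoly R k := by
    have := sub_dvd_pow_sub_pow (1 : R[X]) (1 - X ^ (k + 1)) (k + 1)
    rwa [sub_sub_cancel, one_pow] at this
  obtain ⟨d, hd⟩ : (1 - X : R[X]) ^ (k + 1) ∣ 1 - idemPoly R k := by
    rw [idemPoly, sub_sub_cancel]
    refine pow_dvd_pow_of_dvd ?_ _
    have := sub_dvd_pow_sub_pow (1 : R[X]) X (k + 1)
    rwa [one_pow] at this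
  refine ⟨-(c * d), ?_⟩
  rw [show idemPoly R k ^ 2 - idemPoly R k = -(idemPoly R k * (1 - idemPoly R k)) by ring]
  rw [hd, hc, mul_pow]
  ring

/-- The idempotent polynomial fixes idempotents. -/
theorem aeval_idemPoly {R S : Type*} [CommRing R] [Ring S] [Algebra R S] (k : ℕ) {e : S}
    (he : IsIdempotentElem e) : aeval e (idemPoly R k) = e := by
  rw [idemPoly, map_sub, map_one, map_pow, map_sub, map_one, map_pow, aeval_X, he.pow_succ_eq,
    he.one_sub.pow_succ_eq, sub_sub_cancel]

variable {P A₀ : Type u} [CommRing P] [CommRing A₀] [Algebra P A₀] {k : ℕ}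

set_option maxHeartbeats 800000 in
/-- A matrix over `P` which is idempotent in `A₀` lifts to an idempotent matrix over an étale
`P`-algebra mapping to `A₀`. -/
theorem exists_etale_idem (M : Matrix (Fin k) (Fin k) P)
    (hM : IsIdempotentElem (M.map (algebraMap P A₀))) :
    ∃ (P' : Type u) (_ : CommRing P') (_ : Algebra P P') (ψ : P' →ₐ[P] A₀)
      (E : Matrix (Fin k) (Fin k) P'), Algebra.Etale P P' ∧ IsIdempotentElem E ∧
        E.map ψ = M.map (algebraMap P A₀) := by
  classical
  rcases subsingleton_or_nontrivial P with hP | hP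
  · refine ⟨P, inferInstance, inferInstance, Algebra.ofId P A₀, 0, inferInstance, ?_, ?_⟩
    · simp [IsIdempotentElem]
    · rw [Subsingleton.elim M 0]
      simp
  set M₀ := M.map (algebraMap P A₀)
  let f : P[X] := (M * M - M).charpoly.comp (X ^ 2 - X)
  have hmonic : f.Monic :=
    (Matrix.charpoly_monic _).comp ((monic_X_pow 2).sub_of_left (by rw [degree_X_pow, degree_X]; decide))
      (by rw [show (X ^ 2 - X : P[X]).natDegree = 2 by compute_degree!]; omega)
  have hfM : aeval M f = 0 := by
    rw [show f = (M * M - M).charpoly.comp (X ^ 2 - X) from rfl, aeval_comp, map_sub, map_pow, aeval_X,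
      sq, Matrix.aeval_self_charpoly]
  have hf₀ : f.map (algebraMap P A₀) = (X ^ 2 - X) ^ k := by
    have h0 : (M * M - M).map (algebraMap P A₀) = 0 := by
      rw [Matrix.map_sub (algebraMap P A₀) (map_sub _), Matrix.map_mul]
      show M₀ * M₀ - M₀ = 0
      rw [hM.eq, sub_self]
    rw [show f = (M * M - M).charpoly.comp (X ^ 2 - X) from rfl, Polynomial.map_comp,
      ← Matrix.charpoly_map, h0]
    simp [Matrix.charpoly_zero]
  let C := AdjoinRoot f
  have : Module.Finite P C := hmonic.finite_adjoinRoot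
  have : Module.Free P C := hmonic.free_adjoinRoot
  obtain ⟨E', _, _, e₀, hE', he₀, huniv⟩ :=
    Henselian.IdempotentScheme.exists_etale_classifying_idempotents P C
  -- evaluation at the root
  let π : ∀ (T : Type u) [CommRing T] [Algebra P T], T[X] →ₐ[T] T ⊗[P] C :=
    fun T _ _ => aeval ((1 : T) ⊗ₜ[P] AdjoinRoot.root f)
  have hπX : ∀ (T : Type u) [CommRing T] [Algebra P T], π T X = (1 : T) ⊗ₜ AdjoinRoot.root f :=
    fun T _ _ => aeval_X _
  have hroot : ∀ (T : Type u) [CommRing T] [Algebra P T] (p : P[X]),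
      aeval ((1 : T) ⊗ₜ[P] AdjoinRoot.root f) p = (1 : T) ⊗ₜ AdjoinRoot.mk f p := fun T _ _ p => by
    have h := aeval_algHom_apply (Algebra.TensorProduct.includeRight : C →ₐ[P] T ⊗[P] C)
      (AdjoinRoot.root f) p
    rw [AdjoinRoot.aeval_eq] at h
    exact h
  have hsurj : ∀ (T : Type u) [CommRing T] [Algebra P T], Function.Surjective (π T) := by
    intro T _ _ z
    induction z using TensorProduct.induction_on with
    | zero => exact ⟨0, map_zero _⟩
    | add x y hx hy =>
      obtain ⟨p, rfl⟩ := hx; obtain ⟨q, rfl⟩ := hy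
      exact ⟨p + q, map_add _ _ _⟩
    | tmul a c =>
      obtain ⟨p, rfl⟩ := AdjoinRoot.mk_surjective c
      refine ⟨Polynomial.C a * p.map (algebraMap P T), ?_⟩
      simp only [π, map_mul, aeval_C, aeval_map_algebraMap]
      rw [hroot, Algebra.TensorProduct.algebraMap_apply, Algebra.TensorProduct.tmul_mul_tmul, mul_one,
        one_mul]
      rfl
  have hdvd : ∀ (T : Type u) [CommRing T] [Algebra P T] (q : T[X]), π T q = 0 →
      f.map (algebraMap P T) ∣ q := by
    intro T _ _ q hq
    rw [← AdjoinRoot.mk_eq_zero]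
    let f' := f.map (algebraMap P T)
    have hr' : f.eval₂ (Algebra.ofId P (AdjoinRoot f')).toRingHom (AdjoinRoot.root f') = 0 := by
      show aeval (AdjoinRoot.root f') f = 0
      rw [← aeval_map_algebraMap T]
      exact AdjoinRoot.aeval_eq f' ▸ AdjoinRoot.mk_self
    let r : C →ₐ[P] AdjoinRoot f' :=
      AdjoinRoot.liftAlgHom f (Algebra.ofId P _) (AdjoinRoot.root f') hr'
    let inv : T ⊗[P] C →ₐ[T] AdjoinRoot f' :=
      Algebra.TensorProduct.lift (Algebra.ofId T _) r (fun _ _ => Commute.all _ _)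
    have : inv.comp (π T) = AdjoinRoot.mkₐ (R := T) f' := Polynomial.algHom_ext (by
      show inv (π T X) = _
      rw [hπX]
      simp only [inv, Algebra.TensorProduct.lift_tmul, map_one, one_mul]
      exact (AdjoinRoot.lift_root hr').trans rfl)
    have := DFunLike.congr_fun this q
    rw [AlgHom.comp_apply, hq, map_zero] at this
    exact this.symm
  obtain ⟨q, hq⟩ := hsurj E' e₀
  obtain ⟨w, hw⟩ := hdvd E' (q ^ 2 - q) (by rw [map_sub, map_pow, hq, sq, he₀.eq, sub_self])
  let ME := M.map (algebraMap P E')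
  let E : Matrix (Fin k) (Fin k) E' := aeval ME q
  have hE : IsIdempotentElem E := by
    have h1 : aeval ME (f.map (algebraMap P E')) = 0 := by
      rw [aeval_map_algebraMap]
      have := aeval_algHom_apply (Algebra.ofId P E').mapMatrix M f
      rw [hfM, map_zero] at this
      exact this
    have h2 : aeval ME (q ^ 2 - q) = 0 := by rw [hw, map_mul, h1, zero_mul]
    rw [map_sub, map_pow, sub_eq_zero, sq] at h2
    exact h2
  -- the point of `A₀`
  let p₀ := idemPoly A₀ k
  have hid : IsIdempotentElem (π A₀ p₀) := by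
    obtain ⟨d, hd⟩ := idemPoly_mul_sub_dvd (R := A₀) k
    have h0 : π A₀ ((X * (1 - X)) ^ (k + 1)) = 0 := by
      have hf0 : π A₀ (f.map (algebraMap P A₀)) = 0 := by
        simp only [π, aeval_map_algebraMap]
        rw [hroot, AdjoinRoot.mk_self, TensorProduct.tmul_zero]
      rw [hf₀] at hf0
      rw [show (X * (1 - X) : A₀[X]) = -(X ^ 2 - X) by ring, neg_pow, pow_succ (X ^ 2 - X) k, map_mul,
        map_mul, hf0, zero_mul, mul_zero]
    have := congrArg (π A₀) hd
    rw [map_mul, h0, zero_mul, map_sub, map_pow, sub_eq_zero, sq] at this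
    exact this
  obtain ⟨ψ, hψ, -⟩ := huniv A₀ (π A₀ p₀) hid
  refine ⟨E', inferInstance, inferInstance, ψ, E, hE', hE, ?_⟩
  have hnat : ∀ r, Algebra.TensorProduct.map ψ (AlgHom.id P C) (π E' r) = π A₀ (r.map ψ.toRingHom) := by
    intro r
    induction r using Polynomial.induction_on' with
    | add a b ha hb => simp [ha, hb]
    | monomial m a =>
      simp [π, aeval_monomial, Algebra.TensorProduct.algebraMap_apply,
        map_pow]
  obtain ⟨d, hd⟩ := hdvd A₀ (q.map ψ.toRingHom - p₀) (by rw [map_sub, ← hnat, hq, hψ, sub_self])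
  have hM₀f : aeval M₀ (f.map (algebraMap P A₀)) = 0 := by
    rw [aeval_map_algebraMap]
    have := aeval_algHom_apply (Algebra.ofId P A₀).mapMatrix M f
    rw [hfM, map_zero] at this
    exact this
  have hEψ' : ∀ r : E'[X], ψ.mapMatrix (aeval ME r) = aeval M₀ (r.map ψ.toRingHom) := by
    intro r
    induction r using Polynomial.induction_on' with
    | add a b ha hb =>
      simp only [map_add, Polynomial.map_add] at ha hb ⊢
      rw [ha, hb]
    | monomial m a =>
      simp only [Polynomial.map_monomial, aeval_monomial, map_mul, map_pow]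
      congr 1
      · ext i j
        simp [Matrix.algebraMap_matrix_apply, apply_ite ψ]
      · congr 1
        ext i j
        simp [ME, M₀]
  have hEψ : E.map ψ = aeval M₀ (q.map ψ.toRingHom) := hEψ' q
  rw [hEψ, show q.map ψ.toRingHom = f.map (algebraMap P A₀) * d + p₀ by rw [← hd, sub_add_cancel],
    map_add, map_mul, hM₀f, zero_mul, zero_add, aeval_idemPoly _ hM]

end Groth.Agent.Lib.Smoothing.LiftIdem
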