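import Groth.Prelude.Def_Smoothing
import Groth.Agent.Lib.Smoothing.LiftSmooth
import Mathlib.RingTheory.Smooth.Basic
import Mathlib.RingTheory.Smooth.StandardSmooth

/-!
# Lifting a factorisation along a square zero ideal, once
-/

universe u

open MvPolynomial

namespace Groth.Agent.Lib.Smoothing.LiftOnce

theorem lift_once {R Λ A : Type u} [CommRing R] [CommRing Λ] [Algebra R Λ] (I : Ideal R)
    (hI : I ^ 2 = ⊥) (h : _root_.Smoothing.IndSmooth (R ⧸ I) (Λ ⧸ I.map (algebraMap R Λ)))
    [CommRing A] [Algebra R A] [Algebra.FinitePresentation R A] (φ : A →ₐ[R] Λ) :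
    ∃ (B : Type u) (_ : CommRing B) (_ : Algebra R B), Algebra.Smooth R B ∧
      ∃ J : Ideal B, J ≤ I.map (algebraMap R B) ∧ J.FG ∧
        ∃ (g : A →ₐ[R] B ⧸ J) (k : (B ⧸ J) →ₐ[R] Λ), k.comp g = φ := by
  classical
  obtain ⟨n, π, hπ, hfg⟩ := (inferInstance : Algebra.FinitePresentation R A).out
  obtain ⟨c, f, hf⟩ := Submodule.fg_iff_exists_fin_generating_family.1 hfg
  let IΛ := I.map (algebraMap R Λ)
  let K₁ : Ideal (MvPolynomial (Fin n) (R ⧸ I)) :=
    Ideal.span (Set.range fun l => map (Ideal.Quotient.mk I) (f l))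
  let A₁ := MvPolynomial (Fin n) (R ⧸ I) ⧸ K₁
  have hA₁ : Algebra.FinitePresentation (R ⧸ I) A₁ :=
    Algebra.FinitePresentation.quotient (Submodule.fg_span (Set.finite_range _))
  let φb : MvPolynomial (Fin n) (R ⧸ I) →ₐ[R ⧸ I] Λ ⧸ IΛ :=
    aeval fun i => Ideal.Quotient.mk IΛ (φ (π (X i)))
  have hπf : ∀ l, π (f l) = 0 := fun l => hf.le (Ideal.subset_span ⟨l, rfl⟩)
  have hcompat : ∀ p, φb (map (Ideal.Quotient.mk I) p) = Ideal.Quotient.mk IΛ (φ (π p)) := by
    intro p
    induction p using MvPolynomial.induction_on with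
    | C r =>
      rw [map_C, ← MvPolynomial.algebraMap_eq, ← MvPolynomial.algebraMap_eq, AlgHom.commutes,
        AlgHom.commutes, AlgHom.commutes]
      rfl
    | add p q hp hq => simp only [map_add, hp, hq]
    | mul_X p i hp => simp only [map_mul, map_X, hp, φb, aeval_X]
  have hK₁ : K₁ ≤ RingHom.ker φb := by
    rw [Ideal.span_le]
    rintro _ ⟨l, rfl⟩
    show φb _ = 0
    rw [hcompat, hπf, map_zero, map_zero]
  obtain ⟨Bb, _, _, hBb, gb, hb, hgb⟩ := h A₁ hA₁ (Ideal.Quotient.liftₐ K₁ φb hK₁)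
  obtain ⟨B, _, _, hB, ⟨e⟩⟩ := LiftSmooth.exists_lift (A₀ := Bb) I
  let IB := I.map (algebraMap R B)
  let θb : B →ₐ[R] Λ ⧸ IΛ :=
    (((hb.comp e.toAlgHom).restrictScalars R).comp (Ideal.Quotient.mkₐ R IB))
  have hIΛ : IΛ ^ 2 = ⊥ := by rw [← Ideal.map_pow, hI, Ideal.map_bot]
  obtain ⟨θ, hθ⟩ := Algebra.FormallySmooth.comp_surjective R B IΛ hIΛ θb
  have hθ' : ∀ x, Ideal.Quotient.mk IΛ (θ x) = θb x := fun x => DFunLike.congr_fun hθ x
  choose b hb' using fun i : Fin n => Ideal.Quotient.mk_surjective (I := IB)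
    (e.symm (gb (Ideal.Quotient.mk K₁ (X i))))
  have hdiff : ∀ i, φ (π (X i)) - θ (b i) ∈ IΛ := fun i => by
    rw [← Ideal.Quotient.eq_zero_iff_mem, map_sub, hθ', sub_eq_zero]
    show _ = hb (e (Ideal.Quotient.mk IB (b i)))
    rw [hb', e.apply_symm_apply]
    refine Eq.trans ?_ (DFunLike.congr_fun hgb _).symm
    show _ = φb (X i)
    simp [φb]
  choose m co gen hgen using fun i => Submodule.mem_span_set'.1 (hdiff i)
  choose r hr hrg using fun i j => (gen i j).2
  let σ := Σ i, Fin (m i)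
  let B' := MvPolynomial σ B
  have : Algebra.Smooth B B' := ⟨inferInstance, inferInstance⟩
  have hB' : Algebra.Smooth R B' := Algebra.Smooth.comp R B B'
  let q : MvPolynomial (Fin n) R →ₐ[R] B' :=
    aeval fun i => C (b i) + ∑ j, algebraMap R B' (r i j) * X (⟨i, j⟩ : σ)
  let θ' : B' →ₐ[R] Λ :=
    { eval₂Hom θ.toRingHom (fun s : σ => co s.1 s.2) with
      commutes' := fun t => by
        show eval₂Hom θ.toRingHom _ (algebraMap R B' t) = _
        rw [IsScalarTower.algebraMap_apply R B B', MvPolynomial.algebraMap_eq, eval₂Hom_C]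
        exact θ.commutes t }
  have hθ'C : ∀ x, θ' (C x) = θ x := fun x => eval₂Hom_C _ _ x
  have hθ'X : ∀ s : σ, θ' (X s) = co s.1 s.2 := fun s => eval₂Hom_X' _ _ s
  have hθq : θ'.comp q = φ.comp π := by
    refine algHom_ext fun i => ?_
    rw [AlgHom.comp_apply, AlgHom.comp_apply]
    simp only [q, aeval_X, map_add, map_sum, map_mul, AlgHom.commutes, hθ'C, hθ'X]
    rw [add_comm, ← eq_sub_iff_add_eq, ← hgen]
    refine Finset.sum_congr rfl fun j _ => ?_
    rw [hrg, smul_eq_mul, mul_comm]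
  let J : Ideal B' := Ideal.span (Set.range fun l => q (f l))
  have hJ : J ≤ I.map (algebraMap R B') := by
    rw [Ideal.span_le]
    rintro _ ⟨l, rfl⟩
    have h1 : ∀ p, q p - C (aeval b p) ∈ I.map (algebraMap R B') := by
      intro p
      induction p using MvPolynomial.induction_on with
      | C t =>
        rw [show q (C t) = algebraMap R B' t from aeval_C _ _, show aeval b (C t) = algebraMap R B t from
          aeval_C _ _, ← MvPolynomial.algebraMap_eq, ← IsScalarTower.algebraMap_apply, sub_self]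
        exact zero_mem _
      | add p p' hp hp' =>
        rw [map_add, map_add, map_add, add_sub_add_comm]
        exact add_mem hp hp'
      | mul_X p i hp =>
        rw [map_mul, map_mul, map_mul, show q (X i) = C (b i) + ∑ j, algebraMap R B' (r i j) *
          X (⟨i, j⟩ : σ) from aeval_X _ i, show aeval b (X i) = b i from aeval_X _ i, mul_add, add_sub_right_comm, ← sub_mul]
        exact add_mem (Ideal.mul_mem_right _ _ hp) (Ideal.mul_mem_left _ _ (Submodule.sum_mem _ fun j _ =>
          Ideal.mul_mem_right _ _ (Ideal.mem_map_of_mem _ (hr i j))))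
    have h2 : aeval b (f l) ∈ IB := by
      rw [← Ideal.Quotient.eq_zero_iff_mem, ← map_eq_zero_iff _ e.injective]
      have h3 : ∀ p, e (Ideal.Quotient.mk IB (aeval b p)) =
          gb (Ideal.Quotient.mk K₁ (map (Ideal.Quotient.mk I) p)) := by
        intro p
        induction p using MvPolynomial.induction_on with
        | C t =>
          rw [show aeval b (C t) = algebraMap R B t from aeval_C _ _, map_C]
          exact (e.commutes (Ideal.Quotient.mk I t)).trans (gb.commutes _).symm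
        | add p q hp hq => simp only [map_add, hp, hq]
        | mul_X p i hp => simp only [map_mul, map_X, hp, aeval_X, hb', e.apply_symm_apply]
      rw [h3, show Ideal.Quotient.mk K₁ (map (Ideal.Quotient.mk I) (f l)) = 0 from
        Ideal.Quotient.eq_zero_iff_mem.2 (Ideal.subset_span ⟨l, rfl⟩), map_zero]
    have h3 : C (aeval b (f l)) ∈ I.map (algebraMap R B') := by
      have := Ideal.mem_map_of_mem (C : B →+* B') h2
      rwa [Ideal.map_map, ← MvPolynomial.algebraMap_eq, ← IsScalarTower.algebraMap_eq] at this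
    simpa using add_mem (h1 (f l)) h3
  refine ⟨B', inferInstance, inferInstance, hB', J, hJ, Submodule.fg_span (Set.finite_range _), ?_⟩
  have hker : RingHom.ker π ≤ RingHom.ker ((Ideal.Quotient.mkₐ R J).comp q) := by
    show RingHom.ker π.toRingHom ≤ _
    rw [← hf, Submodule.span_le]
    rintro _ ⟨l, rfl⟩
    exact Ideal.Quotient.eq_zero_iff_mem.2 (Ideal.subset_span ⟨l, rfl⟩)
  let g : A →ₐ[R] B' ⧸ J := AlgHom.liftOfSurjective π hπ _ hker
  have hJθ : J ≤ RingHom.ker θ' := by
    rw [Ideal.span_le]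
    rintro _ ⟨l, rfl⟩
    exact (DFunLike.congr_fun hθq (f l)).trans ((congrArg φ (hπf l)).trans (map_zero φ))
  refine ⟨g, Ideal.Quotient.liftₐ J θ' hJθ, AlgHom.ext fun a => ?_⟩
  obtain ⟨p, rfl⟩ := hπ a
  show Ideal.Quotient.liftₐ J θ' hJθ (g (π p)) = _
  rw [show g (π p) = Ideal.Quotient.mk J (q p) from AlgHom.liftOfSurjective_apply π hπ _ hker p]
  exact DFunLike.congr_fun hθq p

end Groth.Agent.Lib.Smoothing.LiftOnce
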