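import Groth.Agent.Lib.Smoothing.LiftingModel
import Groth.Agent.Lib.Smoothing.LocalJacobian
import Mathlib.RingTheory.Smooth.StandardSmooth
import Mathlib.RingTheory.FinitePresentation

/-!
# The lifting lemma
-/

universe u

open MvPolynomial

namespace Groth.Agent.Lib.Smoothing.Lifting

variable {R : Type u} [CommRing R] {n m : ℕ} (π : R) (f : Fin m → MvPolynomial (Fin n) R)

/-- The linear form `Σ a_j z_j - π r`. -/
noncomputable def combo (a : Fin m → MvPolynomial (Fin n) R) (r : MvPolynomial (Fin n) R) :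
    MvPolynomial (Fin n ⊕ Fin m) R :=
  ∑ j, rename Sum.inl (a j) * X (Sum.inr j) - C π * rename Sum.inl r

/-- The relations of the lifted algebra. -/
def relSet : Set (MvPolynomial (Fin n ⊕ Fin m) R) :=
  Set.range (fun j => rename Sum.inl (f j) - C π * X (Sum.inr j)) ∪
    {p | ∃ a r, ∑ j, a j * f j = C (π ^ 2) * r ∧ combo π a r = p}

/-- The lifted algebra `R[x, z] / (f - π z, a z - π r)`. -/
abbrev Lifted : Type u := MvPolynomial (Fin n ⊕ Fin m) R ⧸ Ideal.span (relSet π f)

/-- The coordinates `x`. -/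
noncomputable def dx (i : Fin n) : Lifted π f := Ideal.Quotient.mk _ (X (Sum.inl i))

/-- The coordinates `z`. -/
noncomputable def dz (j : Fin m) : Lifted π f := Ideal.Quotient.mk _ (X (Sum.inr j))

theorem aeval_dx (p : MvPolynomial (Fin n) R) :
    aeval (dx π f) p = Ideal.Quotient.mk (Ideal.span (relSet π f)) (rename Sum.inl p) := by
  suffices aeval (dx π f) = (Ideal.Quotient.mkₐ R (Ideal.span (relSet π f))).comp (rename Sum.inl) from
    DFunLike.congr_fun this p
  apply algHom_ext
  intro i
  simp [dx]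

theorem algebraMap_mul_eq (p : MvPolynomial (Fin n ⊕ Fin m) R) :
    algebraMap R (Lifted π f) π * Ideal.Quotient.mk _ p = Ideal.Quotient.mk _ (C π * p) := by
  rw [map_mul, IsScalarTower.algebraMap_apply R (MvPolynomial (Fin n ⊕ Fin m) R) (Lifted π f),
    Ideal.Quotient.algebraMap_eq, MvPolynomial.algebraMap_eq]

theorem aeval_dx_f (j : Fin m) : aeval (dx π f) (f j) = algebraMap R (Lifted π f) π * dz π f j := by
  rw [aeval_dx, dz, algebraMap_mul_eq, Ideal.Quotient.eq]
  exact Ideal.subset_span (Or.inl ⟨j, rfl⟩)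

theorem sum_dz (a : Fin m → MvPolynomial (Fin n) R) (r : MvPolynomial (Fin n) R)
    (h : ∑ j, a j * f j = C (π ^ 2) * r) :
    ∑ j, aeval (dx π f) (a j) * dz π f j = algebraMap R (Lifted π f) π * aeval (dx π f) r := by
  simp only [aeval_dx, dz, algebraMap_mul_eq]
  simp only [← map_mul, ← map_sum]
  rw [Ideal.Quotient.eq]
  exact Ideal.subset_span (Or.inr ⟨a, r, h, rfl⟩)

variable {S : Type*} [CommRing S] [Algebra R S]

/-- Maps out of the lifted algebra. -/
noncomputable def toAlg (x : Fin n → S) (z : Fin m → S)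
    (h1 : ∀ j, aeval x (f j) = algebraMap R S π * z j)
    (h2 : ∀ (a : Fin m → MvPolynomial (Fin n) R) r, ∑ j, a j * f j = C (π ^ 2) * r →
      ∑ j, aeval x (a j) * z j = algebraMap R S π * aeval x r) :
    Lifted π f →ₐ[R] S :=
  Ideal.Quotient.liftₐ _ (aeval (Sum.elim x z)) fun p hp => by
    refine (Ideal.span_le (I := RingHom.ker (aeval (R := R) (Sum.elim x z)))).2 ?_ hp
    rintro _ (⟨j, rfl⟩ | ⟨a, r, h, rfl⟩)
    · simp [aeval_rename, h1]
    · simp [combo, aeval_rename, h2 a r h]

variable (x : Fin n → S) (z : Fin m → S) (h1 : ∀ j, aeval x (f j) = algebraMap R S π * z j)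
  (h2 : ∀ (a : Fin m → MvPolynomial (Fin n) R) r, ∑ j, a j * f j = C (π ^ 2) * r →
      ∑ j, aeval x (a j) * z j = algebraMap R S π * aeval x r)

@[simp] theorem toAlg_dx (i : Fin n) : toAlg π f x z h1 h2 (dx π f i) = x i := by
  exact aeval_X (Sum.elim x z) (Sum.inl i)

@[simp] theorem toAlg_dz (j : Fin m) : toAlg π f x z h1 h2 (dz π f j) = z j := by
  exact aeval_X (Sum.elim x z) (Sum.inr j)

theorem toAlg_aeval_dx (p : MvPolynomial (Fin n) R) :
    toAlg π f x z h1 h2 (aeval (dx π f) p) = aeval x p := by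
  suffices (toAlg π f x z h1 h2).comp (aeval (dx π f)) = aeval x from DFunLike.congr_fun this p
  apply algHom_ext
  intro i
  simp

omit [Algebra R S] in
theorem algHom_ext' {T : Type*} [CommRing T] [Algebra R T] {u v : Lifted π f →ₐ[R] T}
    (hx : ∀ i, u (dx π f i) = v (dx π f i)) (hz : ∀ j, u (dz π f j) = v (dz π f j)) : u = v := by
  apply Ideal.Quotient.algHom_ext
  apply algHom_ext
  rintro (i | j)
  · exact hx i
  · exact hz j

theorem isSmoothAt_of_smooth_away {D : Type u} [CommRing D] [Algebra R D]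
    [Algebra.FinitePresentation R D] {h : D} [Algebra.Smooth R (Localization.Away h)] (Q : Ideal D)
    [Q.IsPrime] (hQ : h ∉ Q) : Algebra.IsSmoothAt R Q :=
  Algebra.basicOpen_subset_smoothLocus_iff_smooth.2 ‹_›
    (show (⟨Q, ‹_›⟩ : PrimeSpectrum D) ∈ PrimeSpectrum.basicOpen h from hQ)

/-- The lifted algebra is smooth away from `π`. -/
theorem smooth_away_pi : Algebra.Smooth R (Localization.Away (algebraMap R (Lifted π f) π)) := by
  classical
  let D := Lifted π f
  let Dπ := Localization.Away (algebraMap R D π)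
  let Pπ := Localization.Away (algebraMap R (MvPolynomial (Fin n) R) π)
  have : Algebra.Smooth (MvPolynomial (Fin n) R) Pπ :=
    Algebra.Smooth.of_isLocalization_Away (algebraMap R (MvPolynomial (Fin n) R) π)
  have : Algebra.Smooth R (MvPolynomial (Fin n) R) := ⟨inferInstance, inferInstance⟩
  have : Algebra.Smooth R Pπ := Algebra.Smooth.comp R (MvPolynomial (Fin n) R) Pπ
  let inv : Pπ := IsLocalization.Away.invSelf (algebraMap R (MvPolynomial (Fin n) R) π)
  have hinv : algebraMap R Pπ π * inv = 1 := by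
    rw [IsScalarTower.algebraMap_apply R (MvPolynomial (Fin n) R) Pπ]
    exact IsLocalization.Away.mul_invSelf _
  let x : Fin n → Pπ := fun i => algebraMap _ _ (X i : MvPolynomial (Fin n) R)
  have hx : ∀ p : MvPolynomial (Fin n) R, aeval x p = algebraMap _ Pπ p := fun p => by
    suffices aeval x = IsScalarTower.toAlgHom R (MvPolynomial (Fin n) R) Pπ from
      DFunLike.congr_fun this p
    apply algHom_ext
    intro i
    rw [aeval_X]; rfl
  let Φ : D →ₐ[R] Pπ := toAlg π f x (fun j => algebraMap _ _ (f j) * inv)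
    (fun j => by rw [hx]; linear_combination (-algebraMap _ Pπ (f j)) * hinv)
    (fun a r h => by
      simp only [hx]
      have h1 := congrArg (algebraMap _ Pπ) h
      simp only [map_sum, map_mul, map_pow, ← MvPolynomial.algebraMap_eq,
        ← IsScalarTower.algebraMap_apply] at h1
      calc ∑ j, algebraMap _ Pπ (a j) * (algebraMap _ Pπ (f j) * inv)
          = (∑ j, algebraMap _ Pπ (a j) * algebraMap _ Pπ (f j)) * inv := by
            rw [Finset.sum_mul]
            exact Finset.sum_congr rfl fun j _ => by ring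
        _ = _ := by rw [h1]; linear_combination (algebraMap R Pπ π * algebraMap _ Pπ r) * hinv)
  have hu : ∀ y : Submonoid.powers (algebraMap R D π), IsUnit (Φ y) := by
    rintro ⟨_, k, rfl⟩
    rw [map_pow, AlgHom.commutes, IsScalarTower.algebraMap_apply R (MvPolynomial (Fin n) R) Pπ]
    exact (IsLocalization.Away.algebraMap_isUnit _).pow k
  let Φ' : Dπ →ₐ[R] Pπ := IsLocalization.liftAlgHom (S := Dπ) hu
  have hΦ : ∀ d, Φ' (algebraMap D Dπ d) = Φ d := fun d => IsLocalization.lift_eq hu d
  let Ψ₀ : MvPolynomial (Fin n) R →ₐ[R] Dπ := (IsScalarTower.toAlgHom R D Dπ).comp (aeval (dx π f))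
  have hu' : ∀ y : Submonoid.powers (algebraMap R (MvPolynomial (Fin n) R) π), IsUnit (Ψ₀ y) := by
    rintro ⟨_, k, rfl⟩
    rw [map_pow, AlgHom.commutes, IsScalarTower.algebraMap_apply R D Dπ]
    exact (IsLocalization.Away.algebraMap_isUnit _).pow k
  let Ψ : Pπ →ₐ[R] Dπ := IsLocalization.liftAlgHom (S := Pπ) hu'
  have hΨ : ∀ p, Ψ (algebraMap _ Pπ p) = Ψ₀ p := fun p => IsLocalization.lift_eq hu' p
  refine Algebra.Smooth.of_equiv (A := Pπ) (AlgEquiv.ofAlgHom Ψ Φ' ?_ ?_)
  · apply IsLocalization.algHom_ext (Submonoid.powers (algebraMap R D π))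
    refine algHom_ext' π f (fun i => ?_) fun j => ?_
    · show Ψ (Φ' (algebraMap D Dπ (dx π f i))) = algebraMap D Dπ (dx π f i)
      rw [hΦ, toAlg_dx, hΨ]
      simp [Ψ₀]
    · show Ψ (Φ' (algebraMap D Dπ (dz π f j))) = algebraMap D Dπ (dz π f j)
      rw [hΦ, toAlg_dz, map_mul, hΨ]
      have h1 : Ψ₀ (f j) = algebraMap R Dπ π * algebraMap D Dπ (dz π f j) := by
        show algebraMap D Dπ (aeval (dx π f) (f j)) = _
        rw [aeval_dx_f, map_mul, ← IsScalarTower.algebraMap_apply]
      have h2 : algebraMap R Dπ π * Ψ inv = 1 := by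
        rw [← Ψ.commutes, ← map_mul, hinv, map_one]
      rw [h1]
      linear_combination (algebraMap D Dπ (dz π f j)) * h2
  · apply IsLocalization.algHom_ext (Submonoid.powers (algebraMap R (MvPolynomial (Fin n) R) π))
    apply algHom_ext
    intro i
    show Φ' (Ψ (algebraMap _ Pπ (X i))) = algebraMap _ Pπ (X i)
    rw [hΨ]
    show Φ' (algebraMap D Dπ (aeval (dx π f) (X i))) = _
    rw [hΦ, aeval_X, toAlg_dx]

/-- Near a point where the reduction is smooth, the lifted algebra is smooth. -/
theorem smooth_away_minor (hR : ∀ r : R, π ^ 2 * r = 0 → π * r = 0) {c : ℕ} (s : Fin c → Fin m)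
    (cols : Fin c → Fin n) (h : MvPolynomial (Fin n) R)
    (hdiv : _root_.Smoothing.jacobianMinor f s cols ∣ h)
    (G : Fin m → Fin c → MvPolynomial (Fin n) R) (r : Fin m → MvPolynomial (Fin n) R)
    (hG : ∀ j, h * f j = ∑ l, G j l * f (s l) + C (π ^ 2) * r j) :
    Algebra.Smooth R (Localization.Away (aeval (dx π f) h)) := by
  classical
  let D := Lifted π f
  let Dh := Localization.Away (aeval (dx π f) h)
  let g : Fin c → MvPolynomial (Fin n) R := fun k => f (s k)
  have hdiv' : _root_.Smoothing.jacobianMinor g id cols ∣ h := hdiv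
  have : Algebra.Smooth R (LiftingModel.Model π g h) := LiftingModel.smooth π g h cols hdiv'
  let x : Fin n → (LiftingModel.Model π g h) := LiftingModel.mx π g h
  let z₀ : Fin c → (LiftingModel.Model π g h) := LiftingModel.mz π g h
  have hg : ∀ k, aeval x (g k) = algebraMap R (LiftingModel.Model π g h) π * z₀ k := LiftingModel.aeval_mx_rel π g h
  have hvan : ∀ (b : Fin c → MvPolynomial (Fin n) R) s', ∑ k, b k * g k = C (π ^ 2) * s' →
      ∑ k, aeval x (b k) * z₀ k = algebraMap R (LiftingModel.Model π g h) π * aeval x s' := fun b s' =>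
    LiftingModel.sum_mul_eq π g hR cols x z₀ hg
      (LiftingModel.isUnit_jacobianMinor π g h cols hdiv') b s'
  obtain ⟨u, hu⟩ := (LiftingModel.isUnit_aeval_mx π g h).exists_left_inv
  change u * aeval x h = 1 at hu
  let z : Fin m → (LiftingModel.Model π g h) := fun j => u * (∑ l, aeval x (G j l) * z₀ l + algebraMap R (LiftingModel.Model π g h) π * aeval x (r j))
  have hG' : ∀ j, aeval x h * aeval x (f j) =
      algebraMap R (LiftingModel.Model π g h) π * (∑ l, aeval x (G j l) * z₀ l + algebraMap R (LiftingModel.Model π g h) π * aeval x (r j)) := fun j => by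
    rw [← map_mul, hG, map_add, map_sum, map_mul, aeval_C, map_pow, mul_add, Finset.mul_sum]
    refine congrArg₂ (· + ·) (Finset.sum_congr rfl fun l _ => ?_) (by ring)
    rw [map_mul, show aeval x (f (s l)) = _ from hg l]
    ring
  have h1 : ∀ j, aeval x (f j) = algebraMap R (LiftingModel.Model π g h) π * z j := fun j => by
    linear_combination (-aeval x (f j)) * hu + u * hG' j
  have h2 : ∀ (a : Fin m → MvPolynomial (Fin n) R) r', ∑ j, a j * f j = C (π ^ 2) * r' →
      ∑ j, aeval x (a j) * z j = algebraMap R (LiftingModel.Model π g h) π * aeval x r' := by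
    intro a r' har
    have hb : ∑ l, (∑ j, a j * G j l) * g l = C (π ^ 2) * (h * r' - ∑ j, a j * r j) := by
      simp only [Finset.sum_mul]
      rw [Finset.sum_comm, mul_sub, ← mul_assoc, mul_comm (C (π ^ 2)) h, mul_assoc, ← har,
        Finset.mul_sum, Finset.mul_sum, ← Finset.sum_sub_distrib]
      refine Finset.sum_congr rfl fun j _ => ?_
      have := hG j
      rw [show ∑ l, a j * G j l * g l = a j * ∑ l, G j l * f (s l) by
        rw [Finset.mul_sum]; exact Finset.sum_congr rfl fun l _ => mul_assoc _ _ _]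
      linear_combination (-a j) * this
    have h3 := hvan _ _ hb
    simp only [map_sub, map_sum, map_mul, Finset.sum_mul] at h3
    rw [Finset.sum_comm] at h3
    calc ∑ j, aeval x (a j) * z j
        = u * ∑ j, (∑ l, aeval x (a j) * aeval x (G j l) * z₀ l +
            algebraMap R (LiftingModel.Model π g h) π * (aeval x (a j) * aeval x (r j))) := by
          rw [Finset.mul_sum]
          refine Finset.sum_congr rfl fun j _ => ?_
          rw [show ∑ l, aeval x (a j) * aeval x (G j l) * z₀ l =
            aeval x (a j) * ∑ l, aeval x (G j l) * z₀ l by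
              rw [Finset.mul_sum]; exact Finset.sum_congr rfl fun l _ => mul_assoc _ _ _]
          simp only [z]
          ring
      _ = _ := by
          rw [Finset.sum_add_distrib, h3, ← Finset.mul_sum]
          linear_combination (algebraMap R (LiftingModel.Model π g h) π * aeval x r') * hu
  have hzs : ∀ k, z (s k) = z₀ k := by
    intro k
    have hb : ∑ l, ((if l = k then h else 0) - G (s k) l) * g l = C (π ^ 2) * r (s k) := by
      simp only [sub_mul, Finset.sum_sub_distrib, ite_mul, zero_mul, Finset.sum_ite_eq', Finset.mem_univ,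
        if_true]
      linear_combination hG (s k)
    have h3 := hvan _ _ hb
    simp only [map_sub, apply_ite (aeval x), map_zero, sub_mul, Finset.sum_sub_distrib, ite_mul,
      zero_mul, Finset.sum_ite_eq', Finset.mem_univ, if_true] at h3
    simp only [z]
    linear_combination (-u) * h3 + z₀ k * hu
  let Φ : D →ₐ[R] (LiftingModel.Model π g h) := toAlg π f x z h1 h2
  have hΦu : ∀ y : Submonoid.powers (aeval (dx π f) h), IsUnit (Φ y) := by
    rintro ⟨_, k, rfl⟩
    rw [map_pow, toAlg_aeval_dx]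
    exact (LiftingModel.isUnit_aeval_mx π g h).pow k
  let Φ' : Dh →ₐ[R] (LiftingModel.Model π g h) := IsLocalization.liftAlgHom (S := Dh) hΦu
  have hΦ' : ∀ d, Φ' (algebraMap D Dh d) = Φ d := fun d => IsLocalization.lift_eq hΦu d
  let ι : D →ₐ[R] Dh := IsScalarTower.toAlgHom R D Dh
  let Ψ₀ : LiftingModel.Model₀ π g →ₐ[R] Dh :=
    Ideal.Quotient.liftₐ _ (aeval (Fin.append (fun i => ι (dx π f i)) fun k => ι (dz π f (s k))))
      fun p hp => by
        refine (Ideal.span_le (I := RingHom.ker (aeval (R := R)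
          (Fin.append (fun i => ι (dx π f i)) fun k => ι (dz π f (s k)))))).2 ?_ hp
        rintro _ ⟨k, rfl⟩
        have h3 : (fun i => Fin.append (fun i => ι (dx π f i)) (fun k => ι (dz π f (s k)))
            (Fin.castAdd c i)) = fun i => ι (dx π f i) := funext fun i => Fin.append_left _ _ i
        simp only [SetLike.mem_coe, RingHom.mem_ker, LiftingModel.rel, map_sub, map_mul, aeval_C,
          aeval_X, Fin.append_right, aeval_rename, Function.comp_def, h3]
        show aeval (fun i => ι (dx π f i)) (f (s k)) - _ = 0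
        rw [← comp_aeval_apply, aeval_dx_f, map_mul, AlgHom.commutes, sub_self]
  have hΨx : ∀ p, Ψ₀ (Ideal.Quotient.mk _ (rename (Fin.castAdd c) p)) = ι (aeval (dx π f) p) := by
    intro p
    suffices (Ψ₀.comp (Ideal.Quotient.mkₐ R _)).comp (rename (Fin.castAdd c)) =
        ι.comp (aeval (dx π f)) from DFunLike.congr_fun this p
    apply algHom_ext
    intro i
    simp only [AlgHom.comp_apply, rename_X, aeval_X]
    exact (aeval_X _ _).trans (Fin.append_left _ _ i)
  have hΨu : ∀ y : Submonoid.powers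
      (Ideal.Quotient.mk (Ideal.span (Set.range (LiftingModel.rel π g))) (rename (Fin.castAdd c) h)),
      IsUnit (Ψ₀ y) := by
    rintro ⟨_, k, rfl⟩
    rw [map_pow, hΨx]
    exact (IsLocalization.Away.algebraMap_isUnit _).pow k
  let Ψ : (LiftingModel.Model π g h) →ₐ[R] Dh := IsLocalization.liftAlgHom (S := (LiftingModel.Model π g h)) hΨu
  have hΨ : ∀ q, Ψ (algebraMap _ (LiftingModel.Model π g h) q) = Ψ₀ q := fun q => IsLocalization.lift_eq hΨu q
  have hΨmx : ∀ p, Ψ (aeval x p) = ι (aeval (dx π f) p) := fun p => by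
    rw [LiftingModel.aeval_mx, hΨ, hΨx]
  have hΨmz : ∀ k, Ψ (z₀ k) = ι (dz π f (s k)) := fun k => by
    show Ψ (algebraMap _ (LiftingModel.Model π g h) _) = _
    rw [hΨ]
    exact (aeval_X _ _).trans (Fin.append_right _ _ k)
  have hxi : ∀ i, x i = aeval (R := R) x (X i) := fun i => (aeval_X x i).symm
  refine Algebra.Smooth.of_equiv (A := (LiftingModel.Model π g h)) (AlgEquiv.ofAlgHom Ψ Φ' ?_ ?_)
  · apply IsLocalization.algHom_ext (Submonoid.powers (aeval (dx π f) h))
    refine algHom_ext' π f (fun i => ?_) fun j => ?_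
    · show Ψ (Φ' (ι (dx π f i))) = ι (dx π f i)
      rw [show Φ' (ι (dx π f i)) = Φ (dx π f i) from hΦ' _, toAlg_dx, hxi, hΨmx, aeval_X]
    · show Ψ (Φ' (ι (dz π f j))) = ι (dz π f j)
      rw [show Φ' (ι (dz π f j)) = Φ (dz π f j) from hΦ' _, toAlg_dz]
      have hrel := congrArg ι (sum_dz π f
        (fun j' => (if j' = j then h else 0) - ∑ l, if s l = j' then G j l else 0) (r j) (by
          simp only [sub_mul, Finset.sum_sub_distrib, ite_mul, zero_mul, Finset.sum_ite_eq',
            Finset.mem_univ, if_true, Finset.sum_mul]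
          rw [Finset.sum_comm]
          simp only [Finset.sum_ite_eq, Finset.mem_univ, if_true]
          linear_combination hG j))
      simp only [map_sub, map_sum, apply_ite (aeval (dx π f)), map_zero, sub_mul, map_mul,
        Finset.sum_sub_distrib, ite_mul, zero_mul, apply_ite ι, Finset.sum_mul, Finset.sum_ite_eq',
        Finset.mem_univ, if_true] at hrel
      rw [Finset.sum_comm] at hrel
      simp only [Finset.sum_ite_eq, Finset.mem_univ, if_true] at hrel
      have h3 : Ψ (z j) * ι (aeval (dx π f) h) =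
          Ψ (∑ l, aeval x (G j l) * z₀ l + algebraMap R (LiftingModel.Model π g h) π * aeval x (r j)) := by
        rw [← hΨmx, ← map_mul]
        congr 1
        simp only [z]
        linear_combination (∑ l, aeval x (G j l) * z₀ l + algebraMap R (LiftingModel.Model π g h) π * aeval x (r j)) * hu
      simp only [map_add, map_sum, map_mul, hΨmx, hΨmz, AlgHom.commutes] at h3
      refine (IsLocalization.Away.algebraMap_isUnit (S := Dh) (aeval (dx π f) h)).mul_left_injective ?_
      show Ψ (z j) * ι (aeval (dx π f) h) = ι (dz π f j) * ι (aeval (dx π f) h)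
      rw [h3]
      rw [show ι (algebraMap R (Lifted π f) π) = algebraMap R Dh π from ι.commutes π] at hrel
      linear_combination -hrel
  · apply IsLocalization.algHom_ext (Submonoid.powers
      (Ideal.Quotient.mk (Ideal.span (Set.range (LiftingModel.rel π g))) (rename (Fin.castAdd c) h)))
    apply Ideal.Quotient.algHom_ext
    apply algHom_ext
    intro i
    refine Fin.addCases (fun i => ?_) (fun k => ?_) i
    · show Φ' (Ψ (x i)) = x i
      rw [hxi, hΨmx, aeval_X, show Φ' (ι (dx π f i)) = Φ (dx π f i) from hΦ' _, toAlg_dx, aeval_X]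
    · show Φ' (Ψ (z₀ k)) = z₀ k
      rw [hΨmz, show Φ' (ι (dz π f (s k))) = Φ (dz π f (s k)) from hΦ' _, toAlg_dz, hzs]

/-- The lifting lemma. -/
theorem exists_lifting {R Λ C : Type u} [CommRing R] [IsNoetherianRing R] [CommRing Λ]
    [Algebra R Λ] (π : R) (hR : ∀ r : R, π ^ 2 * r = 0 → π * r = 0)
    (hΛ : ∀ x : Λ, π ^ 2 • x = 0 → π • x = 0) [CommRing C] [Algebra R C]
    [Algebra (R ⧸ Ideal.span {π ^ 2}) C] [IsScalarTower R (R ⧸ Ideal.span {π ^ 2}) C]
    [Algebra.FinitePresentation (R ⧸ Ideal.span {π ^ 2}) C]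
    (γ : C →ₐ[R] Λ ⧸ Ideal.span {algebraMap R Λ (π ^ 2)}) :
    ∃ (D : Type u) (_ : CommRing D) (_ : Algebra R D), Algebra.FinitePresentation R D ∧
      ∃ (δ : D →ₐ[R] Λ) (ψ : C →ₐ[R] D ⧸ Ideal.span {algebraMap R D π}),
        (∀ (c : C) (d : D) (l : Λ), Ideal.Quotient.mk (Ideal.span {algebraMap R D π}) d = ψ c →
          Ideal.Quotient.mk (Ideal.span {algebraMap R Λ (π ^ 2)}) l = γ c →
            δ d - l ∈ Ideal.span {algebraMap R Λ π}) ∧
        (∀ (Q : Ideal D) [Q.IsPrime], algebraMap R D π ∉ Q → Algebra.IsSmoothAt R Q) ∧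
        (∀ (Q : Ideal (D ⧸ Ideal.span {algebraMap R D π})) [Q.IsPrime],
          Algebra.IsSmoothAt (R ⧸ Ideal.span {π ^ 2}) (Q.comap ψ) →
            Algebra.IsSmoothAt R (Q.comap (Ideal.Quotient.mk (Ideal.span {algebraMap R D π})))) := by
  classical
  have : Algebra.FinitePresentation R (R ⧸ Ideal.span {π ^ 2}) :=
    Algebra.FinitePresentation.quotient (Submodule.fg_span (Set.finite_singleton _))
  have : Algebra.FinitePresentation R C := Algebra.FinitePresentation.trans R (R ⧸ Ideal.span {π ^ 2}) C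
  obtain ⟨n, φ, hφ, hfg⟩ := Algebra.FinitePresentation.out (R := R) (A := C)
  obtain ⟨m, f, hf⟩ := Submodule.fg_iff_exists_fin_generating_family.1 hfg
  have hker : RingHom.ker φ.toRingHom = Ideal.span (Set.range f) := hf.symm
  let D := Lifted π f
  have : Algebra.FinitePresentation R D := Algebra.FinitePresentation.of_finiteType.1 inferInstance
  -- the images of the variables in `Λ`
  choose lam hlam using fun i => Ideal.Quotient.mk_surjective (γ (φ (X i)))
  have hlam' : ∀ p, Ideal.Quotient.mk (Ideal.span {algebraMap R Λ (π ^ 2)}) (aeval lam p) = γ (φ p) := by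
    intro p
    suffices (Ideal.Quotient.mkₐ R (Ideal.span {algebraMap R Λ (π ^ 2)})).comp (aeval lam) = γ.comp φ from
      DFunLike.congr_fun this p
    apply algHom_ext
    intro i
    simp [hlam i]
  have hmu : ∀ j, ∃ w, aeval lam (f j) = algebraMap R Λ (π ^ 2) * w := fun j => by
    have h1 := hlam' (f j)
    rw [show φ (f j) = 0 from hker.ge (Ideal.subset_span ⟨j, rfl⟩), map_zero,
      Ideal.Quotient.eq_zero_iff_mem, Ideal.mem_span_singleton] at h1
    exact h1
  choose μ hμ using hmu
  let δ : D →ₐ[R] Λ := toAlg π f lam (fun j => algebraMap R Λ π * μ j)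
    (fun j => by rw [hμ, map_pow]; ring)
    (fun a r h => by
      have h1 := congrArg (aeval (R := R) lam) h
      simp only [map_sum, map_mul, hμ, aeval_C] at h1
      have h2 : π ^ 2 • (∑ j, aeval lam (a j) * μ j - aeval lam r) = 0 := by
        rw [Algebra.smul_def, mul_sub, Finset.mul_sum, ← h1, ← Finset.sum_sub_distrib]
        exact Finset.sum_eq_zero fun j _ => by ring
      have h3 := hΛ _ h2
      rw [Algebra.smul_def, mul_sub, sub_eq_zero, Finset.mul_sum] at h3
      rw [← h3]
      exact Finset.sum_congr rfl fun j _ => by ring)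
  -- the map from `C`
  let ψ₀ : MvPolynomial (Fin n) R →ₐ[R] D ⧸ Ideal.span {algebraMap R D π} :=
    (Ideal.Quotient.mkₐ R _).comp (aeval (dx π f))
  have hψ₀ : ∀ p ∈ RingHom.ker (φ : MvPolynomial (Fin n) R →+* C), ψ₀ p = 0 := by
    intro p hp
    refine (Ideal.span_le (I := RingHom.ker ψ₀)).2 ?_ (hker.le hp)
    rintro _ ⟨j, rfl⟩
    show Ideal.Quotient.mk _ (aeval (dx π f) (f j)) = 0
    rw [aeval_dx_f, Ideal.Quotient.eq_zero_iff_mem]
    exact Ideal.mul_mem_right _ _ (Ideal.subset_span rfl)
  let ψ : C →ₐ[R] D ⧸ Ideal.span {algebraMap R D π} :=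
    (Ideal.Quotient.liftₐ _ ψ₀ hψ₀).comp (Ideal.quotientKerAlgEquivOfSurjective hφ).symm.toAlgHom
  have hψ : ∀ p, ψ (φ p) = Ideal.Quotient.mk _ (aeval (dx π f) p) := fun p => by
    show Ideal.Quotient.liftₐ _ ψ₀ hψ₀ ((Ideal.quotientKerAlgEquivOfSurjective hφ).symm (φ p)) = _
    rw [show (Ideal.quotientKerAlgEquivOfSurjective hφ).symm (φ p) =
      Ideal.Quotient.mk _ p from (AlgEquiv.symm_apply_eq _).2 rfl]
    rfl
  refine ⟨D, inferInstance, inferInstance, inferInstance, δ, ψ, ?_, ?_, ?_⟩
  · intro c d l hd hl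
    obtain ⟨p, rfl⟩ := hφ c
    rw [hψ, Ideal.Quotient.eq, Ideal.mem_span_singleton] at hd
    rw [← hlam', Ideal.Quotient.eq, Ideal.mem_span_singleton] at hl
    obtain ⟨d', hd⟩ := hd
    obtain ⟨l', hl⟩ := hl
    have h1 := congrArg δ hd
    rw [map_sub, map_mul, AlgHom.commutes, toAlg_aeval_dx] at h1
    rw [Ideal.mem_span_singleton]
    rw [map_pow] at hl
    exact ⟨δ d' - algebraMap R Λ π * l', by linear_combination h1 - hl⟩
  · intro Q _ hQ
    have := smooth_away_pi π f
    exact isSmoothAt_of_smooth_away Q hQ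
  · intro Q _ hQ
    have := hQ
    obtain ⟨c, s, cols, h, hh, hdiv, hmem⟩ :=
      LocalJacobian.exists_good_minor (Ideal.span {π ^ 2}) f φ hφ hker (Q.comap ψ)
    have hmem' : ∀ j, ∃ (G : Fin c → MvPolynomial (Fin n) R) (r : MvPolynomial (Fin n) R),
        h * f j = ∑ l, G l * f (s l) + MvPolynomial.C (π ^ 2) * r := fun j => by
      obtain ⟨a, ha, b, hb, hab⟩ := Submodule.mem_sup.1 (hmem j)
      obtain ⟨G, rfl⟩ := (Submodule.mem_span_range_iff_exists_fun _).1 ha
      rw [Ideal.map_span, Set.image_singleton, Ideal.mem_span_singleton] at hb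
      obtain ⟨r, rfl⟩ := hb
      exact ⟨G, r, by simpa [smul_eq_mul] using hab.symm⟩
    choose G r hGr using hmem'
    have := smooth_away_minor π f hR s cols h hdiv G r hGr
    refine isSmoothAt_of_smooth_away (h := aeval (dx π f) h) _ fun hmemQ => hh ?_
    show ψ (φ h) ∈ Q
    rw [hψ]
    exact hmemQ

end Groth.Agent.Lib.Smoothing.Lifting
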