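import Groth.Prelude.Def_Smoothing
import Groth.Agent.Lib.Smoothing.LiftOnce
import Mathlib.RingTheory.Flat.EquationalCriterion
import Mathlib.RingTheory.Finiteness.Projective
import Mathlib.RingTheory.TensorProduct.Quotient

/-!
# Ind-smoothness lifts along square zero ideals
-/

universe u

open MvPolynomial TensorProduct

namespace Groth.Agent.Lib.Smoothing.SquareZero

theorem mul_eq_zero_of_mem {S : Type*} [CommRing S] {J : Ideal S} (hJ : J ^ 2 = ⊥) {x y : S}
    (hx : x ∈ J) (hy : y ∈ J) : x * y = 0 := by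
  rw [← Ideal.mem_bot, ← hJ, pow_two]
  exact Ideal.mul_mem_mul hx hy

theorem map_sq_eq_bot {R S : Type*} [CommRing R] [CommRing S] (f : R →+* S) {I : Ideal R}
    (hI : I ^ 2 = ⊥) : I.map f ^ 2 = ⊥ := by
  rw [← Ideal.map_pow, hI, Ideal.map_bot]

set_option maxHeartbeats 800000 in
/-- A map `B → P → Λ` from a smooth algebra through a finitely presented one is, exactly, a map
through a smooth algebra `C` whose reduction receives the reduction of `P`. -/
theorem smooth_factor {R Λ B P : Type u} [CommRing R] [CommRing Λ] [Algebra R Λ] (I : Ideal R)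
    (hI : I ^ 2 = ⊥) (h : _root_.Smoothing.IndSmooth (R ⧸ I) (Λ ⧸ I.map (algebraMap R Λ)))
    [CommRing B] [Algebra R B] [Algebra.Smooth R B] [CommRing P] [Algebra R P]
    [Algebra.FinitePresentation R P] (ι : B →ₐ[R] P) (ψ : P →ₐ[R] Λ) :
    ∃ (C : Type u) (_ : CommRing C) (_ : Algebra R C), Algebra.Smooth R C ∧
      ∃ (α : B →ₐ[R] C) (θ : C →ₐ[R] Λ) (τ : P →ₐ[R] C ⧸ I.map (algebraMap R C)),
        (∀ b, Ideal.Quotient.mk _ (α b) = τ (ι b)) ∧ θ.comp α = ψ.comp ι := by
  classical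
  let IΛ := I.map (algebraMap R Λ)
  let ψb : (R ⧸ I) ⊗[R] P →ₐ[R ⧸ I] Λ ⧸ IΛ :=
    Algebra.TensorProduct.lift (Algebra.ofId _ _) ((Ideal.Quotient.mkₐ R IΛ).comp ψ)
      fun _ _ => Commute.all _ _
  obtain ⟨Cb, _, _, hCb, gb, hb, hgb⟩ := h ((R ⧸ I) ⊗[R] P) inferInstance ψb
  obtain ⟨C₀, _, _, hC₀, ⟨e⟩⟩ := LiftSmooth.exists_lift (A₀ := Cb) I
  let IC := I.map (algebraMap R C₀)
  obtain ⟨θ, hθ⟩ := Algebra.FormallySmooth.comp_surjective R C₀ IΛ (map_sq_eq_bot _ hI)
    (((hb.comp e.toAlgHom).restrictScalars R).comp (Ideal.Quotient.mkₐ R IC))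
  have hθ' : ∀ x, Ideal.Quotient.mk IΛ (θ x) = hb (e (Ideal.Quotient.mk IC x)) := fun x =>
    DFunLike.congr_fun hθ x
  let τ₀ : P →ₐ[R] C₀ ⧸ IC :=
    ((e.symm.toAlgHom.comp gb).restrictScalars R).comp Algebra.TensorProduct.includeRight
  obtain ⟨α, hα⟩ := Algebra.FormallySmooth.comp_surjective R B IC (map_sq_eq_bot _ hI) (τ₀.comp ι)
  have hα' : ∀ b, Ideal.Quotient.mk IC (α b) = τ₀ (ι b) := fun b => DFunLike.congr_fun hα b
  let θα := θ.comp α
  have hD : ∀ b, ψ (ι b) - θα b ∈ IΛ := fun b => by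
    rw [← Ideal.Quotient.eq_zero_iff_mem, map_sub, sub_eq_zero]
    show _ = Ideal.Quotient.mk IΛ (θ (α b))
    rw [hθ', hα']
    show _ = hb (e (e.symm (gb ((1 : R ⧸ I) ⊗ₜ ι b))))
    rw [e.apply_symm_apply]
    refine Eq.trans ?_ (DFunLike.congr_fun hgb _).symm
    simp [ψb]
  letI : Algebra B Λ := θα.toRingHom.toAlgebra
  haveI : IsScalarTower R B Λ := IsScalarTower.of_algebraMap_eq fun r => (θα.commutes r).symm
  let D : Derivation R B Λ := Derivation.mk'
      { toFun := fun b => ψ (ι b) - θα b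
        map_add' := fun x y => by rw [map_add, map_add, map_add]; ring
        map_smul' := fun r x => by rw [map_smul, map_smul, map_smul, RingHom.id_apply, smul_sub] }
      fun x y => by
        show ψ (ι (x * y)) - θα (x * y) = θα x * (ψ (ι y) - θα y) + θα y * (ψ (ι x) - θα x)
        have h0 := mul_eq_zero_of_mem (map_sq_eq_bot _ hI) (hD x) (hD y)
        rw [map_mul, map_mul, map_mul]
        linear_combination h0
  have hDb : ∀ b, D b = ψ (ι b) - θα b := fun b => rfl
  obtain ⟨n, F, g, -, -, hFg⟩ := Module.Finite.exists_comp_eq_id_of_projective B Ω[B⁄R]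
  let L := D.liftKaehlerDifferential
  have hL : ∀ ω, L ω ∈ IΛ := by
    intro ω
    have hω : ω ∈ Submodule.span B (Set.range (KaehlerDifferential.D R B)) := by
      rw [KaehlerDifferential.span_range_derivation]; trivial
    induction hω using Submodule.span_induction with
    | mem y hy =>
      obtain ⟨b, rfl⟩ := hy
      rw [Derivation.liftKaehlerDifferential_comp_D, hDb]
      exact hD b
    | zero => rw [map_zero]; exact zero_mem _
    | add x y _ _ hx hy => rw [map_add]; exact add_mem hx hy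
    | smul a x _ hx => rw [map_smul]; exact Ideal.mul_mem_left _ _ hx
  choose p co gen hgen using fun m : Fin n => Submodule.mem_span_set'.1 (hL (F (Pi.single m 1)))
  choose r hr hrg using fun m j => (gen m j).2
  let σ := Σ m : Fin n, Fin (p m)
  let C := MvPolynomial σ C₀
  have : Algebra.Smooth C₀ C := ⟨inferInstance, inferInstance⟩
  have hC : Algebra.Smooth R C := Algebra.Smooth.comp R C₀ C
  let ICC := I.map (algebraMap R C)
  have hCR : ∀ x : R, algebraMap R C x = MvPolynomial.C (algebraMap R C₀ x) := fun x => by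
    rw [IsScalarTower.algebraMap_apply R C₀ C, MvPolynomial.algebraMap_eq]
  let co' : B → Fin n → C := fun b m =>
    MvPolynomial.C (α (g (KaehlerDifferential.D R B b) m))
  let ε : B → C := fun b => ∑ m, ∑ j : Fin (p m), algebraMap R C (r m j) * (co' b m * X (⟨m, j⟩ : σ))
  have hε : ∀ b, ε b ∈ ICC := fun b => Submodule.sum_mem _ fun m _ => Submodule.sum_mem _ fun j _ =>
    Ideal.mul_mem_right _ _ (Ideal.mem_map_of_mem _ (hr m j))
  have hεmul : ∀ x y, ε (x * y) = MvPolynomial.C (α x) * ε y + MvPolynomial.C (α y) * ε x := by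
    intro x y
    simp only [ε, co', Derivation.leibniz, map_add, map_smul, Pi.add_apply, Pi.smul_apply, smul_eq_mul,
      map_mul, Finset.mul_sum, ← Finset.sum_add_distrib]
    exact Finset.sum_congr rfl fun m _ => Finset.sum_congr rfl fun j _ => by ring
  let α' : B →ₐ[R] C :=
    { toFun := fun b => MvPolynomial.C (α b) + ε b
      map_one' := by simp [ε, co']
      map_zero' := by simp [ε, co']
      map_add' := fun x y => by
        simp only [ε, co', map_add, Pi.add_apply, add_mul, mul_add, Finset.sum_add_distrib]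
        ring
      map_mul' := fun x y => by
        have h0 := mul_eq_zero_of_mem (map_sq_eq_bot (algebraMap R C) hI) (hε x) (hε y)
        show MvPolynomial.C (α (x * y)) + ε (x * y) =
          (MvPolynomial.C (α x) + ε x) * (MvPolynomial.C (α y) + ε y)
        rw [hεmul, map_mul α, map_mul MvPolynomial.C]
        linear_combination -h0
      commutes' := fun c => by simp [ε, co', hCR] }
  let θ' : C →ₐ[R] Λ :=
    { eval₂Hom θ.toRingHom (fun s : σ => co s.1 s.2) with
      commutes' := fun t => by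
        show eval₂Hom θ.toRingHom _ (algebraMap R C t) = _
        rw [hCR, eval₂Hom_C]
        exact θ.commutes t }
  have hθ'C : ∀ x, θ' (MvPolynomial.C x) = θ x := fun x => eval₂Hom_C _ _ x
  have hθ'X : ∀ s : σ, θ' (X s) = co s.1 s.2 := fun s => eval₂Hom_X' _ _ s
  let q : C₀ ⧸ IC →ₐ[R] C ⧸ ICC :=
    Ideal.Quotient.liftₐ IC ((Ideal.Quotient.mkₐ R ICC).comp (IsScalarTower.toAlgHom R C₀ C)) (by
      show IC ≤ RingHom.ker _
      refine Ideal.map_le_iff_le_comap.2 fun x hx => ?_
      show Ideal.Quotient.mk ICC (algebraMap C₀ C (algebraMap R C₀ x)) = 0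
      rw [← IsScalarTower.algebraMap_apply, Ideal.Quotient.eq_zero_iff_mem]
      exact Ideal.mem_map_of_mem _ hx)
  refine ⟨C, inferInstance, inferInstance, hC, α', θ', q.comp τ₀, fun b => ?_, ?_⟩
  · show Ideal.Quotient.mk ICC (MvPolynomial.C (α b) + ε b) = q (τ₀ (ι b))
    rw [map_add, Ideal.Quotient.eq_zero_iff_mem.2 (hε b), add_zero, ← hα']
    rfl
  · refine AlgHom.ext fun b => ?_
    show θ' (MvPolynomial.C (α b) + ε b) = ψ (ι b)
    have h1 : L (KaehlerDifferential.D R B b) = θ' (ε b) := by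
      conv_lhs => rw [← show F (g (KaehlerDifferential.D R B b)) = KaehlerDifferential.D R B b from
        LinearMap.congr_fun hFg _, pi_eq_sum_univ' (g (KaehlerDifferential.D R B b))]
      simp only [ε, co', map_sum, map_mul, map_smul, hθ'C, hθ'X, AlgHom.commutes]
      refine Finset.sum_congr rfl fun m _ => ?_
      rw [← hgen]
      show θα _ * _ = _
      rw [Finset.mul_sum]
      refine Finset.sum_congr rfl fun j _ => ?_
      rw [smul_eq_mul, hrg]
      show θ (α _) * _ = _
      ring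
    rw [map_add, hθ'C, ← h1, Derivation.liftKaehlerDifferential_comp_D, hDb]
    show θ (α b) + (ψ (ι b) - θ (α b)) = _
    ring

/-- Killing a finitely generated ideal inside `I B`. -/
theorem exists_kill {R Λ B : Type u} [CommRing R] [CommRing Λ] [Algebra R Λ] [Module.Flat R Λ]
    (I : Ideal R) (hI : I ^ 2 = ⊥)
    (h : _root_.Smoothing.IndSmooth (R ⧸ I) (Λ ⧸ I.map (algebraMap R Λ)))
    [CommRing B] [Algebra R B] [Algebra.Smooth R B] (φ : B →ₐ[R] Λ) (J : Ideal B)
    (hJ : J ≤ I.map (algebraMap R B)) (hJfg : J.FG) (hφJ : ∀ x ∈ J, φ x = 0) :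
    ∃ (B' : Type u) (_ : CommRing B') (_ : Algebra R B'), Algebra.Smooth R B' ∧
      ∃ (α : B →ₐ[R] B') (β : B' →ₐ[R] Λ), (∀ x ∈ J, α x = 0) ∧ β.comp α = φ := by
  classical
  obtain ⟨c, v, hv⟩ := Submodule.fg_iff_exists_fin_generating_family.1 hJfg
  have hvJ : ∀ k, v k ∈ J := fun k => hv.le (Submodule.subset_span ⟨k, rfl⟩)
  choose m co gen hgen using fun k => Submodule.mem_span_set'.1 (hJ (hvJ k))
  choose r hr hrg using fun k j => (gen k j).2
  have hvsum : ∀ k, v k = ∑ j, r k j • co k j := fun k => by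
    rw [← hgen k]
    refine Finset.sum_congr rfl fun j _ => ?_
    rw [← hrg, smul_eq_mul, mul_comm]
    exact (Algebra.smul_def _ _).symm
  have hrel : ∀ k, ∑ j, r k j • φ (co k j) = 0 := fun k => by
    rw [← hφJ _ (hvJ k), hvsum k, map_sum]
    exact Finset.sum_congr rfl fun j _ => (map_smul φ _ _).symm
  choose s a y ha hya using fun k => Module.Flat.isTrivialRelation_of_sum_smul_eq_zero (hrel k)
  let σ := Σ k : Fin c, Fin (s k)
  let BY := MvPolynomial σ B
  let rels : (Σ k : Fin c, Fin (m k)) → BY := fun kj =>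
    MvPolynomial.C (co kj.1 kj.2) - ∑ l, a kj.1 kj.2 l • X (⟨kj.1, l⟩ : σ)
  let K : Ideal BY := Ideal.span (Set.range rels)
  let P := BY ⧸ K
  have : Algebra.FinitePresentation R BY := Algebra.FinitePresentation.trans R B BY
  have : Algebra.FinitePresentation R P :=
    Algebra.FinitePresentation.quotient (Submodule.fg_span (Set.finite_range _))
  let ι : B →ₐ[R] P := (Ideal.Quotient.mkₐ R K).comp (IsScalarTower.toAlgHom R B BY)
  let ψ₀ : BY →ₐ[R] Λ :=
    { eval₂Hom φ.toRingHom (fun t : σ => y t.1 t.2) with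
      commutes' := fun t => by
        show eval₂Hom φ.toRingHom _ (algebraMap R BY t) = _
        rw [IsScalarTower.algebraMap_apply R B BY, MvPolynomial.algebraMap_eq, eval₂Hom_C]
        exact φ.commutes t }
  have hψC : ∀ x, ψ₀ (MvPolynomial.C x) = φ x := fun x => eval₂Hom_C _ _ x
  have hψX : ∀ t : σ, ψ₀ (X t) = y t.1 t.2 := fun t => eval₂Hom_X' _ _ t
  have hK : K ≤ RingHom.ker ψ₀ := by
    rw [Ideal.span_le]
    rintro _ ⟨⟨k, j⟩, rfl⟩
    show ψ₀ (rels ⟨k, j⟩) = 0
    simp only [rels, map_sub, map_sum, map_smul, hψC, hψX, ← ha, sub_self]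
  let ψ : P →ₐ[R] Λ := Ideal.Quotient.liftₐ K ψ₀ hK
  obtain ⟨C, _, _, hC, α, θ, τ, hτ, hcomp⟩ := smooth_factor I hI h ι ψ
  refine ⟨C, inferInstance, inferInstance, hC, α, θ, ?_, hcomp.trans (AlgHom.ext fun x => hψC x)⟩
  suffices J ≤ RingHom.ker α from fun x hx => this hx
  rw [← hv, Submodule.span_le]
  rintro _ ⟨k, rfl⟩
  show α (v k) = 0
  choose Y hY using fun l => Ideal.Quotient.mk_surjective (τ (Ideal.Quotient.mk K (X (⟨k, l⟩ : σ))))
  rw [hvsum, map_sum]
  have hj : ∀ j, r k j • α (co k j) = ∑ l, (r k j * a k j l) • Y l := by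
    intro j
    have hmem : α (co k j) - ∑ l, a k j l • Y l ∈ I.map (algebraMap R C) := by
      rw [← Ideal.Quotient.eq_zero_iff_mem, map_sub, hτ, map_sum, sub_eq_zero]
      have h1 : ι (co k j) = ∑ l, a k j l • Ideal.Quotient.mk K (X (⟨k, l⟩ : σ)) := by
        have h0 : Ideal.Quotient.mkₐ R K (rels ⟨k, j⟩) = 0 :=
          Ideal.Quotient.eq_zero_iff_mem.2 (Ideal.subset_span ⟨_, rfl⟩)
        simp only [rels, map_sub, map_sum, map_smul, sub_eq_zero] at h0
        exact h0
      rw [h1, map_sum]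
      refine Finset.sum_congr rfl fun l _ => ?_
      rw [map_smul, ← hY l]
      exact (map_smul (Ideal.Quotient.mkₐ R (I.map (algebraMap R C))) (a k j l) (Y l)).symm
    have h0 := mul_eq_zero_of_mem (map_sq_eq_bot (algebraMap R C) hI)
      (Ideal.mem_map_of_mem _ (hr k j)) hmem
    rw [← Algebra.smul_def, smul_sub, sub_eq_zero] at h0
    rw [h0, Finset.smul_sum]
    exact Finset.sum_congr rfl fun l _ => smul_smul _ _ _
  rw [Finset.sum_congr rfl fun j _ => (map_smul α _ _).trans (hj j), Finset.sum_comm]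
  refine Finset.sum_eq_zero fun l _ => ?_
  rw [← Finset.sum_smul, hya, zero_smul]

theorem indSmooth_of_sq_zero {R Λ : Type u} [CommRing R] [CommRing Λ] [Algebra R Λ]
    [Module.Flat R Λ] (I : Ideal R) (hI : I ^ 2 = ⊥)
    (h : _root_.Smoothing.IndSmooth (R ⧸ I) (Λ ⧸ I.map (algebraMap R Λ))) :
    _root_.Smoothing.IndSmooth R Λ := by
  intro A _ _ hA f
  obtain ⟨B, _, _, hB, J, hJ, hJfg, g, k, hk⟩ := LiftOnce.lift_once I hI h f
  obtain ⟨B', _, _, hB', α, β, hαJ, hβ⟩ := exists_kill I hI h (k.comp (Ideal.Quotient.mkₐ R J)) J hJ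
    hJfg (fun x hx => by
      show k (Ideal.Quotient.mk J x) = 0
      rw [Ideal.Quotient.eq_zero_iff_mem.2 hx, map_zero])
  refine ⟨B', inferInstance, inferInstance, hB', (Ideal.Quotient.liftₐ J α hαJ).comp g, β,
    AlgHom.ext fun x => ?_⟩
  obtain ⟨b, hb⟩ := Ideal.Quotient.mk_surjective (g x)
  show β (Ideal.Quotient.liftₐ J α hαJ (g x)) = f x
  rw [← hk, AlgHom.comp_apply, ← hb]
  exact DFunLike.congr_fun hβ b

end Groth.Agent.Lib.Smoothing.SquareZero
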