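import Groth.Prelude.Def_Smoothing
import Groth.Agent.Lib.Smoothing.Minors
import Groth.Agent.Lib.Smoothing.FreeCotangent
import Mathlib.RingTheory.Localization.BaseChange
import Mathlib.RingTheory.Localization.Integer
import Mathlib.LinearAlgebra.Basis.SMul
import Mathlib.RingTheory.Localization.Ideal

/-!
# Smooth with stably free differentials implies strictly standard
-/

universe u

open MvPolynomial TensorProduct

namespace Groth.Agent.Lib.Smoothing.StablyFree

variable {R A : Type u} [CommRing R] [CommRing A] [Algebra R A]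

theorem zero_isStrictlyStandard {n : ℕ} (φ : MvPolynomial (Fin n) R →ₐ[R] A)
    (hφ : Function.Surjective φ) (hfg : (RingHom.ker φ.toRingHom).FG) :
    _root_.Smoothing.IsStrictlyStandard R A 0 := by
  obtain ⟨m, f, hf⟩ := Submodule.fg_iff_exists_fin_generating_family.1 hfg
  refine ⟨⟨n, m, 0, Nat.zero_le _, Nat.zero_le _, f, φ, hφ, hf.symm⟩, zero_mem _, ?_⟩
  intro a' ha' j _
  refine Ideal.mem_sup_right ?_
  rw [pow_two]
  refine Ideal.mul_mem_mul ?_ (Ideal.subset_span ⟨j, rfl⟩)
  have h1 : a' ∈ RingHom.ker φ.toRingHom := ha'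
  exact hf.ge h1

set_option maxHeartbeats 800000 in
theorem pow_isStrictlyStandard [Algebra.FinitePresentation R A] (a : A)
    [Algebra.Smooth R (Localization.Away a)] (p q : ℕ)
    (e : (Ω[Localization.Away a⁄R] × (Fin p → Localization.Away a)) ≃ₗ[Localization.Away a]
      (Fin q → Localization.Away a)) :
    ∃ e₀ : ℕ, ∀ n : ℕ, e₀ ≤ n → _root_.Smoothing.IsStrictlyStandard R A (a ^ n) := by
  classical
  obtain ⟨n, φ₀, hφ₀, hker₀⟩ := ‹Algebra.FinitePresentation R A›.out
  let T := Localization.Away a
  rcases subsingleton_or_nontrivial T with hT | hT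
  · -- `a` is nilpotent
    have h0 : (0 : A) ∈ Submonoid.powers a :=
      IsLocalization.subsingleton_iff (S := T) (M := Submonoid.powers a) |>.1 hT
    obtain ⟨k, hk⟩ := h0
    refine ⟨k, fun m hm => ?_⟩
    rw [show a ^ m = 0 from pow_eq_zero_of_le hm hk]
    exact zero_isStrictlyStandard φ₀ hφ₀ hker₀
  have hpq : p ≤ q := by
    refine le_of_fin_surjective T ((LinearMap.snd T _ _).comp e.symm.toLinearMap) ?_
    exact Prod.snd_surjective.comp e.symm.surjective
  let v : Fin (n + q) → A := Fin.append (fun i => φ₀ (X i)) 0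
  let φ : MvPolynomial (Fin (n + q)) R →ₐ[R] A := aeval v
  have hφ : Function.Surjective φ := by
    intro x
    obtain ⟨P, rfl⟩ := hφ₀ x
    refine ⟨rename (Fin.castAdd q) P, ?_⟩
    have h2 : (φ.comp (rename (Fin.castAdd q))) = φ₀ :=
      algHom_ext fun i => by simp [φ, v]
    exact DFunLike.congr_fun h2 P
  have hfg : (RingHom.ker φ.toRingHom).FG := Algebra.FinitePresentation.ker_fG_of_surjective φ hφ
  obtain ⟨m, f, hf⟩ := Submodule.fg_iff_exists_fin_generating_family.1 hfg
  let G : Algebra.Generators R A (Fin (n + q)) := Algebra.Generators.ofSurjective v hφ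
  have hmap : ∀ P : G.Ring, algebraMap G.Ring A P = φ P := fun P => by
    rw [Algebra.Generators.algebraMap_apply]; rfl
  have hkerG : ∀ P : G.Ring, P ∈ G.toExtension.ker ↔ φ P = 0 := fun P => by
    show algebraMap G.Ring A P = 0 ↔ _
    rw [hmap]
  obtain ⟨b⟩ := FreeCotangent.nonempty_basis T G (fun j => by simp [G, Algebra.Generators.ofSurjective, v])
    (Submonoid.powers a) e
  let j : G.toExtension.Cotangent →ₗ[A] T ⊗[A] G.toExtension.Cotangent :=
    TensorProduct.mk A T _ 1
  have hj : IsLocalizedModule (Submonoid.powers a) j :=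
    (isLocalizedModule_iff_isBaseChange (Submonoid.powers a) T _).2 (TensorProduct.isBaseChange _ _ _)
  -- scale the basis into the image of the kernel
  choose z hz using fun k => IsLocalizedModule.surj (Submonoid.powers a) j (b k)
  let w : Fin (n + p) → T := fun k => algebraMap A T ((z k).2 : A)
  have hw : ∀ k, IsUnit (w k) := fun k => IsLocalization.map_units T (z k).2
  let b' := b.isUnitSMul hw
  have hb' : ∀ k, b' k = 1 ⊗ₜ (z k).1 := fun k => by
    rw [Module.Basis.isUnitSMul_apply, algebraMap_smul]
    exact hz k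
  choose h hh using fun k => Algebra.Extension.Cotangent.mk_surjective (z k).1
  let rel : Fin (n + p + m) → MvPolynomial (Fin (n + q)) R := Fin.append (fun k => (h k).1) f
  have hrelL : ∀ k, rel (Fin.castAdd m k) = (h k).1 := fun k => Fin.append_left _ _ k
  have hrelR : ∀ k, rel (Fin.natAdd (n + p) k) = f k := fun k => Fin.append_right _ _ k
  have hrelker : ∀ i, rel i ∈ RingHom.ker φ.toRingHom := by
    intro i
    induction i using Fin.addCases with
    | left k => exact (hrelL k).symm ▸ (hkerG _).1 (h k).2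
    | right k =>
      have : f k ∈ RingHom.ker φ.toRingHom := hf ▸ Ideal.subset_span ⟨k, rfl⟩
      exact (hrelR k).symm ▸ this
  have hrel : RingHom.ker φ.toRingHom = Ideal.span (Set.range rel) := by
    refine le_antisymm ?_ (Ideal.span_le.2 (by rintro _ ⟨i, rfl⟩; exact hrelker i))
    rw [← hf]
    exact Ideal.span_le.2 (by rintro _ ⟨k, rfl⟩; exact Ideal.subset_span ⟨Fin.natAdd _ k, hrelR k⟩)
  let P : _root_.Smoothing.MarkedPresentation R A :=
    ⟨n + q, n + p + m, n + p, Nat.add_le_add_left hpq n, Nat.le_add_right _ _, rel, φ, hφ, hrel⟩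
  -- the Jacobian of the leading relations
  let J : Matrix (Fin (n + p)) (Fin (n + q)) A := Matrix.of fun k i => φ (pderiv i (h k).1)
  obtain ⟨r, hr⟩ := FreeCotangent.exists_retraction T G (Submonoid.powers a)
  let BT := G.cotangentSpaceBasis.baseChange T
  let L : Matrix (Fin (n + q)) (Fin (n + p)) T := Matrix.of fun i k => b'.repr (r (BT i)) k
  have hJL : J.map (algebraMap A T) * L = 1 := by
    ext k k'
    have hcoord : ∀ i, BT.repr (G.toExtension.cotangentComplex.baseChange T (b' k)) i =
        algebraMap A T (J k i) := by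
      intro i
      rw [hb', LinearMap.baseChange_tmul, Module.Basis.baseChange_repr_tmul, ← hh,
        Algebra.Extension.cotangentComplex_mk]
      erw [Algebra.Generators.cotangentSpaceBasis_repr_one_tmul]
      rw [← Algebra.algebraMap_eq_smul_one]
      rfl
    have h1 := congrArg (fun x => b'.repr x k') (hr (b' k))
    beta_reduce at h1
    rw [← BT.sum_repr (G.toExtension.cotangentComplex.baseChange T (b' k))] at h1
    rw [map_sum, map_sum, Finset.sum_apply', b'.repr_self] at h1
    simp only [map_smul, Finsupp.smul_apply, smul_eq_mul, hcoord] at h1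
    simp only [Matrix.mul_apply, Matrix.map_apply, L, Matrix.of_apply]
    rw [h1, Matrix.one_apply, Finsupp.single_apply]
  -- a power of `a` is a combination of minors
  let I : Ideal A := Ideal.span (Set.range fun cols : Fin (n + p) → Fin (n + q) =>
    φ (_root_.Smoothing.jacobianMinor rel (Fin.castLE (Nat.le_add_right _ _)) cols))
  have hI : ∃ k, a ^ k ∈ I := by
    have htop : I.map (algebraMap A T) = ⊤ := by
      rw [Ideal.map_span, eq_top_iff, ← Minors.span_minors_eq_top _ L hJL]
      refine Ideal.span_mono ?_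
      rintro _ ⟨cols, rfl⟩
      refine ⟨_, ⟨cols, rfl⟩, ?_⟩
      show ((algebraMap A T).comp φ.toRingHom) (_root_.Smoothing.jacobianMinor rel _ cols) = _
      rw [_root_.Smoothing.jacobianMinor, RingHom.map_det]
      congr 1
      ext k k'
      have : rel (Fin.castLE (Nat.le_add_right (n + p) m) k) = (h k).1 := hrelL k
      exact congrArg (fun x => algebraMap A T (φ (pderiv (cols k') x))) this
    by_contra hcon
    rw [not_exists] at hcon
    refine (IsLocalization.map_algebraMap_ne_top_iff_disjoint (Submonoid.powers a) T I).2 ?_ htop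
    rw [Set.disjoint_left]
    rintro _ ⟨k, rfl⟩ hx
    exact hcon k hx
  -- a power of `a` kills the tail
  let S : Submodule A G.toExtension.Cotangent :=
    Submodule.span A (Set.range fun k => Algebra.Extension.Cotangent.mk (h k))
  have hclear : ∀ x : G.toExtension.Cotangent, ∃ k, a ^ k • x ∈ S := by
    intro x
    obtain ⟨⟨d, hd⟩, hint⟩ := IsLocalization.exist_integer_multiples_of_finite
      (Submonoid.powers a) (fun k => b'.repr (j x) k)
    obtain ⟨k₁, rfl⟩ := hd
    choose c hc using hint
    have h2 : j (a ^ k₁ • x) = j (∑ k, c k • Algebra.Extension.Cotangent.mk (h k)) := by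
      rw [map_smul, map_sum]
      conv_lhs => rw [← b'.sum_repr (j x), Finset.smul_sum]
      refine Finset.sum_congr rfl fun k _ => ?_
      rw [map_smul, hh, ← smul_assoc]
      show (a ^ k₁ • b'.repr (j x) k) • b' k = c k • _
      rw [← hc k, algebraMap_smul, hb']
      rfl
    obtain ⟨⟨d, k₂, rfl⟩, hd'⟩ := IsLocalizedModule.exists_of_eq (S := Submonoid.powers a) h2
    refine ⟨k₂ + k₁, ?_⟩
    rw [pow_add, mul_smul]
    have : a ^ k₂ • a ^ k₁ • x = a ^ k₂ • ∑ k, c k • Algebra.Extension.Cotangent.mk (h k) := hd'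
    rw [this]
    exact Submodule.smul_mem _ _ (Submodule.sum_mem _ fun k _ =>
      Submodule.smul_mem _ _ (Submodule.subset_span ⟨k, rfl⟩))
  choose K hK using fun k : Fin m =>
    hclear (Algebra.Extension.Cotangent.mk ⟨f k, (hkerG _).2 (by
      have : f k ∈ RingHom.ker φ.toRingHom := hf ▸ Ideal.subset_span ⟨k, rfl⟩
      exact this)⟩)
  obtain ⟨k₀, hk₀⟩ := hI
  refine ⟨max k₀ (Finset.univ.sup K), fun N hN => ⟨P, ?_, ?_⟩⟩
  · show a ^ N ∈ I
    exact Ideal.mem_of_dvd _ (pow_dvd_pow a ((le_max_left _ _).trans hN)) hk₀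
  · intro a' ha' i hi
    obtain ⟨k, rfl⟩ : ∃ k : Fin m, Fin.natAdd (n + p) k = i := by
      have hi' : n + p ≤ (i : ℕ) := hi
      have hi2 : (i : ℕ) < n + p + m := i.2
      refine ⟨⟨i - (n + p), by omega⟩, ?_⟩
      ext
      simp only [Fin.coe_natAdd]
      omega
    have hfk : f k ∈ G.toExtension.ker := (hkerG _).2 (by
      have : f k ∈ RingHom.ker φ.toRingHom := hf ▸ Ideal.subset_span ⟨k, rfl⟩
      exact this)
    have hNk : K k ≤ N := (Finset.le_sup (Finset.mem_univ k)).trans ((le_max_right _ _).trans hN)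
    let a'' : G.toExtension.Ring := a'
    have hmem : Algebra.Extension.Cotangent.mk (a'' • (⟨f k, hfk⟩ : G.toExtension.ker)) ∈ S := by
      rw [map_smul, ← algebraMap_smul A a'']
      rw [show algebraMap G.toExtension.Ring A a'' = a ^ N from (hmap a').trans ha',
        ← Nat.sub_add_cancel hNk, pow_add, mul_smul]
      exact Submodule.smul_mem _ _ (hK k)
    obtain ⟨c, hc⟩ := Submodule.mem_span_range_iff_exists_fun A |>.1 hmem
    choose c' hc' using fun k' => hφ (c k')
    let c'' : Fin (n + p) → G.toExtension.Ring := c'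
    let hP : Fin (n + p) → MvPolynomial (Fin (n + q)) R := fun k => (h k).1
    have heq : Algebra.Extension.Cotangent.mk
        (a'' • (⟨f k, hfk⟩ : G.toExtension.ker) - ∑ k', c'' k' • h k') = 0 := by
      rw [map_sub, sub_eq_zero, map_sum, ← hc]
      refine Finset.sum_congr rfl fun k' _ => ?_
      rw [map_smul, ← algebraMap_smul A (c'' k'), show algebraMap G.toExtension.Ring A (c'' k') = c k'
        from (hmap _).trans (hc' k')]
    rw [Algebra.Extension.Cotangent.mk_eq_zero_iff] at heq
    have hkerle : G.toExtension.ker ≤ (Ideal.span (Set.range rel) : Ideal G.toExtension.Ring) :=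
      fun x hx => hrel ▸ ((hkerG x).1 hx : φ x = 0)
    have h2 : a' * f k - ∑ k', c' k' * hP k' ∈ Ideal.span (Set.range rel) ^ 2 := by
      have := Ideal.pow_right_mono hkerle 2 heq
      simp only [Submodule.coe_sub, AddSubmonoidClass.coe_finsetSum, Submodule.coe_smul,
        smul_eq_mul] at this
      exact this
    show a' * rel (Fin.natAdd (n + p) k) ∈ _
    rw [show rel (Fin.natAdd (n + p) k) = f k from Fin.append_right _ _ k,
      ← sub_add_cancel (a' * f k) (∑ k', c' k' * hP k')]
    refine Ideal.add_mem _ (Ideal.mem_sup_right h2) (Ideal.mem_sup_left ?_)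
    refine Submodule.sum_mem _ fun k' _ => Ideal.mul_mem_left _ _ (Ideal.subset_span ?_)
    exact ⟨Fin.castAdd m k', k'.2, hrelL k'⟩

end Groth.Agent.Lib.Smoothing.StablyFree
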