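import Groth.Agent.Lib.Smoothing.FreeDiff
import Groth.Agent.Lib.Smoothing.SingularComp
import Groth.Agent.Lib.Smoothing.StablyFree

/-!
# Retracts in which elements of the singular ideal become strictly standard
-/

universe u

open TensorProduct

namespace Groth.Agent.Lib.Smoothing.StrictRetract

variable {R A : Type u} [CommRing R] [CommRing A] [Algebra R A]

set_option maxHeartbeats 800000 in
/-- `Sym(I/I²)` is smooth over `R` where the algebra is. -/
theorem formallySmooth_away {n : ℕ} (G : Algebra.Generators R A (Fin n)) (a : A)
    [Algebra.FormallySmooth R (Localization.Away a)] :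
    Algebra.FormallySmooth R
      (Localization.Away (algebraMap A (SymmetricAlgebra A G.toExtension.Cotangent) a)) := by
  let N := G.toExtension.Cotangent
  let C := SymmetricAlgebra A N
  have : IsScalarTower R A C := IsScalarTower.of_algebraMap_eq fun _ => rfl
  let T := Localization.Away a
  let Ca := Localization.Away (algebraMap A C a)
  have hu : IsUnit (algebraMap A Ca a) := by
    rw [IsScalarTower.algebraMap_apply A C Ca]
    exact IsLocalization.Away.algebraMap_isUnit _
  let _ : Algebra T Ca := (IsLocalization.Away.lift a hu).toAlgebra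
  have : IsScalarTower A T Ca := IsScalarTower.of_algebraMap_eq fun x =>
    (IsLocalization.Away.lift_eq a hu x).symm
  -- the localised cotangent sequence splits
  have hflat : Module.Flat A T := IsLocalization.flat T (Submonoid.powers a)
  obtain ⟨r, hr⟩ := FreeCotangent.exists_retraction T G (Submonoid.powers a)
  let d := G.toExtension.cotangentComplex.baseChange T
  let π := G.toExtension.toKaehler.baseChange T
  have hd : Function.Injective d := Function.LeftInverse.injective hr
  have hex : Function.Exact d π :=
    Module.Flat.lTensor_exact T G.toExtension.exact_cotangentComplex_toKaehler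
  have hπ : Function.Surjective π :=
    LinearMap.lTensor_surjective T G.toExtension.toKaehler_surjective
  have : Algebra.FormallyEtale A T := Algebra.FormallyEtale.of_isLocalization (Submonoid.powers a)
  have : Module.Projective T (T ⊗[A] Ω[A⁄R]) :=
    Module.Projective.of_equiv (KaehlerDifferential.tensorKaehlerEquivOfFormallyEtale R A T).symm
  have : Module.Free A G.toExtension.CotangentSpace := .of_basis G.cotangentSpaceBasis
  have : Module.Projective T (T ⊗[A] N) := Module.Projective.of_split d r (LinearMap.ext hr)
  -- `C_a` is formally smooth over `A`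
  have : Algebra.FormallySmooth A Ca := by
    refine Algebra.FormallySmooth.of_comp_surjective fun D _ _ I hI g => ?_
    have huD : IsUnit (algebraMap A D a) := by
      rw [← IsNilpotent.isUnit_quotient_mk_iff (I := I) ⟨2, hI⟩]
      show IsUnit (algebraMap A (D ⧸ I) a)
      rw [← g.commutes a]
      exact hu.map g
    let _ : Algebra T D := (IsLocalization.Away.lift a huD).toAlgebra
    have : IsScalarTower A T D := IsScalarTower.of_algebraMap_eq fun x =>
      (IsLocalization.Away.lift_eq a huD x).symm
    obtain ⟨l, hl⟩ := Module.projective_lifting_property (Ideal.Quotient.mkₐ T I).toLinearMap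
      (LinearMap.liftBaseChange T
        (((g.comp (IsScalarTower.toAlgHom A C Ca)).toLinearMap).comp (SymmetricAlgebra.ι A N)))
      (Ideal.Quotient.mkₐ_surjective T I)
    let G' : C →ₐ[A] D :=
      SymmetricAlgebra.lift ((l.restrictScalars A).comp (TensorProduct.mk A T N 1))
    have hG' : ∀ y : Submonoid.powers (algebraMap A C a), IsUnit (G' y) := by
      rintro ⟨_, k, rfl⟩
      show IsUnit (G' (algebraMap A C a ^ k))
      rw [map_pow, G'.commutes]
      exact huD.pow k
    let Lft : Ca →ₐ[A] D :=
      IsLocalization.liftAlgHom (M := Submonoid.powers (algebraMap A C a)) (f := G') hG'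
    have hL : ∀ c, Lft (algebraMap C Ca c) = G' c := fun c => IsLocalization.lift_eq hG' c
    refine ⟨Lft, IsLocalization.algHom_ext (Submonoid.powers (algebraMap A C a)) ?_⟩
    refine SymmetricAlgebra.algHom_ext (LinearMap.ext fun m => ?_)
    have h1 := LinearMap.congr_fun hl ((1 : T) ⊗ₜ m)
    simp only [LinearMap.comp_apply, AlgHom.toLinearMap_apply, LinearMap.liftBaseChange_tmul,
      one_smul] at h1
    show Ideal.Quotient.mk I (Lft (algebraMap C Ca (SymmetricAlgebra.ι A N m))) =
      g (algebraMap C Ca (SymmetricAlgebra.ι A N m))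
    rw [hL, show G' (SymmetricAlgebra.ι A N m) = l ((1 : T) ⊗ₜ m) from
      SymmetricAlgebra.lift_ι_apply _ _]
    exact h1
  have : Algebra.FormallySmooth T Ca := Algebra.FormallySmooth.localization_base (R := A) (Submonoid.powers a)
  have : IsScalarTower R T Ca := IsScalarTower.of_algebraMap_eq fun r => by
    rw [IsScalarTower.algebraMap_apply R A Ca, IsScalarTower.algebraMap_apply R A T,
      ← IsScalarTower.algebraMap_apply A T Ca]
  exact Algebra.FormallySmooth.comp R T Ca

/-- Finitely many elements of the singular ideal have a common power which is strictly standard in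
some algebra retracting onto the given one. -/
theorem exists_retract [IsNoetherianRing R] [Algebra.FinitePresentation R A] {d : ℕ}
    (x : Fin d → A) (hx : ∀ i, x i ∈ _root_.Smoothing.singularIdeal R A) :
    ∃ (C : Type u) (_ : CommRing C) (_ : Algebra R C) (ι : A →ₐ[R] C) (r : C →ₐ[R] A) (M : ℕ),
      Algebra.FinitePresentation R C ∧ r.comp ι = AlgHom.id R A ∧ 0 < M ∧
      (∀ i, _root_.Smoothing.IsStrictlyStandard R C (ι (x i) ^ M)) ∧
      ∀ a ∈ _root_.Smoothing.singularIdeal R A, ι a ∈ _root_.Smoothing.singularIdeal R C := by
  obtain ⟨n, φ₀, hφ₀, hfg⟩ := ‹Algebra.FinitePresentation R A›.out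
  have haev : ∀ p, MvPolynomial.aeval (R := R) (φ₀ ∘ MvPolynomial.X) p = φ₀ p := fun p =>
    (DFunLike.congr_fun (MvPolynomial.aeval_unique φ₀) p).symm
  let G : Algebra.Generators R A (Fin n) := Algebra.Generators.ofSurjective (φ₀ ∘ MvPolynomial.X)
    fun x => by
      obtain ⟨p, hp⟩ := hφ₀ x
      exact ⟨p, (haev p).trans hp⟩
  have hker : G.toExtension.ker.FG := by
    have : (G.toExtension.ker : Ideal G.toExtension.Ring) =
        (RingHom.ker φ₀.toRingHom : Ideal (MvPolynomial (Fin n) R)) := by
      have hmap : ∀ P : G.Ring, algebraMap G.Ring A P = φ₀ P := fun P => by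
        rw [Algebra.Generators.algebraMap_apply]; exact haev P
      ext p
      exact Iff.of_eq (congrArg (· = 0) (hmap p))
    rw [this]
    exact hfg
  have := Algebra.Extension.Cotangent.finite hker
  let N := G.toExtension.Cotangent
  let C := SymmetricAlgebra A N
  have : IsScalarTower R A C := IsScalarTower.of_algebraMap_eq fun _ => rfl
  have : Algebra.FiniteType A C := by
    obtain ⟨k, p, hp⟩ := Module.Finite.exists_fin' A N
    let π : MvPolynomial (Fin k) A →ₐ[A] C :=
      MvPolynomial.aeval fun i => SymmetricAlgebra.ι A N (p (Pi.single i 1))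
    refine Algebra.FiniteType.of_surjective π ?_
    intro x
    induction x using SymmetricAlgebra.induction with
    | algebraMap r => exact ⟨algebraMap _ _ r, π.commutes r⟩
    | ι m =>
      obtain ⟨c, rfl⟩ := hp m
      refine ⟨∑ i, c i • MvPolynomial.X i, ?_⟩
      conv_rhs => rw [pi_eq_sum_univ' c]
      simp [π]
    | mul x y hx hy =>
      obtain ⟨u, rfl⟩ := hx; obtain ⟨v, rfl⟩ := hy
      exact ⟨u * v, map_mul π u v⟩
    | add x y hx hy =>
      obtain ⟨u, rfl⟩ := hx; obtain ⟨v, rfl⟩ := hy
      exact ⟨u + v, map_add π u v⟩
  have : Algebra.FiniteType R C := Algebra.FiniteType.trans (S := A) inferInstance inferInstance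
  have : Algebra.FinitePresentation R C := Algebra.FinitePresentation.of_finiteType.1 inferInstance
  have hsm : ∀ a ∈ _root_.Smoothing.singularIdeal R A,
      Algebra.Smooth R (Localization.Away (algebraMap A C a)) := fun a ha => by
    have := SingularComp.smooth_away_of_mem ha
    have : Algebra.FormallySmooth R (Localization.Away a) := Algebra.Smooth.formallySmooth
    have : Algebra.FinitePresentation C (Localization.Away (algebraMap A C a)) :=
      IsLocalization.Away.finitePresentation (algebraMap A C a)
    exact ⟨formallySmooth_away G a, Algebra.FinitePresentation.trans R C _⟩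
  have hstd : ∀ i, ∃ e₀ : ℕ, ∀ m, e₀ ≤ m →
      _root_.Smoothing.IsStrictlyStandard R C (algebraMap A C (x i) ^ m) := fun i => by
    have := SingularComp.smooth_away_of_mem (hx i)
    have := hsm _ (hx i)
    have : Algebra.FormallySmooth R (Localization.Away (x i)) := Algebra.Smooth.formallySmooth
    have := FreeDiff.free_away G (x i)
    let b := Module.Free.chooseBasis (Localization.Away (algebraMap A C (x i)))
      Ω[Localization.Away (algebraMap A C (x i))⁄R]
    obtain ⟨q, ⟨σ⟩⟩ := Finite.exists_equiv_fin
      (Module.Free.ChooseBasisIndex (Localization.Away (algebraMap A C (x i)))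
        Ω[Localization.Away (algebraMap A C (x i))⁄R])
    exact StablyFree.pow_isStrictlyStandard (algebraMap A C (x i)) 0 q
      (LinearEquiv.prodUnique.trans (b.reindex σ).equivFun)
  choose e₀ he₀ using hstd
  refine ⟨C, inferInstance, inferInstance, IsScalarTower.toAlgHom R A C,
    SymmetricAlgebra.algebraMapInv.restrictScalars R, ∑ i, e₀ i + 1, inferInstance, ?_,
    Nat.succ_pos _, fun i => he₀ i _ ?_, fun a ha => ?_⟩
  · refine AlgHom.ext fun a => ?_
    exact SymmetricAlgebra.algebraMapInv.commutes a
  · exact (Finset.single_le_sum (fun j _ => Nat.zero_le (e₀ j)) (Finset.mem_univ i)).trans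
      (Nat.le_succ _)
  · rw [SingularComp.mem_singularIdeal_iff]
    intro Q _ hQ
    exact Algebra.basicOpen_subset_smoothLocus_iff_smooth.2 (hsm a ha)
      (show (⟨Q, ‹_›⟩ : PrimeSpectrum C) ∈ PrimeSpectrum.basicOpen (algebraMap A C a) from hQ)

end Groth.Agent.Lib.Smoothing.StrictRetract
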