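import Mathlib.LinearAlgebra.SymmetricAlgebra.Basic
import Mathlib.RingTheory.Smooth.Basic
import Mathlib.RingTheory.FinitePresentation
import Mathlib.Algebra.Module.Projective

/-!
# The symmetric algebra of a direct summand of a finite free module is smooth
-/

universe u

open MvPolynomial

namespace Groth.Agent.Lib.Smoothing.SymSmooth

variable {A : Type u} [CommRing A] {N : Type u} [AddCommGroup N] [Module A N]

theorem formallySmooth [Module.Projective A N] :
    Algebra.FormallySmooth A (SymmetricAlgebra A N) := by
  refine Algebra.FormallySmooth.of_comp_surjective fun C _ _ I _ g => ?_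
  obtain ⟨l, hl⟩ := Module.projective_lifting_property (Ideal.Quotient.mkₐ A I).toLinearMap
    (g.toLinearMap.comp (SymmetricAlgebra.ι A N)) (Ideal.Quotient.mkₐ_surjective A I)
  refine ⟨SymmetricAlgebra.lift l, SymmetricAlgebra.algHom_ext (LinearMap.ext fun m => ?_)⟩
  simpa using LinearMap.congr_fun hl m

theorem smooth {n : ℕ} (φ : N →ₗ[A] (Fin n → A)) (ψ : (Fin n → A) →ₗ[A] N)
    (h : ψ.comp φ = LinearMap.id) : Algebra.Smooth A (SymmetricAlgebra A N) := by
  have : Module.Projective A N := Module.Projective.of_split φ ψ h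
  let π : MvPolynomial (Fin n) A →ₐ[A] SymmetricAlgebra A N :=
    aeval fun i => SymmetricAlgebra.ι A N (ψ (Pi.single i 1))
  let σ : SymmetricAlgebra A N →ₐ[A] MvPolynomial (Fin n) A :=
    SymmetricAlgebra.lift ((Fintype.linearCombination A (fun i => (X i : MvPolynomial (Fin n) A))).comp φ)
  have hπσ : ∀ x, π (σ x) = x := by
    suffices π.comp σ = AlgHom.id A _ from fun x => DFunLike.congr_fun this x
    refine SymmetricAlgebra.algHom_ext (LinearMap.ext fun m => ?_)
    show π (σ (SymmetricAlgebra.ι A N m)) = SymmetricAlgebra.ι A N m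
    conv_rhs => rw [show m = ψ (φ m) from (LinearMap.congr_fun h m).symm, pi_eq_sum_univ' (φ m)]
    simp [σ, π, Fintype.linearCombination_apply]
  let J : Ideal (MvPolynomial (Fin n) A) := Ideal.span (Set.range fun i => X i - σ (π (X i)))
  have hker : RingHom.ker π.toRingHom = J := by
    refine le_antisymm (fun p hp => ?_) (Ideal.span_le.2 ?_)
    · have h2 : (Ideal.Quotient.mkₐ A J).comp (σ.comp π) = Ideal.Quotient.mkₐ A J :=
        algHom_ext fun i => by
          show Ideal.Quotient.mk J (σ (π (X i))) = Ideal.Quotient.mk J (X i)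
          have hi : X i - σ (π (X i)) ∈ J := Ideal.subset_span (Set.mem_range_self i)
          exact ((Ideal.Quotient.mk_eq_mk_iff_sub_mem (X i) (σ (π (X i)))).2 hi).symm
      have h3 := DFunLike.congr_fun h2 p
      rw [AlgHom.comp_apply, AlgHom.comp_apply, show π p = 0 from hp, map_zero, map_zero] at h3
      exact Ideal.Quotient.eq_zero_iff_mem.1 h3.symm
    · rintro _ ⟨i, rfl⟩
      show π (X i - σ (π (X i))) = 0
      rw [map_sub, hπσ, sub_self]
  exact { formallySmooth := formallySmooth
          finitePresentation := Algebra.FinitePresentation.of_surjective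
            (f := π) (fun x => ⟨σ x, hπσ x⟩) (hker ▸ Submodule.fg_span (Set.finite_range _)) }

end Groth.Agent.Lib.Smoothing.SymSmooth
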